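import Cfsg.Agent.FUS.Lm.Mat

/-! # Commuting involutions are simultaneously diagonalisable; weights -/

set_option autoImplicit false

namespace CL.Lm

open Subgroup Cfsg Matrix

variable {K : Type*} [Field K] {ι : Type*} [Fintype ι] [DecidableEq ι]

section
variable {V : Type*} [AddCommGroup V] [Module K V] {f : Module.End K V}

theorem mem_p (h : ∀ v, f (f v) = v) (v : V) : v + f v ∈ f.eigenspace 1 := by
  rw [Module.End.mem_eigenspace_iff, map_add, h, one_smul, add_comm]

theorem mem_m (h : ∀ v, f (f v) = v) (v : V) : v - f v ∈ f.eigenspace (-1) := by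
  rw [Module.End.mem_eigenspace_iff, map_sub, h, neg_smul, one_smul, neg_sub]

theorem eig_pm (h2 : (2 : K) ≠ 0) (h : ∀ v, f (f v) = v) {μ : K} {v : V} (hv : v ∈ f.maxGenEigenspace μ) :
    f v = v ∨ f v = -v := by
  have m : f v ∈ f.maxGenEigenspace μ := Module.End.mapsTo_maxGenEigenspace_of_comm (Commute.refl f) μ hv
  by_cases e : μ = 1
  · exact .inl (sub_eq_zero.1 (Submodule.disjoint_def.1 (f.disjoint_genEigenspace (μ₁ := μ) (μ₂ := -1)
      (fun k => h2 (by linear_combination k - e)) ⊤ 1) _ (sub_mem hv m) (mem_m h v))).symm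
  · exact .inr (eq_neg_of_add_eq_zero_right (Submodule.disjoint_def.1 (f.disjoint_genEigenspace e ⊤ 1) _
      (add_mem hv m) (mem_p h v)))

end

/-- Only finitely many matrices matter (or: induct on the dimension).  One way: on `V = ι → K` the maps `toLin' (x a)` commute and
`V = ker (x a - 1) ⊔ ker (x a + 1)`, so `Module.End.iSup_iInf_maxGenEigenspace_eq_top_of_iSup_maxGenEigenspace_eq_top_of_commute` (or
`..._of_forall_mapsTo`) shows that `V` is spanned by common (generalised = genuine, as `(x-1)(x+1) = 0`, `2 ≠ 0`) eigenvectors; extract a basis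
(`exists_linearIndependent`, `Basis.mk`, reindex by `ι`) and take its vectors as the columns of `g`. -/
theorem diag (h2 : (2 : K) ≠ 0) {α : Type*} (x : α → Matrix ι ι K) (sq : ∀ a, x a * x a = 1)
    (c : ∀ a b, x a * x b = x b * x a) : ∃ g : GL ι K, ∀ a, ∃ I, x a * g.1 = g.1 * sg K I := by
  let f : α → Module.End K (ι → K) := fun a => toLin' (x a)
  have f2 : ∀ a v, f a (f a v) = v := fun a v => by
    simp only [f, toLin'_apply, mulVec_mulVec, sq, one_mulVec]
  have top := Module.End.iSup_iInf_maxGenEigenspace_eq_top_of_iSup_maxGenEigenspace_eq_top_of_commute f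
    (fun a b _ => by simp only [f, Commute, SemiconjBy, Module.End.mul_eq_comp, ← toLin'_mul, c a b]) fun a =>
      eq_top_iff.2 fun v _ => by
        have e : v = (2 : K)⁻¹ • (v + f a v) + (2 : K)⁻¹ • (v - f a v) := by
          rw [← smul_add, add_add_sub_cancel, ← two_smul K, inv_smul_smul₀ h2]
        rw [e]
        exact add_mem (Submodule.smul_mem _ _ (Submodule.mem_iSup_of_mem 1
          (Module.End.eigenspace_le_maxGenEigenspace (mem_p (f2 a) v))))
          (Submodule.smul_mem _ _ (Submodule.mem_iSup_of_mem (-1)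
            (Module.End.eigenspace_le_maxGenEigenspace (mem_m (f2 a) v))))
  have sp : Submodule.span K {v | ∀ a, f a v = v ∨ f a v = -v} = ⊤ := by
    rw [eq_top_iff, ← top]
    exact iSup_le fun χ v hv => Submodule.subset_span fun a => eig_pm h2 (f2 a) ((Submodule.mem_iInf _).1 hv a)
  obtain ⟨b, hb, e, li⟩ := exists_linearIndependent K {v | ∀ a, f a v = v ∨ f a v = -v}
  let B₀ : Module.Basis b K (ι → K) := .mk li (by rw [Subtype.range_coe, e, sp])
  let B := B₀.reindex (B₀.indexEquiv (Pi.basisFun K ι))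
  have hB : ∀ j a, f a (B j) = B j ∨ f a (B j) = -B j := fun j => by
    rw [Module.Basis.reindex_apply, Module.Basis.mk_apply]
    exact hb (Subtype.prop _)
  have := (Pi.basisFun K ι).invertibleToMatrix B
  refine ⟨unitOfInvertible ((Pi.basisFun K ι).toMatrix B), fun a => ?_⟩
  classical
  refine ⟨Finset.univ.filter fun j => f a (B j) = -B j, ?_⟩
  ext i j
  have : (x a * (Pi.basisFun K ι).toMatrix B) i j = f a (B j) i := rfl
  rw [val_unitOfInvertible, this, sg, mul_diagonal, Module.Basis.toMatrix_apply, Pi.basisFun_repr]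
  simp only [Finset.mem_filter, Finset.mem_univ, true_and]
  split_ifs with h
  · rw [h]; simp
  · rw [(hB j a).resolve_right h, mul_one]

theorem diag1 (h2 : (2 : K) ≠ 0) {M : Matrix ι ι K} (sq : M * M = 1) : ∃ (g : GL ι K) (I : Finset ι), M * g.1 = g.1 * sg K I :=
  (diag h2 (fun _ : Unit => M) (fun _ => sq) fun _ _ => rfl).imp fun _ h => h ()

theorem neg_sg (I : Finset ι) : -sg K I = sg K Iᶜ := by
  rw [sg, sg, diagonal_neg]
  congr 1
  ext x
  by_cases h : x ∈ I <;> simp [h]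

omit [DecidableEq ι] in
theorem rank_add_le' (A B : Matrix ι ι K) : (A + B).rank ≤ A.rank + B.rank := by
  refine le_trans (Submodule.finrank_mono ?_) (Submodule.finrank_add_le_finrank_add_finrank _ _)
  rintro _ ⟨v, rfl⟩
  rw [mulVecLin_add]
  exact Submodule.add_mem_sup ⟨v, rfl⟩ ⟨v, rfl⟩

/-- `Matrix.rank_diagonal`. -/
theorem rk_sg (h2 : (2 : K) ≠ 0) (I : Finset ι) : rk (sg K I) = I.card := by
  classical
  have : (-1 - 1 : K) ≠ 0 := fun h => h2 (by linear_combination -h)
  rw [rk, sg, ← diagonal_one, diagonal_sub, rank_diagonal, Fintype.card_subtype]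
  congr 1
  ext x
  by_cases h : x ∈ I <;> simp [h, this]

/-- `(M - 1) g = g (N - 1)`, `rank_mul_eq_left_of_isUnit_det`. -/
theorem rk_conj {M N : Matrix ι ι K} {g : GL ι K} (h : M * g.1 = g.1 * N) : rk M = rk N := by
  have u : IsUnit g.1.det := (isUnit_iff_isUnit_det _).1 g.isUnit
  rw [rk, rk, ← rank_mul_eq_left_of_isUnit_det g.1 _ u, ← rank_mul_eq_right_of_isUnit_det g.1 (N - 1) u, sub_mul, mul_sub,
    h, one_mul, mul_one]

/-- `M N - 1 = (M - 1) N + (N - 1)`. -/
theorem rk_mul_le (M N : Matrix ι ι K) : rk (M * N) ≤ rk M + rk N := by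
  have : M * N - 1 = (M - 1) * N + (N - 1) := by rw [sub_mul, one_mul, sub_add_sub_cancel]
  rw [rk, this]
  exact (rank_add_le' _ _).trans (Nat.add_le_add_right (rank_mul_le_left _ _) _)

/-- `M ^ n - 1 = (∑ M ^ i) (M - 1)`. -/
theorem rk_pow_le (M : Matrix ι ι K) (n : ℕ) : rk (M ^ n) ≤ rk M := by
  rw [rk, ← geom_sum_mul]
  exact rank_mul_le_right _ _

/-- diagonalise; `-sg I = sg Iᶜ`. -/
theorem rk_neg (h2 : (2 : K) ≠ 0) {M : Matrix ι ι K} (sq : M * M = 1) : rk (-M) + rk M = Fintype.card ι := by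
  obtain ⟨g, I, h⟩ := diag1 h2 sq
  rw [rk_conj h, rk_conj (M := -M) (N := sg K Iᶜ) (g := g) (by rw [neg_mul, h, ← neg_sg, mul_neg]), rk_sg h2, rk_sg h2,
    Finset.card_compl_add_card]

/-- diagonalise; `det_sg`. -/
theorem det_eq (h2 : (2 : K) ≠ 0) {M : Matrix ι ι K} (sq : M * M = 1) : M.det = (-1) ^ rk M := by
  obtain ⟨g, I, h⟩ := diag1 h2 sq
  have := congrArg det h
  rw [det_mul, det_mul, mul_comm] at this
  rw [rk_conj h, rk_sg h2, ← det_sg]
  exact ((isUnit_iff_isUnit_det _).1 g.isUnit).mul_left_cancel this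

theorem exists_pm (σ : Equiv.Perm ι) :
    ∃ g : GL ι K, ∀ d : ι → K, diagonal d * g.1 = g.1 * diagonal fun x => d (σ x) := by
  refine ⟨.mkOfDetNeZero ((1 : Matrix ι ι K).submatrix id σ) (by
    rw [det_permute', det_one, mul_one]
    rcases Int.units_eq_one_or (Equiv.Perm.sign σ) with h | h <;> simp [h]), fun d => ?_⟩
  ext i j
  change (diagonal d * (1 : Matrix ι ι K).submatrix id σ) i j =
    ((1 : Matrix ι ι K).submatrix id σ * diagonal (fun x => d (σ x)) : Matrix ι ι K) i j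
  rw [diagonal_mul, mul_diagonal, submatrix_apply, one_apply, id]
  split_ifs with h
  · rw [h, mul_comm]
  · simp

/-- a permutation `σ` with `σ I = J` (`Equiv.Perm.exists_extending_pair` / `Finset.equivOfCardEq` + `Equiv.extendSubtype`), permutation matrix. -/
theorem exists_perm_sg {I J : Finset ι} (h : I.card = J.card) :
    ∃ g : GL ι K, sg K I * g.1 = g.1 * sg K J := by
  obtain ⟨σ, hσ⟩ := Equiv.Perm.exists_map_finset_eq J I h.symm
  obtain ⟨g, hg⟩ := exists_pm (K := K) σ
  refine ⟨g, (hg _).trans ?_⟩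
  subst hσ
  simp [sg]

/-- multiply `g` on the right by `diagonal (det⁻¹, 1, …, 1)`. -/
theorem exists_sl [Nonempty ι] (g : GL ι K) : ∃ (h : SpecialLinearGroup ι K) (d : ι → K), (∀ i, d i ≠ 0) ∧ h.1 = g.1 * diagonal d := by
  obtain ⟨i⟩ := ‹Nonempty ι›
  have u : g.1.det ≠ 0 := ((isUnit_iff_isUnit_det _).1 g.isUnit).ne_zero
  refine ⟨⟨g.1 * diagonal fun x => if x = i then g.1.det⁻¹ else 1, ?_⟩, _, fun x => ?_, rfl⟩
  · rw [det_mul, det_diagonal, Finset.prod_ite_eq', if_pos (Finset.mem_univ _), mul_inv_cancel₀ u]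
  · split_ifs
    exacts [inv_ne_zero u, one_ne_zero]

theorem to_sl [Nonempty ι] (g : GL ι K) : ∃ s : SpecialLinearGroup ι K, ∀ (M : Matrix ι ι K) (d : ι → K),
    M * g.1 = g.1 * diagonal d → M * s.1 = s.1 * diagonal d := by
  obtain ⟨s, e, -, h⟩ := exists_sl g
  refine ⟨s, fun M d k => ?_⟩
  rw [h, ← mul_assoc, k, mul_assoc, mul_assoc, diagonal_mul_diagonal, diagonal_mul_diagonal]
  simp only [mul_comm]

/-- `diag`, `rk_sg`, `exists_perm_sg`, `exists_sl`. -/
theorem conj_sg [Nonempty ι] (h2 : (2 : K) ≠ 0) {M : Matrix ι ι K} (sq : M * M = 1) {J : Finset ι} (h : rk M = J.card) :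
    ∃ g : SpecialLinearGroup ι K, M * g.1 = g.1 * sg K J := by
  obtain ⟨g, I, e⟩ := diag1 h2 sq
  obtain ⟨p, hp⟩ := exists_perm_sg (K := K) (I := I) (J := J) (by rw [← h, rk_conj e, rk_sg h2])
  obtain ⟨s, hs⟩ := to_sl (g * p)
  exact ⟨s, hs _ _ (by rw [Units.val_mul, ← mul_assoc, e, mul_assoc, hp, mul_assoc]; rfl)⟩

/-- `diag` for the family `Y = sg I`, `M`: `Y g = g sg I'`, `|I'| = |I|` (`rk`), correct `g` by `exists_perm_sg` and `exists_sl`
(a permutation matrix conjugates `sg J'` to another sign matrix). -/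
theorem conj_sg2 [Nonempty ι] (h2 : (2 : K) ≠ 0) {M : Matrix ι ι K} (sq : M * M = 1) {I : Finset ι}
    (c : M * sg K I = sg K I * M) :
    ∃ (g : SpecialLinearGroup ι K) (J : Finset ι), sg K I * g.1 = g.1 * sg K I ∧ M * g.1 = g.1 * sg K J := by
  obtain ⟨g, hg⟩ := diag h2 (fun b : Bool => bif b then M else sg K I) (by rintro (_ | _); exacts [sg_sq I, sq])
    (by rintro (_ | _) (_ | _); exacts [rfl, c.symm, c, rfl])
  obtain ⟨I', e⟩ := hg false
  obtain ⟨J', e'⟩ := hg true
  simp only [cond_true, cond_false] at e e'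
  obtain ⟨σ, hσ⟩ := Equiv.Perm.exists_map_finset_eq I I' (by rw [← rk_sg h2 I, rk_conj e, rk_sg h2])
  obtain ⟨p, hp⟩ := exists_pm (K := K) σ
  obtain ⟨s, hs⟩ := to_sl (g * p)
  refine ⟨s, J'.map σ.symm.toEmbedding, hs _ _ ?_, hs _ _ ?_⟩
  · rw [Units.val_mul, ← mul_assoc, e, mul_assoc, sg, hp, mul_assoc, ← hσ]; simp
  · rw [Units.val_mul, ← mul_assoc, e', mul_assoc, sg, hp, mul_assoc]; simp

/-- two elements of `SL` with the same image in `PSL` differ by a scalar (`SpecialLinearGroup.mem_center_iff`). -/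
theorem mk_eq_iff {x y : SpecialLinearGroup ι K} :
    (QuotientGroup.mk x : ProjectiveSpecialLinearGroup ι K) = QuotientGroup.mk y ↔ ∃ c : K, x.1 = c • y.1 := by
  rw [eq_comm, QuotientGroup.eq, Matrix.SpecialLinearGroup.mem_center_iff]
  constructor
  · rintro ⟨r, -, h⟩
    refine ⟨r, ?_⟩
    have : x.1 = y.1 * (y⁻¹ * x).1 := congrArg Subtype.val (mul_inv_cancel_left y x).symm
    rw [this, ← h, scalar_apply, ← smul_one_eq_diagonal, mul_smul_comm, mul_one]
  · rintro ⟨c, h⟩
    have : scalar ι c = (y⁻¹ * x).1 := by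
      change _ = (y⁻¹).1 * x.1
      rw [h, mul_smul_comm, scalar_apply, ← smul_one_eq_diagonal]
      exact congrArg (c • Subtype.val ·) (inv_mul_cancel y).symm
    exact ⟨c, by simpa using (congrArg det this).trans (y⁻¹ * x).2, this⟩

/-- involutions with the same image differ by a sign. -/
theorem mk_eq_sign [Nonempty ι] {x y : SpecialLinearGroup ι K} (hx : x * x = 1) (hy : y * y = 1)
    (h : (QuotientGroup.mk x : ProjectiveSpecialLinearGroup ι K) = QuotientGroup.mk y) : x.1 = y.1 ∨ x.1 = -y.1 := by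
  obtain ⟨c, h⟩ := mk_eq_iff.1 h
  obtain ⟨i⟩ := ‹Nonempty ι›
  have a : x.1 * x.1 = 1 := congrArg Subtype.val hx
  have b : y.1 * y.1 = 1 := congrArg Subtype.val hy
  rw [h, smul_mul_smul_comm, b] at a
  have : c * c = 1 := by simpa using congrFun (congrFun a i) i
  rcases mul_self_eq_one_iff.1 this with rfl | rfl
  · exact .inl (by rw [h, one_smul])
  · exact .inr (by rw [h, neg_smul, one_smul])

theorem rk_conj' {M N : Matrix ι ι K} {g : SpecialLinearGroup ι K} (h : M * g.1 = g.1 * N) : rk M = rk N :=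
  rk_conj (g := SpecialLinearGroup.toGL g) h

theorem rk_cj (g y : SpecialLinearGroup ι K) : rk (g * y * g⁻¹).1 = rk y.1 :=
  rk_conj' (g := g) (congrArg Subtype.val (inv_mul_cancel_right (g * y) g))

theorem conj_iff [Nonempty ι] (h2 : (2 : K) ≠ 0) {s : SpecialLinearGroup ι K} {J : Finset ι} (hs : s.1 = sg K J)
    {x : ProjectiveSpecialLinearGroup ι K} : IsConj (QuotientGroup.mk s) x ↔
      ∃ y : SpecialLinearGroup ι K, QuotientGroup.mk y = x ∧ y * y = 1 ∧ rk y.1 = J.card := by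
  constructor
  · intro h
    obtain ⟨g, rfl⟩ := isConj_iff.1 h
    obtain ⟨g, rfl⟩ := QuotientGroup.mk_surjective g
    have : s * s = 1 := Subtype.ext (by change s.1 * s.1 = 1; rw [hs, sg_sq])
    exact ⟨g * s * g⁻¹, rfl, by rw [conj_mul, this, mul_one, mul_inv_cancel], by rw [rk_cj, hs, rk_sg h2]⟩
  · rintro ⟨y, rfl, sq, h⟩
    obtain ⟨g, hg⟩ := conj_sg h2 (congrArg Subtype.val sq) h
    refine isConj_iff.2 ⟨QuotientGroup.mk g, congrArg QuotientGroup.mk (mul_inv_eq_of_eq_mul (Subtype.ext ?_))⟩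
    change g.1 * s.1 = y.1 * g.1
    rw [hs, hg]

omit [Fintype ι] in
theorem D4.card {i j k l : ι} (h : D4 i j k l) : ({i, j, k, l} : Finset ι).card = 4 := by
  obtain ⟨a, b, c, d, e, f⟩ := h
  rw [Finset.card_insert_of_notMem (by simp [*]), Finset.card_insert_of_notMem (by simp [*]), Finset.card_pair f]

theorem ts_mul_ts {i j k l : ι} (h : D4 i j k l) : (ts K i j * ts K k l).1 = sg K {i, j, k, l} := by
  obtain ⟨a, b, c, d, e, f⟩ := h
  change rf K i * rf K j * (rf K k * rf K l) = _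
  rw [rf_mul, rf_mul, diagonal_mul_diagonal, sg]
  congr 1
  ext x
  by_cases h1 : x = i <;> by_cases h2 : x = j <;> by_cases h3 : x = k <;> by_cases h4 : x = l <;> simp_all

omit [DecidableEq ι] in
theorem exists_d4 (h4 : 4 ≤ Fintype.card ι) : ∃ i j k l : ι, D4 i j k l := by
  obtain ⟨f⟩ := Function.Embedding.nonempty_of_card_le (α := Fin 4) (β := ι) (by simpa using h4)
  exact ⟨f 0, f 1, f 2, f 3, D4.map (by unfold D4; decide) f.injective⟩

/-- `sg_pair`, `conj_sg`. -/
theorem w2_iff [Nontrivial ι] (h2 : (2 : K) ≠ 0) {x : ProjectiveSpecialLinearGroup ι K} :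
    W2 (tp K) x ↔ ∃ y : SpecialLinearGroup ι K, QuotientGroup.mk y = x ∧ y * y = 1 ∧ rk y.1 = 2 := by
  constructor
  · rintro ⟨i, j, e, h⟩
    exact Finset.card_pair e ▸ (conj_iff h2 (sg_pair e).symm).1 h
  · intro h
    obtain ⟨i, j, e⟩ := exists_pair_ne ι
    exact ⟨i, j, e, (conj_iff h2 (sg_pair e).symm).2 (by rwa [Finset.card_pair e])⟩

/-- `ts i j * ts k l = sg {i, j, k, l}`, `conj_sg`. -/
theorem w4_iff (h4 : 4 ≤ Fintype.card ι) (h2 : (2 : K) ≠ 0) {x : ProjectiveSpecialLinearGroup ι K} :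
    W4 (tp K) x ↔ ∃ y : SpecialLinearGroup ι K, QuotientGroup.mk y = x ∧ y * y = 1 ∧ rk y.1 = 4 := by
  have : Nonempty ι := Fintype.card_pos_iff.1 (by omega)
  constructor
  · rintro ⟨i, j, k, l, e, h⟩
    exact e.card ▸ (conj_iff h2 (ts_mul_ts e)).1 h
  · intro h
    obtain ⟨i, j, k, l, e⟩ := exists_d4 h4
    exact ⟨i, j, k, l, e, (conj_iff h2 (ts_mul_ts e)).2 (by rwa [e.card])⟩

/-- `perm`: permutation matrix corrected by `exists_sl`; `ne`, `ne4`: look at diagonal entries (a third index). -/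
theorem fm_ts (h3 : 3 ≤ Fintype.card ι) (h2 : (2 : K) ≠ 0) : Fm (ts K : ι → ι → _) := by
  have : Nonempty ι := Fintype.card_pos_iff.1 (by omega)
  have n : (-1 : K) ≠ 1 := fun h => h2 (by linear_combination -h)
  refine ⟨fun i j k => Subtype.ext ?_, fun i j => Subtype.ext (rf_comm i j), fun σ => ?_, fun i j e h => ?_,
    fun i j k l e h => ?_⟩
  · change rf K i * rf K j * (rf K j * rf K k) = rf K i * rf K k
    rw [mul_assoc, ← mul_assoc (rf K j), rf_sq, one_mul]
  · obtain ⟨p, hp⟩ := exists_pm (K := K) σ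
    obtain ⟨s, hs⟩ := to_sl p
    refine ⟨s, fun i j => mul_inv_eq_of_eq_mul (Subtype.ext ?_)⟩
    change s.1 * (rf K i * rf K j) = rf K (σ i) * rf K (σ j) * s.1
    rw [rf_mul i j]
    exact (hs _ _ (by rw [rf_mul, hp]; simp)).symm
  · simpa [coe_ts, rf_mul, e, n] using congrFun (congrFun (congrArg Subtype.val h) i) i
  · simpa [coe_ts, rf_mul, e.1, e.2.1, e.2.2.1, n] using congrFun (congrFun (congrArg Subtype.val h) i) i

/-- as `fm_ts`, with `mk_eq_sign` and a fifth index. -/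
theorem fm_tp (h5 : 5 ≤ Fintype.card ι) (h2 : (2 : K) ≠ 0) : Fm (tp K : ι → ι → _) := by
  have : Nonempty ι := Fintype.card_pos_iff.1 (by omega)
  have n : (1 : K) ≠ -1 := fun h => h2 (by linear_combination h)
  have f := fm_ts (K := K) (ι := ι) (by omega) h2
  refine ⟨fun i j k => congrArg QuotientGroup.mk (f.mul i j k), fun i j => congrArg QuotientGroup.mk (f.symm i j),
    fun σ => ?_, fun i j e h => ?_, fun i j k l e h => ?_⟩
  · obtain ⟨g, hg⟩ := f.perm σ
    exact ⟨QuotientGroup.mk g, fun i j => congrArg QuotientGroup.mk (hg i j)⟩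
  · rcases mk_eq_sign (f.sq i j) (one_mul 1) h with h | h
    · exact f.ne i j e (Subtype.ext h)
    · obtain ⟨m, hm⟩ := exists_new [i, j] (by rw [Nat.card_eq_fintype_card]; simp; omega)
      simp only [List.mem_cons, List.not_mem_nil, or_false, not_or] at hm
      simpa [coe_ts, rf_mul, hm, n] using congrFun (congrFun h m) m
  · rcases mk_eq_sign (f.sq i j) (f.sq k l) h with h | h
    · exact f.ne4 i j k l e (Subtype.ext h)
    · obtain ⟨m, hm⟩ := exists_new [i, j, k, l] (by rw [Nat.card_eq_fintype_card]; simp; omega)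
      simp only [List.mem_cons, List.not_mem_nil, or_false, not_or] at hm
      simpa [coe_ts, rf_mul, hm, n] using congrFun (congrFun h m) m

end CL.Lm
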