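import Cfsg.Agent.FUS.Lm.Mat
import Cfsg.Agent.FUS.Lm.Diag
import Cfsg.Agent.SOLV.SemiR2

/-! # Three tools on 2-subgroups -/

set_option autoImplicit false

namespace CL.Lm

open Subgroup Cfsg Matrix

/-- In a central extension the 2-elements above a 2-subgroup form a subgroup.  `B = P.comap π`; a Sylow 2-subgroup `Q` of `B` maps onto `P`
(`Sylow.mapSurjective` for `B → P`, `P` a 2-group), so `B = Q · ker π` normalises `Q`, and a normal Sylow subgroup contains every 2-element. -/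
theorem exists_lift {Γ H : Type*} [Group Γ] [Finite Γ] [Group H] {π : Γ →* H} (s : Function.Surjective π)
    (c : π.ker ≤ center Γ) {P : Subgroup H} (hP : IsPGroup 2 P) :
    ∃ Q : Subgroup Γ, IsPGroup 2 Q ∧ Q.map π = P ∧ ∀ x, π x ∈ P → ∀ k : ℕ, x ^ 2 ^ k = 1 → x ∈ Q := by
  have : Finite H := .of_surjective π s
  obtain ⟨Q⟩ : Nonempty (Sylow 2 (P.comap π)) := inferInstance
  have s' := π.subgroupComap_surjective_of_surjective P s
  have t : (Q : Subgroup (P.comap π)).map (π.subgroupComap P) = ⊤ :=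
    ((Q.mapSurjective s').is_maximal' (hP.to_subgroup ⊤) le_top).symm
  have l : ∀ b : P.comap π, ∃ q ∈ Q, π q.1 = π b.1 := fun b => by
    obtain ⟨q, hq, e⟩ := t.ge (mem_top (π.subgroupComap P b))
    exact ⟨q, hq, congrArg Subtype.val e⟩
  have n : (Q : Subgroup (P.comap π)).Normal := ⟨fun x hx b => by
    obtain ⟨q, hq, e⟩ := l b
    have z : q.1⁻¹ * b.1 ∈ center Γ := c (by rw [MonoidHom.mem_ker, map_mul, map_inv, e, inv_mul_cancel])
    have : b * x * b⁻¹ = q * x * q⁻¹ := Subtype.ext (by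
      change b.1 * x.1 * b.1⁻¹ = q.1 * x.1 * q.1⁻¹
      calc _ = q.1 * (q.1⁻¹ * b.1 * x.1) * b.1⁻¹ := by group
        _ = _ := by rw [← mem_center_iff.1 z, mul_assoc q.1, mul_assoc, mul_assoc, mul_inv_cancel, mul_one, mul_assoc])
    rw [this]
    exact mul_mem (mul_mem hq hx) (inv_mem hq)⟩
  refine ⟨(Q : Subgroup (P.comap π)).map (P.comap π).subtype, Q.2.map _, le_antisymm ?_ fun y hy => ?_, fun x hx k h => ?_⟩
  · rintro _ ⟨_, ⟨q, -, rfl⟩, rfl⟩
    exact q.2
  · obtain ⟨b, rfl⟩ := s y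
    obtain ⟨q, hq, e⟩ := l ⟨b, hy⟩
    exact ⟨_, ⟨q, hq, rfl⟩, e⟩
  · have p : IsPGroup 2 (zpowers (⟨x, hx⟩ : P.comap π)) := by
      rintro ⟨_, j, rfl⟩
      exact ⟨k, Subtype.ext (Subtype.ext (by
        change (x ^ j) ^ 2 ^ k = 1
        rw [← zpow_natCast, ← _root_.zpow_mul, mul_comm, _root_.zpow_mul, zpow_natCast, h, _root_.one_zpow]))⟩
    exact ⟨⟨x, hx⟩, (Q.is_maximal' (Q.2.to_sup_of_normal_left p) le_sup_left).le (mem_sup_right (mem_zpowers _)), rfl⟩

theorem card_le_of_cyc {S : Type*} [Group S] [Finite S] {E X : Subgroup S} [X.Normal] [IsCyclic X] (e2 : ∀ x ∈ E, x * x = 1)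
    (i : X.index ≤ 2) : Nat.card E ≤ 4 := by
  have a := CL.card_inf_mul_relIndex X E
  have b := Nat.le_of_dvd (Nat.pos_of_ne_zero index_ne_zero_of_finite) (relIndex_dvd_index_of_normal X E)
  have : IsCyclic (X ⊓ E : Subgroup S) := isCyclic_of_injective _ (inclusion_injective inf_le_left)
  have c : Nat.card (X ⊓ E : Subgroup S) ≤ 2 := by
    rw [← IsCyclic.exponent_eq_card]
    exact Nat.le_of_dvd two_pos (Monoid.exponent_dvd_of_forall_pow_eq_one fun g => Subtype.ext (by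
      rw [sq]; exact e2 _ g.2.2))
  rw [← a]
  exact Nat.mul_le_mul c (b.trans i)

/-- If `S` has a normal four-subgroup `V`: `S` acts on `V`; if `c ∈ V`, `c ≠ 1`, take `y ∈ V \ ⟨c⟩` (`V = {1, c, y, y c}`), otherwise
`1 ≠ y ∈ V ⊓ Z(S)`.  If not, `S` is cyclic or `CL.SR1.exists_dqs` (with `S := ⊤`) gives a cyclic subgroup `X` of index 2; `E ⊓ X` has index `≤ 2`
in `E` and order `≤ 2`, against `8 ≤ |E|`. -/
theorem exists_y {S : Type*} [Group S] [Finite S] (hS : IsPGroup 2 S) {c : S} (hc : c ∈ center S) (c2 : c * c = 1)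
    (E : Subgroup S) (e2 : ∀ x ∈ E, x * x = 1) (e8 : 8 ≤ Nat.card E) :
    ∃ y, y * y = 1 ∧ y ≠ 1 ∧ y ≠ c ∧ ∀ x, x * y * x⁻¹ = y ∨ x * y * x⁻¹ = y * c := by
  by_cases h : ∃ W : Subgroup S, W.Normal ∧ IsElementaryAbelian 2 W ∧ Nat.card W = 2 ^ 2
  · obtain ⟨W, n, e, w⟩ := h
    have w2 : ∀ x ∈ W, x * x = 1 := fun x hx => by rw [← sq, e.2 x hx]
    by_cases k : c ∈ W ∧ c ≠ 1
    · have : Nontrivial W := ⟨⟨c, k.1⟩, 1, fun h => k.2 (congrArg Subtype.val h)⟩
      have : IsKleinFour W := ⟨w, (Monoid.exponent_eq_prime_iff Nat.prime_two).2 fun g hg =>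
        orderOf_eq_prime (Subtype.ext (e.2 _ g.2)) hg⟩
      obtain ⟨y, hy, yc⟩ : ∃ y ∈ W, y ∉ zpowers c := by
        by_contra! h
        have := card_le_of_le (show W ≤ zpowers c from h)
        rw [w, Nat.card_zpowers, orderOf_eq_prime (p := 2) (by rw [sq, c2]) k.2] at this
        omega
      have y1 : y ≠ 1 := fun h => yc (h ▸ one_mem _)
      have y2 : y ≠ c := fun h => yc (h ▸ mem_zpowers _)
      refine ⟨y, w2 y hy, y1, y2, fun x => or_iff_not_imp_left.2 fun h => ?_⟩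
      exact congrArg Subtype.val (IsKleinFour.eq_mul_of_ne_all (x := (⟨y, hy⟩ : W)) (y := ⟨c, k.1⟩)
        (z := ⟨_, n.conj_mem y hy x⟩) (fun h => y1 (congrArg Subtype.val h)) (fun h => k.2 (congrArg Subtype.val h))
        (fun h => y2 (congrArg Subtype.val h)) (fun h => y1 (conj_eq_one_iff.1 (congrArg Subtype.val h)))
        (fun e => h (congrArg Subtype.val e)) fun h => y2 (by
          replace h : x * y * x⁻¹ = c := congrArg Subtype.val h
          rw [mul_inv_eq_iff_eq_mul, ← mem_center_iff.1 hc] at h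
          exact mul_left_cancel h))
    · have := hS.isNilpotent
      obtain ⟨⟨y, hy, yz⟩, y1⟩ := ne_bot_iff_exists_ne_one.1 (CL.inf_center_ne_bot_of_isNilpotent W (by
        rintro rfl; simp at w))
      replace y1 : y ≠ 1 := fun h => y1 (Subtype.ext h)
      exact ⟨y, w2 y hy, y1, fun h => k (h ▸ ⟨hy, y1⟩), fun x => .inl (by rw [mem_center_iff.1 yz, mul_inv_cancel_right])⟩
  · exfalso
    by_cases k : IsCyclic (⊤ : Subgroup S)
    · have := card_le_of_cyc (X := ⊤) e2 (by simp)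
      omega
    · obtain ⟨x, hx, n, b, d⟩ := CL.SR1.exists_dqs hS ⊤ (fun W _ a b c => h ⟨W, a, b, c⟩) k
      have a := (zpowers (x : S)).card_mul_index
      rw [Nat.card_zpowers, orderOf_coe, d.orderOf_eq, ← card_top, d.card_eq, pow_succ] at a
      have := card_le_of_cyc (X := zpowers (x : S)) e2 (Nat.eq_of_mul_eq_mul_left (by positivity) a).le
      omega

/-- Maschke.  `P` a projection of `V = ι → K` onto `U` (`Submodule.exists_isCompl`), `P' = |D|⁻¹ ∑ d P d⁻¹` is a projection onto `U`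
commuting with `D`; `y = 1 - 2 P'`; `rk y = rank P' = 2`; `det y = 1` (`LinearMap.det` on `U ⊕ ker P'`, or `det_eq` of `Lm/Diag`). -/
theorem exists_w2 {K : Type*} [Field K] {ι : Type*} [Fintype ι] [DecidableEq ι] (h2 : (2 : K) ≠ 0)
    (D : Subgroup (SpecialLinearGroup ι K)) [Finite D] (hD : IsPGroup 2 D) (U : Submodule K (ι → K))
    (hU : Module.finrank K U = 2) (inv : ∀ d ∈ D, ∀ u ∈ U, d.1 *ᵥ u ∈ U) :
    ∃ y : SpecialLinearGroup ι K, y * y = 1 ∧ rk y.1 = 2 ∧ ∀ d ∈ D, Commute y d := by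
  have := Fintype.ofFinite D
  obtain ⟨W, hW⟩ := U.exists_isCompl
  obtain ⟨k, hk⟩ := IsPGroup.iff_card.1 hD
  have c : (Fintype.card D : K) ≠ 0 := by rw [← Nat.card_eq_fintype_card, hk]; push_cast; exact pow_ne_zero _ h2
  let p := LinearMap.toMatrix' (U.projection W hW)
  have pv : ∀ v, p *ᵥ v = U.projection W hW v := fun v => by rw [← toLin'_apply, toLin'_toMatrix']
  let q := (Fintype.card D : K)⁻¹ • ∑ d : D, d.1.1 * p * d.1⁻¹.1
  have q1 : ∀ v, q *ᵥ v ∈ U := fun v => by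
    rw [smul_mulVec, sum_mulVec]
    refine U.smul_mem _ (U.sum_mem fun d _ => ?_)
    rw [← mulVec_mulVec, ← mulVec_mulVec, pv]
    exact inv _ d.2 _ (Submodule.projection_apply_mem hW _)
  have q2 : ∀ u ∈ U, q *ᵥ u = u := fun u hu => by
    rw [smul_mulVec, sum_mulVec, Finset.sum_congr rfl (g := fun _ => u) fun d _ => by
      rw [← mulVec_mulVec, ← mulVec_mulVec, pv, Submodule.projection_apply_left hW ⟨_, inv _ (inv_mem d.2) u hu⟩,
        mulVec_mulVec, show d.1.1 * d.1⁻¹.1 = 1 from congrArg Subtype.val (mul_inv_cancel d.1), one_mulVec],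
      Finset.sum_const, Finset.card_univ, ← Nat.cast_smul_eq_nsmul K, inv_smul_smul₀ c]
  have q3 : ∀ d ∈ D, q * d.1 = d.1 * q := fun d hd => by
    rw [smul_mul_assoc, mul_smul_comm, Finset.sum_mul, Finset.mul_sum]
    congr 1
    refine (Fintype.sum_equiv (Equiv.mulLeft ⟨d, hd⟩) _ _ fun e => ?_).symm
    change d.1 * (e.1.1 * p * e.1⁻¹.1) = (d * e.1).1 * p * (d * e.1)⁻¹.1 * d.1
    rw [mul_assoc _ _ d.1, show (d * e.1)⁻¹.1 * d.1 = e.1⁻¹.1 from congrArg Subtype.val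
      (show (d * e.1)⁻¹ * d = e.1⁻¹ by group), show (d * e.1).1 = d.1 * e.1.1 from rfl]
    simp only [mul_assoc]
  have qq : q * q = q := by
    refine toLin'.injective (LinearMap.ext fun v => ?_)
    rw [toLin'_apply, toLin'_apply, ← mulVec_mulVec, q2 _ (q1 v)]
  have qr : q.rank = 2 := by
    rw [← hU, rank, show LinearMap.range q.mulVecLin = U from le_antisymm (by rintro _ ⟨v, rfl⟩; exact q1 v)
      fun u hu => ⟨u, q2 u hu⟩]
  clear_value q
  have y2 : (1 + (-2 : K) • q) * (1 + (-2 : K) • q) = 1 := by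
    rw [add_mul, mul_add, mul_add, smul_mul_smul_comm, qq, one_mul, one_mul, mul_one, add_assoc, ← add_smul, ← add_smul]
    norm_num
  have yr : rk (1 + (-2 : K) • q) = 2 := by
    rw [rk, add_sub_cancel_left, rank_smul_of_mem_nonZeroDivisors _ (mem_nonZeroDivisors_of_ne_zero (neg_ne_zero.2 h2)), qr]
  refine ⟨⟨_, by rw [det_eq h2 y2, yr]; norm_num⟩, Subtype.ext y2, yr, fun d hd => Subtype.ext ?_⟩
  change (1 + (-2 : K) • q) * d.1 = d.1 * (1 + (-2 : K) • q)
  rw [add_mul, mul_add, smul_mul_assoc, mul_smul_comm, q3 d hd, one_mul, mul_one]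

end CL.Lm
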