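import Cfsg.Agent.FUS.Lm.Co
import Cfsg.Agent.INV.ZStarElt
import Cfsg.Agent.INV.Four

/-! # Tools for normal subgroups with a prescribed Sylow 2-subgroup -/

set_option autoImplicit false

namespace CL.Lm

open Subgroup Cfsg CL.MSS CL.PComp CL.Ln
open CL.L5 (Cz mem_Cz comm_conj conj_mul_conj conj_eq_of_comm comm_of_conj_eq eq_one_of_odd_of_two)
open scoped commutatorElement

variable {T G H Λ : Type*} [Group T] [Group G] [Group H] [Group Λ] {f : T →* G} {f' : T →* H}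

theorem Sim.one (S : Sim f f') {s t : T} {g : G} (e : f t = g * f s * g⁻¹) : ∃ h, f' t = h * f' s * h⁻¹ :=
  let ⟨h, k⟩ := (S.2.2 {(s, t)}).1 ⟨g, by rintro _ rfl; exact e⟩; ⟨h, k _ rfl⟩

theorem Sim.sc (S : Sim f f') (N : Subgroup H) [n : N.Normal] : IsStronglyClosed ((N.comap f').map f) f.range :=
  ⟨map_le_range _ _, by
    rintro _ ⟨s, hs, rfl⟩ g ⟨t, e⟩
    obtain ⟨h, k⟩ := Sim.one S e
    exact ⟨t, show f' t ∈ N from k ▸ n.conj_mem _ hs h, e⟩⟩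

/-- the focal subgroup theorem. -/
theorem foc [Finite G] (h : Emb f) (W : Subgroup T) (k : ∀ s t g, f t = g * f s * g⁻¹ → s⁻¹ * t ∈ W) {t : T}
    (ht : f t ∈ commutator G) : t ∈ W := by
  have : Fact (Nat.Prime 2) := ⟨Nat.prime_two⟩
  obtain ⟨P, e⟩ := h.2
  have : (P : Subgroup G).focalSubgroup ≤ W.map f := (closure_le _).2 (by
    rintro _ ⟨h1, x, h2, u, rfl⟩
    rw [e] at h1 h2
    obtain ⟨r, hr⟩ := h1
    obtain ⟨s, rfl⟩ := h2
    exact ⟨r, by simpa using k s⁻¹ (s⁻¹ * r) u (by rw [map_mul, hr, map_inv]; group), hr⟩)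
  exact (mem_map_iff_mem h.1).1 (this ((commutator_inf_eq_focalSubgroup P).le ⟨ht, e ▸ ⟨t, rfl⟩⟩))

theorem exists_syl [Finite H] (h : Emb f') {j : Λ →* H} (hj : Function.Injective j) (n : j.range.Normal) :
    ∃ R : Sylow 2 Λ, ∀ x, x ∈ R ↔ j x ∈ f'.range := by
  let φ₁ : j.range.comap f' →* j.range := (f'.comp (j.range.comap f').subtype).codRestrict _ fun u => u.2
  obtain ⟨-, R, e⟩ := (emb_normal h j.range (φ := φ₁) Subtype.val_injective (fun _ => rfl)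
    fun t ht => ⟨⟨t, ht⟩, rfl⟩).map (MonoidHom.ofInjective hj).symm
  have k : ∀ u, j ((MonoidHom.ofInjective hj).symm (φ₁ u)) = f' u := fun u => MonoidHom.apply_ofInjective_symm hj _
  exact ⟨R, fun x => (SetLike.ext_iff.1 e x).trans ⟨by rintro ⟨u, rfl⟩; exact ⟨u, (k u).symm⟩,
    fun ⟨t, ht⟩ => ⟨⟨t, x, ht.symm⟩, hj ((k _).trans ht)⟩⟩⟩

theorem iso_of [Finite G] (h : Emb f) {w : T} (k : ∀ t g, f t = g * f w * g⁻¹ → t = w) : IsIsolated (f w) := fun g c => by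
  have : Fact (Nat.Prime 2) := ⟨Nat.prime_two⟩
  obtain ⟨n, e⟩ := h.isPGroup w
  have p1 : IsPGroup 2 (zpowers (f w)) := MSS.isPGroup_zpowers (k := n) (by rw [← map_pow, e, map_one])
  have p2 : IsPGroup 2 (zpowers (g * f w * g⁻¹)) :=
    MSS.isPGroup_zpowers (k := n) (by rw [conj_pow, ← map_pow, e, map_one, mul_one, mul_inv_cancel])
  obtain ⟨y, l⟩ := h.exists_conj (IsPGroup.to_sup_of_normal_left' p1 p2 (zpowers_le.2 (centralizer_le_normalizer _ (by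
    rintro _ ⟨i, rfl⟩; exact (c.zpow_left i).eq))))
  obtain ⟨a, ha⟩ := l _ (mem_sup_left (mem_zpowers _))
  obtain ⟨b, hb⟩ := l _ (mem_sup_right (mem_zpowers _))
  rw [k a y ha] at ha
  rw [k b (y * g) (by rw [hb]; group)] at hb
  exact mul_left_cancel (mul_right_cancel (hb.symm.trans ha))

/-- Frattini and rigidity. -/
theorem odd_dec [Finite G] (h : Emb f) (N : Subgroup G) [n : N.Normal]
    (rig : ∀ g : G, Odd (orderOf g) → (∀ u, f u ∈ N → ∃ v, f v = g * f u * g⁻¹) → ∀ u, f u ∈ N → Commute g (f u)) :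
    (∀ g : G, ∃ l ∈ N, ∃ s c, (∀ u, f u ∈ N → Commute c (f u)) ∧ g = l * (f s * c)) ∧
      ∀ g : G, Odd (orderOf g) → ∃ c, (∀ t, f t ∈ N → c * f t = f t * c) ∧ g * c ∈ N := by
  have : Fact (Nat.Prime 2) := ⟨Nat.prime_two⟩
  have nN : ∀ g, g ∈ normalizer (N : Set G) := fun g => normalizer_eq_top N ▸ mem_top g
  have hR := (Emb.sylIn h).inf_normal_of_le (fun g _ => nN g) le_top
  have le : f.range ≤ normalizer ((f.range ⊓ N : Subgroup G) : Set G) := le_normalizer_inf le_normalizer fun g _ => nN g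
  have a : ∀ g : G, ∃ l ∈ N, ∃ s, ∃ c ∈ centralizer ((f.range ⊓ N : Subgroup G) : Set G), g = l * (f s * c) := fun g => by
    obtain ⟨l, hl, y, hy, rfl⟩ := hR.frattini (nN g)
    obtain ⟨_, ⟨s, rfl⟩, c, hc, rfl⟩ := CL.L5.sup_of_two ((Emb.sylIn h).of_le le le_top)
      (normalizer_le_normalizer_centralizer _) (fun x hx => by
        obtain ⟨k, m, hm, e⟩ := Nat.exists_eq_two_pow_mul_odd (orderOf_pos x).ne'
        refine ⟨k, ?_⟩
        rintro _ ⟨⟨u, rfl⟩, hu⟩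
        exact (rig _ (hm.of_dvd_nat (orderOf_dvd_of_pow_eq_one (by rw [← pow_mul, ← e, pow_orderOf_eq_one])))
          (fun u hu => ((mem_normalizer_iff.1 (pow_mem hx _) _).1 ⟨⟨u, rfl⟩, hu⟩).1) u hu).symm) y hy
    exact ⟨l, hl, s, c, hc, rfl⟩
  refine ⟨fun g => let ⟨l, hl, s, c, hc, e⟩ := a g; ⟨l, hl, s, c, fun u hu => (hc _ ⟨⟨u, rfl⟩, hu⟩).symm, e⟩,
    fun g o => ?_⟩
  let Y := N ⊔ centralizer ((f.range ⊓ N : Subgroup G) : Set G)
  have : Y.Normal := normalizer_eq_top_iff.1 (eq_top_iff.2 fun g _ => by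
    obtain ⟨l, hl, y, hy, rfl⟩ := hR.frattini (nN g)
    exact mul_mem (le_normalizer (mem_sup_left hl)) (normalizer_inf_normalizer_le_normalizer_sup _ _
      ⟨nN y, normalizer_le_normalizer_centralizer _ hy⟩))
  obtain ⟨l, hl, s, c, hc, e⟩ := a g
  obtain ⟨k, hk⟩ := h.isPGroup s
  have : g ∈ Y := (QuotientGroup.eq_one_iff g).1 (eq_one_of_odd_of_two (o.of_dvd_nat (orderOf_map_dvd (QuotientGroup.mk' Y) g))
    (k := k) (by
      change QuotientGroup.mk' Y g ^ 2 ^ k = 1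
      rw [e, map_mul, map_mul, QuotientGroup.mk'_apply, QuotientGroup.mk'_apply _ c, (QuotientGroup.eq_one_iff l).2 (mem_sup_left hl),
        (QuotientGroup.eq_one_iff c).2 (mem_sup_right hc), one_mul, mul_one, ← map_pow, ← map_pow, hk, map_one, map_one]))
  obtain ⟨l, hl, c, hc, rfl⟩ := mem_sup_of_normal_left.1 this
  exact ⟨c⁻¹, fun t ht => (inv_mem hc _ ⟨⟨t, rfl⟩, ht⟩).symm, by simpa using hl⟩

/-- rigidity in the model. -/
theorem rig_model [Finite H] (h : Emb f') {j : Λ →* H} (hj : Function.Injective j) (n : j.range.Normal)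
    (rig : ∀ (R : Sylow 2 Λ) (α : MulAut Λ), Odd (orderOf α) → (∀ x ∈ R, α x ∈ R) → ∀ x ∈ R, α x = x) (g : H)
    (o : Odd (orderOf g)) (k : ∀ u, f' u ∈ j.range → ∃ v, f' v = g * f' u * g⁻¹) (u : T) (hu : f' u ∈ j.range) :
    Commute g (f' u) := by
  obtain ⟨R, hR⟩ := exists_syl h hj n
  let ρ : H →* MulAut Λ := (MulAut.congr (MonoidHom.ofInjective hj).symm).toMonoidHom.comp MulAut.conjNormal
  have e : ∀ x, j (ρ g x) = g * j x * g⁻¹ := fun x => MonoidHom.apply_ofInjective_symm hj _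
  obtain ⟨x, hx⟩ := hu
  refine comm_of_conj_eq ?_
  rw [← hx, ← e, rig R (ρ g) (o.of_dvd_nat (orderOf_map_dvd ρ g)) (fun x hx => (hR _).2 ?_) x ((hR x).2 ⟨u, hx.symm⟩)]
  obtain ⟨u, hu⟩ := (hR x).1 hx
  obtain ⟨v, hv⟩ := k u ⟨x, hu.symm⟩
  exact ⟨v, by rw [e, hv, hu]⟩

theorem Fm.not_center {ι : Type*} [Finite ι] {t : ι → ι → G} (h : Fm t) (h4 : 4 ≤ Nat.card ι) {i j : ι} (e : i ≠ j) :
    t i j ∉ center G := fun c => by
  obtain ⟨k, hk⟩ := exists_new [i, j] (by simp; omega)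
  obtain ⟨l, hl⟩ := exists_new [i, j, k] (by simp; omega)
  simp only [List.mem_cons, List.not_mem_nil, or_false, not_or] at hk hl
  obtain ⟨σ, rfl, rfl⟩ := exists_perm2 e (Ne.symm hl.2.2)
  obtain ⟨g, hg⟩ := h.perm σ
  exact h.ne4 _ _ _ _ ⟨e, Ne.symm hk.1, Ne.symm hl.1, Ne.symm hk.2, Ne.symm hl.2.1, Ne.symm hl.2.2⟩
    (by rw [← hg, mem_center_iff.1 c, mul_inv_cancel_right])

end CL.Lm
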