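import Cfsg.Agent.FUS.Lm.Co
import Cfsg.Agent.INV.ZStar
import Cfsg.Agent.INV.Four

/-! # The reflections centralize the fundamental subgroups -/

set_option autoImplicit false

namespace CL.Lm

open Subgroup Cfsg CL.MSS CL.PComp CL.Ln
open CL.L5 (Cz Oc mem_Cz comm_conj conj_mul_conj conj_eq_of_comm comm_of_conj_eq)
open scoped commutatorElement

variable {X : Type*} [Group X]

theorem exists_pow_inv {y : X} (h : y ≠ 1) {k : ℕ} (e : y ^ 2 ^ k = 1) : ∃ n : ℕ, y ^ n ≠ 1 ∧ y ^ n * y ^ n = 1 := by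
  induction k with
  | zero => exact absurd (by simpa using e) h
  | succ k ih =>
    by_cases c : y ^ 2 ^ k = 1
    exacts [ih c, ⟨_, c, by rw [← pow_two, ← pow_mul, ← pow_succ, e]⟩]

/-- an involution which normalizes `K` and centralizes a Sylow 2-subgroup of `K`. -/
theorem cen_of_syl [Finite X] {K Q : Subgroup X} {a b : X} (hQ : SylIn 2 Q K) (b2 : b * b = 1) (a2 : a * a = 1)
    (a1 : a ≠ 1) (ab : Commute b a) (Ka : K ≤ Cz a) (n : b ∈ normalizer (K : Set X)) (c : ∀ x ∈ Q, Commute x b)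
    (inv : ∀ s ∈ K, s * s = 1 → s = 1 ∨ s = a)
    (o : ∀ N ≤ K, K ≤ normalizer (N : Set X) → Odd (Nat.card N) → N = ⊥) : ∀ x ∈ K, Commute x b := by
  have : Fact (Nat.Prime 2) := ⟨Nat.prime_two⟩
  have bi : b⁻¹ = b := inv_eq_of_mul_eq_one_right b2
  have nb : ∀ x ∈ K, b * x * b ∈ K := fun x hx => by simpa only [bi] using (mem_normalizer_iff.1 n x).1 hx
  have bb : ∀ x, x * b * b = x := fun x => by rw [mul_assoc, b2, mul_one]
  have ka : ∀ k ∈ K, ∀ m : ℕ, k * (b * a ^ m) * k⁻¹ = k * b * k⁻¹ * a ^ m := fun k hk m => by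
    rw [← conj_mul_conj, conj_eq_of_comm ((mem_Cz.1 (Ka hk)).pow_right m)]
  have aa : ∀ m : ℕ, a ^ m * a ^ m = 1 := fun m => by rw [← (Commute.refl a).mul_pow, a2, one_pow]
  let E : Subgroup X :=
    { carrier := {k | k ∈ K ∧ ∃ m : ℕ, k * b * k⁻¹ = b * a ^ m}
      one_mem' := ⟨one_mem _, 0, by simp⟩
      mul_mem' := fun {k l} ⟨hk, m, e⟩ ⟨hl, m', e'⟩ => ⟨mul_mem hk hl, m + m', by
        rw [show k * l * b * (k * l)⁻¹ = k * (l * b * l⁻¹) * k⁻¹ by group, e', ka k hk, e, pow_add, mul_assoc]⟩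
      inv_mem' := fun {k} ⟨hk, m, e⟩ => ⟨inv_mem hk, m, by
        have := ka k hk m
        rw [e, mul_assoc b, aa, mul_one] at this
        calc _ = k⁻¹ * (k * (b * a ^ m) * k⁻¹) * k⁻¹⁻¹ := by rw [this]
          _ = _ := by group⟩ }
  have key : ∀ g ∈ K, g * b * g⁻¹ ≠ b * a := fun g hg e => by
    obtain ⟨m, j, hm, hj⟩ := CL.Four.exists_odd_pow g
    have pw : ∀ i : ℕ, g ^ i * b * (g ^ i)⁻¹ = b * a ^ i := fun i => by
      induction i with
      | zero => simp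
      | succ i ih =>
        rw [show g ^ (i + 1) * b * (g ^ (i + 1))⁻¹ = g * (g ^ i * b * (g ^ i)⁻¹) * g⁻¹ by group, ih, ka g hg, e, pow_succ',
          mul_assoc]
    obtain ⟨y, ⟨hy, i, e1⟩, l⟩ := (hQ.of_le (K := E) (fun x hx => ⟨hQ.le hx, 0, by
      rw [conj_eq_of_comm (c x hx), pow_zero, mul_one]⟩) fun _ h => h.1).exists_le_conj (isPGroup_zpowers hj)
      (zpowers_le.2 ⟨pow_mem hg m, m, pw m⟩)
    obtain ⟨x, hx, e2⟩ := mem_cj'.1 (l (mem_zpowers _))
    have c1 := comm_conj (c x hx) y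
    rw [e1, e2] at c1
    have c2 := conj_eq_of_comm c1
    obtain ⟨r, rfl⟩ := hm
    rw [ka _ (pow_mem hg _), pw, mul_left_inj, mul_eq_left, pow_succ, two_mul, pow_add, aa, one_mul] at c2
    exact a1 c2
  by_cases b1 : b = 1
  · exact fun x _ => b1 ▸ Commute.one_right x
  let Y : Subgroup X :=
    { carrier := {x | x ∈ K ∨ x * b ∈ K}
      one_mem' := .inl (one_mem _)
      mul_mem' := by
        rintro x y (hx | hx) (hy | hy)
        · exact .inl (mul_mem hx hy)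
        · exact .inr (mul_assoc x y b ▸ mul_mem hx hy)
        · exact .inr (by simpa only [← mul_assoc, bb] using mul_mem hx (nb y hy))
        · exact .inl (by simpa only [← mul_assoc, bb] using mul_mem hx (nb _ hy))
      inv_mem' := by
        rintro x (hx | hx)
        · exact .inl (inv_mem hx)
        · exact .inr (by simpa only [mul_inv_rev, bi, ← mul_assoc, b2, one_mul] using nb _ (inv_mem hx)) }
  have hb : b ∈ Y := .inr (b2 ▸ one_mem K)
  have h := CL.BS.zstar_center (G := Y) (u := ⟨b, hb⟩) ⟨orderOf_eq_prime (Subtype.ext (by simpa [pow_two] using b2))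
    fun e => b1 (congrArg Subtype.val e), fun ⟨g, hg⟩ hc => Subtype.ext ?_⟩ ?_
  · exact fun x hx => (congrArg Subtype.val (mem_center_iff.1 h ⟨x, .inl hx⟩) :)
  · have hc : Commute b (g * b * g⁻¹) := (congrArg Subtype.val hc.eq :)
    obtain ⟨k, hk, e⟩ : ∃ k ∈ K, g * b * g⁻¹ = k * b * k⁻¹ := hg.elim (fun h => ⟨g, h, rfl⟩) fun h =>
      ⟨_, h, by rw [mul_inv_rev, bi, bb, mul_assoc g b]⟩
    change g * b * g⁻¹ = b
    rw [e] at hc ⊢
    have s2 : k * b * k⁻¹ * (k * b * k⁻¹) = 1 := by rw [conj_mul_conj, b2, mul_one, mul_inv_cancel]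
    rcases inv (b * (k * b * k⁻¹)) (by simpa only [← mul_assoc] using mul_mem (nb k hk) (inv_mem hk))
      (by rw [hc.symm.mul_mul_mul_comm, b2, s2, one_mul]) with h | h
    · exact (eq_inv_of_mul_eq_one_right h).trans bi
    · exact absurd (by rw [← h, ← mul_assoc, b2, one_mul]) (key k hk)
  · have od := opOf_coprime 2 Y
    refine (map_eq_bot_iff_of_injective _ Y.subtype_injective).1 (o (opOf 2 Y) (fun x hx => ?_)
      (le_trans (fun _ h => Or.inl h : K ≤ Y) (le_normalizer_opOf 2 Y)) (Nat.coprime_two_right.1 od))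
    rcases opOf_le 2 Y hx with h | h
    · exact h
    · have x2 : x ^ 2 ∈ K := by simpa only [← mul_assoc, bb, pow_two] using mul_mem h (nb _ h)
      obtain ⟨r, e⟩ := exists_pow_eq_self_of_coprime (x := x) (n := 2)
        (od.coprime_dvd_left (orderOf_dvd_natCard _ hx)).symm
      exact e ▸ pow_mem x2 r

theorem bar2 {T C Λ κ : Type*} [Group T] [Finite X] [Group C] [Group Λ] [DecidableEq κ] {φ : T →* X} {φ' : T →* C}
    (S : Sim φ φ') {z : C} {β : κ → T} {K : Subgroup C} {lam : Λ →* C} {τ : κ → κ → Λ}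
    (B : Mb z (fun k => φ' (β k)) K lam τ) {L : Subgroup X} (nL : L.Normal) (m : ∀ s, φ s ∈ L ↔ φ' s ∈ lam.range)
    {p e : ℕ} (s : S0 p e L fun i j => φ (β i) * φ (β j)) (i j k : κ) (h : i ≠ j) (hi : k ≠ i) (hj : k ≠ j) :
    ∀ x ∈ KK p L (φ (β i) * φ (β j)), Commute x (φ (β k)) := by
  have : Fact (Nat.Prime 2) := ⟨Nat.prime_two⟩
  have c : ∀ k, Commute (φ (β k)) (φ (β i) * φ (β j)) := fun k =>
    Commute.mul_right (s.fm.symm k i) (s.fm.symm k j)
  have n : Cz (φ (β i) * φ (β j)) ≤ normalizer (KK p L (φ (β i) * φ (β j)) : Set X) := fun g hg =>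
    mem_normalizer_KK (normalizer_eq_top L ▸ mem_top g) (mem_Cz.1 hg)
  obtain ⟨P, hP, le⟩ := exists_sylIn_ge ((Emb.pg S.1).to_le inf_le_left)
    (inf_le_right : φ.range ⊓ Cz (φ (β i) * φ (β j)) ≤ _)
  have bP : ∀ k, φ (β k) ∈ P := fun k => le ⟨⟨_, rfl⟩, mem_Cz.2 (c k)⟩
  obtain ⟨ψ, -, e1, co⟩ := (co_self φ φ' β).ext S P hP.pgroup bP
  have kl := KK_le p L (φ (β i) * φ (β j))
  refine cen_of_syl (hP.inf_normal_of_le n (kl.trans inf_le_right))
    (by rw [← map_mul, S.2.1.1 ((map_mul φ' _ _).trans ((B.b2 k).trans (map_one φ').symm)), map_one]) (s.fm.sq i j)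
    (s.fm.ne i j h) (c k) (kl.trans inf_le_right) (n (mem_Cz.2 (c k))) (fun x hx => ?_) (s.inv i j h) (s.oK i j h)
  by_contra nc
  let u : P := ⟨x, hx.1⟩
  obtain ⟨r, hr⟩ := hP.pgroup ⁅u, ⟨_, bP k⟩⁆
  obtain ⟨l, l1, l2⟩ := exists_pow_inv (fun e => nc (commutatorElement_eq_one_iff_commute.1 (congrArg Subtype.val e))) hr
  have mK : ⁅x, φ (β k)⁆ ∈ KK p L (φ (β i) * φ (β j)) := by
    rw [commutatorElement_def, mul_assoc, mul_assoc, ← mul_assoc (φ (β k))]
    exact mul_mem hx.2 (conj_mem_of_normalizes n (mem_Cz.2 (c k)) (inv_mem hx.2))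
  have e2 : ⁅u, (⟨_, bP k⟩ : P)⁆ ^ l = (⟨_, bP i⟩ * ⟨_, bP j⟩ : P) := Subtype.ext
    ((s.inv i j h _ (pow_mem mK l) (congrArg Subtype.val l2)).resolve_left fun e => l1 (Subtype.ext e))
  refine B.bK i j k h hi hj (ψ u) ((co.mem_iff nL B.nL m u).1 (kl hx.2).1) ?_ l ?_
  · rw [← e1, ← e1, ← map_mul]
    exact Commute.map (Subtype.ext (mem_Cz.1 (kl hx.2).2).eq) ψ
  · rw [← e1, ← e1, ← e1, ← map_mul, ← e2, map_pow, map_commutatorElement]

end CL.Lm
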