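import Cfsg.Agent.FUS.Lm.Diag

/-! # The centraliser of an involution of weight 2 in `L_{m+2}(q)`

An element of `C = C(tp a b)` is the image of `g ∈ SL` with `g r_a r_b g⁻¹ = ± r_a r_b` (`mk_eq_sign`), and `-` is impossible (`rk_neg`: `m = 2`); so `g` commutes with
`sg {a, b}`, i.e. is block diagonal (`comm_diagonal`).  `lam = mk ∘ eL ε` (range: `range_eL`), `K` = the image of `blk {a, b}`. -/

set_option autoImplicit false

namespace CL.Lm

open Subgroup Cfsg Matrix CL.Ln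
open CL.L5 (Cz mem_Cz)
open scoped commutatorElement

variable {F : Type*} [Field F] [Fintype F] {m n : ℕ}

section

open CL.Chev.Phan

omit [Fintype F]

variable {k N : ℕ} {γ : Fin k ↪ Fin N} {M M' : Matrix (Fin N) (Fin N) F} {A A' : Matrix (Fin k) (Fin k) F}

/-- `M` is block diagonal, with block `A` on the range of `γ`. -/
def BD (γ : Fin k ↪ Fin N) (M : Matrix (Fin N) (Fin N) F) (A : Matrix (Fin k) (Fin k) F) : Prop :=
  M * inc F γ = inc F γ * A ∧ (inc F γ)ᵀ * M = A * (inc F γ)ᵀ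

theorem mul_inc (M : Matrix (Fin N) (Fin N) F) (r : Fin N) (j : Fin k) : (M * inc F γ) r j = M r (γ j) := by
  simp [mul_apply, inc_apply]

theorem inc_mul (M : Matrix (Fin N) (Fin N) F) (r : Fin N) (j : Fin k) : ((inc F γ)ᵀ * M) j r = M (γ j) r := by
  simp [mul_apply, inc_apply]

theorem BD.of_ent (h : ∀ i j, M (γ i) (γ j) = A i j) (h' : ∀ i, ∀ c ∉ Set.range γ, M (γ i) c = 0 ∧ M c (γ i) = 0) :
    BD γ M A := by
  refine ⟨Matrix.ext fun r j => ?_, Matrix.ext fun j r => ?_⟩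
  · rw [mul_inc]
    by_cases hr : r ∈ Set.range γ
    · obtain ⟨i, rfl⟩ := hr
      simp [h, mul_apply, inc_apply]
    · have : ∀ i, r ≠ γ i := fun i e => hr ⟨i, e.symm⟩
      simp [(h' j r hr).2, mul_apply, inc_apply, this]
  · rw [inc_mul]
    by_cases hr : r ∈ Set.range γ
    · obtain ⟨i, rfl⟩ := hr
      simp [h, mul_apply, inc_apply]
    · have : ∀ i, r ≠ γ i := fun i e => hr ⟨i, e.symm⟩
      simp [(h' j r hr).1, mul_apply, inc_apply, this]

theorem BD.uniq (h : BD γ M A) (h' : BD γ M A') : A = A' := by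
  rw [← one_mul A, ← inc_inc γ, Matrix.mul_assoc, ← h.1, h'.1, ← Matrix.mul_assoc, inc_inc, one_mul]

theorem BD.one : BD γ (1 : Matrix _ _ F) 1 := ⟨by simp, by simp⟩

theorem BD.mul (h : BD γ M A) (h' : BD γ M' A') : BD γ (M * M') (A * A') :=
  ⟨by rw [Matrix.mul_assoc, h'.1, ← Matrix.mul_assoc, h.1, Matrix.mul_assoc],
    by rw [← Matrix.mul_assoc, h.2, Matrix.mul_assoc, h'.2, Matrix.mul_assoc]⟩

theorem BD.smul (h : BD γ M A) (c : F) : BD γ (c • M) (c • A) :=
  ⟨by rw [Matrix.smul_mul, Matrix.mul_smul, h.1], by rw [Matrix.smul_mul, Matrix.mul_smul, h.2]⟩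

theorem BD.pow (h : BD γ M 1) (n : ℕ) : BD γ (M ^ n) 1 := by
  induction n with
  | zero => rw [pow_zero]; exact BD.one
  | succ n ih => rw [pow_succ]; exact one_mul (1 : Matrix (Fin k) (Fin k) F) ▸ ih.mul h

theorem BD.emb (γ : Fin k ↪ Fin N) (A : Matrix (Fin k) (Fin k) F) : BD γ (embM γ A) A :=
  .of_ent (embM_gg γ A) fun i c hc => by
    have : γ i ≠ c := fun e => hc ⟨i, e⟩
    rw [embM_row γ A hc, embM_col γ A _ hc, one_apply_ne this, one_apply_ne this.symm]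
    exact ⟨rfl, rfl⟩

theorem BD.of_bk {I : Set (Fin N)} (h : Bk I M) (d : ∀ i, γ i ∉ I) : BD γ M 1 :=
  .of_ent (fun i j => by rw [(h _ (d i) _).1, one_apply, one_apply]; simp) fun i c hc => by
    have : γ i ≠ c := fun e => hc ⟨i, e⟩
    rw [(h _ (d i) c).1, (h _ (d i) c).2, one_apply_ne this, one_apply_ne this.symm]
    exact ⟨rfl, rfl⟩

theorem BD.bk (h : BD γ M 1) {I : Set (Fin N)} (d : ∀ r ∉ I, r ∈ Set.range γ) : Bk I M := fun r hr c => by
  obtain ⟨i, rfl⟩ := d r hr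
  rw [← mul_inc M c i, ← inc_mul M c i, h.1, h.2, Matrix.mul_one, Matrix.one_mul, transpose_apply, inc_apply, one_apply, one_apply]
  simp [eq_comm]

theorem BD.diag (γ : Fin k ↪ Fin N) (d : Fin N → F) : BD γ (diagonal d) (diagonal fun i => d (γ i)) :=
  .of_ent (fun i j => by simp [diagonal_apply]) fun i c hc => by
    have : γ i ≠ c := fun e => hc ⟨i, e⟩
    exact ⟨diagonal_apply_ne _ this, diagonal_apply_ne _ this.symm⟩

theorem BD.conj (h : BD γ M A) {X Y : Matrix (Fin k) (Fin k) F} (e : A * X = Y * A) : M * embM γ X = embM γ Y * M := by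
  rw [embM, embM, mul_add, add_mul, mul_one, one_mul, Matrix.mul_assoc _ _ M, h.2, ← Matrix.mul_assoc, ← Matrix.mul_assoc,
    h.1, ← Matrix.mul_assoc, Matrix.mul_assoc _ A, Matrix.mul_assoc _ _ A, mul_sub, sub_mul, e, mul_one, one_mul]

theorem BD.inv {g : SpecialLinearGroup (Fin N) F} (h : BD γ g.1 A) (h' : BD γ g⁻¹.1 A') : A * A' = 1 :=
  (h.mul h').uniq (by rw [show g.1 * g⁻¹.1 = 1 from congrArg Subtype.val (mul_inv_cancel g)]; exact BD.one)

theorem BD.conj_eL {g : SpecialLinearGroup (Fin N) F} (h : BD γ g.1 A) (h' : BD γ g⁻¹.1 A')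
    (x : SpecialLinearGroup (Fin k) F) : ∃ y, g * eL γ x * g⁻¹ = eL γ y ∧ y.1 = A * x.1 * A' := by
  have e := h.inv h'
  refine ⟨⟨A * x.1 * A', by rw [det_mul, det_mul, x.2, mul_one, ← det_mul, e, det_one]⟩,
    mul_inv_eq_of_eq_mul (Subtype.ext (h.conj ?_)), rfl⟩
  change A * x.1 = A * x.1 * A' * A
  rw [mul_assoc, mul_eq_one_comm.1 e, mul_one]

/-- the embedding with image `{a, b}`. -/
def pr {a b : Fin N} (h : a ≠ b) : Fin 2 ↪ Fin N := ⟨![a, b], fun x y => by fin_cases x <;> fin_cases y <;> simp [h, h.symm]⟩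

theorem mem_pr {a b r : Fin N} (h : a ≠ b) : r ∈ Set.range (pr h) ↔ r = a ∨ r = b :=
  ⟨by rintro ⟨i, rfl⟩; fin_cases i; exacts [.inl rfl, .inr rfl], by rintro (rfl | rfl); exacts [⟨0, rfl⟩, ⟨1, rfl⟩]⟩

theorem bd_of_comm (h2 : (2 : F) ≠ 0) {I : Finset (Fin N)} (c : M * sg F I = sg F I * M)
    (h : ∀ i, ∀ c ∉ Set.range γ, (γ i ∈ I ↔ c ∉ I)) : BD γ M (M.submatrix γ γ) := by
  have n : (-1 : F) ≠ 1 := fun h => h2 (by linear_combination -h)
  refine .of_ent (fun _ _ => rfl) fun i r hr => ⟨comm_diagonal.1 c _ _ ?_, comm_diagonal.1 c _ _ ?_⟩ <;>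
    by_cases e : r ∈ I <;> simp [h i r hr, e, n, n.symm]

theorem ts_two : (ts F (0 : Fin 2) 1).1 = -1 := by
  rw [coe_ts, rf_mul]
  ext i j
  fin_cases i <;> fin_cases j <;> simp

theorem comm_two (h2 : (2 : F) ≠ 0) {u : SpecialLinearGroup (Fin 2) F} (u2 : u.1 * u.1 = -1) {A B : Matrix (Fin 2) (Fin 2) F}
    (a : A * u.1 = u.1 * A) (b : B * u.1 = u.1 * B) : A * B = B * A := by
  have d := u.2
  rw [det_fin_two] at d
  replace u2 : u.1 0 0 * u.1 0 0 + u.1 0 1 * u.1 1 0 = -1 := by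
    simpa [mul_apply] using congrFun (congrFun u2 0) 0
  simp only [← Matrix.ext_iff, Fin.forall_fin_two, mul_apply, Fin.sum_univ_two] at a b ⊢
  obtain ⟨⟨a1, a2⟩, a3, -⟩ := a
  obtain ⟨⟨b1, b2⟩, b3, -⟩ := b
  have k : ∀ {x : F}, u.1 0 1 * x = 0 → u.1 1 0 * x = 0 → (u.1 0 0 - u.1 1 1) * x = 0 → x = 0 := fun {x} p q r => by
    exact (mul_eq_zero.1 (show 2 * x = 0 by
      linear_combination (-x) * d + x * u2 + (-2 * u.1 1 0) * p - u.1 0 0 * r)).resolve_left h2
  refine ⟨⟨sub_eq_zero.1 (k ?_ ?_ ?_), sub_eq_zero.1 (k ?_ ?_ ?_)⟩, sub_eq_zero.1 (k ?_ ?_ ?_), sub_eq_zero.1 (k ?_ ?_ ?_)⟩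
  all_goals grind

theorem comm_cen {G : Type*} [Group G] {x x' y y' : G} (h : (x : G ⧸ center G) = x') (k : (y : G ⧸ center G) = y') :
    ⁅x, y⁆ = ⁅x', y'⁆ := by
  have e : ∀ {x x' : G} (y : G), (x : G ⧸ center G) = x' → ⁅x, y⁆ = ⁅x', y⁆ := fun {x x'} y h => by
    have := mem_center_iff.1 (QuotientGroup.eq.1 h) y
    calc _ = x * (y * (x⁻¹ * x')) * x'⁻¹ * y⁻¹ := by group
      _ = _ := by rw [this]; group
  rw [e y h, ← commutatorElement_inv y, e x' k, commutatorElement_inv]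

theorem conj_ts (h2 : (2 : F) ≠ 0) (h6 : 6 ≤ N) {a b c d : Fin N} (h : a ≠ b) (h' : c ≠ d) {g : SpecialLinearGroup (Fin N) F}
    (e : QuotientGroup.mk g * tp F a b * (QuotientGroup.mk g)⁻¹ = tp F c d) : g * ts F a b * g⁻¹ = ts F c d := by
  have : Nonempty (Fin N) := ⟨a⟩
  have f := fm_ts (K := F) (ι := Fin N) (by simp; omega) h2
  refine Subtype.ext ((mk_eq_sign (by rw [conj_mul, f.sq, mul_one, mul_inv_cancel]) (f.sq c d) e).resolve_right fun k => ?_)
  have r := rk_cj g (ts F a b)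
  have s := rk_neg h2 (congrArg Subtype.val (f.sq c d))
  rw [← k, r, coe_ts, coe_ts, ← sg_pair h, ← sg_pair h', rk_sg h2, rk_sg h2, Finset.card_pair h, Finset.card_pair h',
    Fintype.card_fin] at s
  omega

end

/-- `inj`: a scalar supported on `range ε` is 1.  `inf`: `k = c • l`, `k` supported on `{a, b}`, `l` on `range ε`: `k = c` on `{a, b}`, `c² = 1`.
`cQ`: `T ⊓ K` is a Sylow 2-subgroup of `K ≅ SL₂(q)`, nonabelian (`[[0, 1], [-1, 0]]`, `[[a, b], [b, -a]]` with `a² + b² = -1` generate `Q₈`); the `2 × 2` block of a lift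
of `h` commutes with it (a scalar commutator supported on `{a, b}` is 1), hence is scalar (the commutant of a nonscalar `2 × 2` matrix `A` is `⟨1, A⟩`), so
`⁅h, x⁆` lifts to an element supported on `range ε`.  `fr`: the `m × m` block `B` of a lift of `g` is `l · diagonal` (`exists_sl`).  `bK`: `x = lam x₀`, `x₀` commutes with
`ts i j` (`inj`), `⁅x, b k⁆ = lam ⁅x₀, r_k⁆` is supported on `{i, j}ᶜ`.  Last clause: the lifts `U, V` supported on `range ε` are, up to scalars, `H U' H⁻¹, H V' H⁻¹` with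
`U', V'` supported on `range ε` and `H r_a r_b H⁻¹ = r_c r_d`, so `⁅U, V⁆` is the identity on the coordinates `a, b` and on `c, d`, while `± r_a r_b` is not. -/
theorem exists_mb (h2 : (2 : F) ≠ 0) (hm : 4 ≤ m) {a b : Fin n} (hab : a ≠ b) (ε : Fin m ↪ Fin n)
    (rng : ∀ i, i ∈ Set.range ε ↔ i ≠ a ∧ i ≠ b) :
    ∃ (K : Subgroup (Cz (tp F a b))) (lam : SpecialLinearGroup (Fin m) F →* Cz (tp F a b)) (bb : Fin m → Cz (tp F a b)),
      (∀ k, (bb k : PL n F) = tp F b (ε k)) ∧ Mb ⟨tp F a b, mem_Cz.2 (Commute.refl _)⟩ bb K lam (ts F) ∧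
      ∀ c d, D4 a b c d → ∀ h : PL n F, h * tp F a b * h⁻¹ = tp F c d → ∀ u v u' v', (lam u : PL n F) = h * lam u' * h⁻¹ →
        (lam v : PL n F) = h * lam v' * h⁻¹ → ⁅(lam u : PL n F), (lam v : PL n F)⁆ ≠ tp F a b := by
  have d1 : ∀ i, ε i ∉ Set.range (pr hab) := fun i h => by
    have := (rng _).1 ⟨i, rfl⟩
    rw [mem_pr] at h
    tauto
  have d2 : ∀ i, pr hab i ∉ Set.range ε := fun i ⟨j, h⟩ => d1 j ⟨i, h.symm⟩
  have h6 : 6 ≤ n := by
    have := Fintype.card_le_of_injective _ ((pr hab).injective.sumElim ε.injective fun i j h => d1 j ⟨i, h⟩)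
    simp only [Fintype.card_sum, Fintype.card_fin] at this
    omega
  have : Nonempty (Fin n) := ⟨a⟩
  have i₀ : Fin m := ⟨0, by omega⟩
  have : Nonempty (Fin m) := ⟨i₀⟩
  have : Finite (SpecialLinearGroup (Fin n) F) := Subtype.finite
  have n1 : (1 : F) ≠ -1 := fun h => h2 (by linear_combination h)
  have ft := fm_tp (K := F) (ι := Fin n) (by simp; omega) h2
  have bd : ∀ g : SpecialLinearGroup (Fin n) F, QuotientGroup.mk g ∈ Cz (tp F a b) →
      BD (pr hab) g.1 (g.1.submatrix (pr hab) (pr hab)) ∧ BD ε g.1 (g.1.submatrix ε ε) := fun g hg => by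
    have c : g.1 * sg F {a, b} = sg F {a, b} * g.1 := by
      rw [sg_pair hab]
      exact congrArg Subtype.val (CL.L5.comm_of_conj_eq (g := g)
        (conj_ts h2 h6 hab hab (CL.L5.conj_eq_of_comm (mem_Cz.1 hg))))
    refine ⟨bd_of_comm h2 c fun i r hr => ?_, bd_of_comm h2 c fun i r hr => ?_⟩
    · have := (mem_pr hab).1 ⟨i, rfl⟩
      rw [mem_pr] at hr
      simp only [Finset.mem_insert, Finset.mem_singleton]
      tauto
    · have := (rng _).1 ⟨i, rfl⟩
      rw [rng] at hr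
      simp only [Finset.mem_insert, Finset.mem_singleton]
      tauto
  have b1 : ∀ x : SpecialLinearGroup (Fin 2) F, BD ε (eL (pr hab) x).1 1 := fun x => .of_bk (bk_embM _ _) d1
  have b2 : ∀ x : SpecialLinearGroup (Fin m) F, BD (pr hab) (eL ε x).1 1 := fun x => .of_bk (bk_embM _ _) d2
  have cL : ∀ x l, Commute (eL (K := F) (pr hab) x) (eL ε l) := fun x l =>
    show _ * _ = _ * _ from Subtype.ext ((b1 x).conj (by rw [one_mul, mul_one]))
  have ez : eL (pr hab) (ts F 0 1) = ts F a b := eL_ts _ _ _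
  have cz : ∀ x : SpecialLinearGroup (Fin 2) F, Commute x (ts F 0 1) := fun x =>
    show _ * _ = _ * _ from Subtype.ext (by change x.1 * (ts F 0 1).1 = (ts F 0 1).1 * x.1; simp [ts_two])
  let π := QuotientGroup.mk' (center (SpecialLinearGroup (Fin n) F))
  let lam := (π.comp (eL ε)).codRestrict (Cz (tp F a b)) fun l => mem_Cz.2 ((ez ▸ cL (ts F 0 1) l).symm.map π)
  let κ := (π.comp (eL (pr hab))).codRestrict (Cz (tp F a b)) fun l => mem_Cz.2 ((ez ▸ (cz l).map (eL (pr hab))).map π)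
  have inj : Function.Injective lam := (injective_iff_map_eq_one _).2 fun x h => by
    obtain ⟨c, e⟩ := (mk_eq_iff (x := eL ε x) (y := 1)).1 (congrArg Subtype.val h)
    have : (1 : F) = c := by simpa using congrFun (congrFun ((b2 x).uniq (A' := c • 1) (by rw [e]; exact BD.one.smul c)) 0) 0
    exact eL_inj ε (Subtype.ext (by rw [e, ← this, one_smul, map_one]))
  have nK : κ.range.Normal := ⟨by
    rintro _ ⟨x, rfl⟩ ⟨g, hg⟩
    obtain ⟨g, rfl⟩ := QuotientGroup.mk_surjective g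
    obtain ⟨y, e, -⟩ := (bd g hg).1.conj_eL (bd g⁻¹ (inv_mem hg)).1 x
    exact ⟨y, Subtype.ext (congrArg QuotientGroup.mk e.symm)⟩⟩
  refine ⟨κ.range, lam, fun k => ⟨tp F b (ε k), mem_Cz.2 (ft.comm ..)⟩, fun _ => rfl,
    ⟨mem_center_iff.2 fun g => Subtype.ext (mem_Cz.1 g.2), Subtype.ext (ft.sq a b), inj, ⟨?_⟩, nK, ?_, ?_,
      fun k => Subtype.ext (ft.sq ..), fun i j => Subtype.ext ?_, fun T h x hh hx => ?_, ?_, ?_⟩, ?_⟩
  · rintro _ ⟨x, rfl⟩ ⟨g, hg⟩
    obtain ⟨g, rfl⟩ := QuotientGroup.mk_surjective g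
    obtain ⟨y, e, -⟩ := (bd g hg).2.conj_eL (bd g⁻¹ (inv_mem hg)).2 x
    exact ⟨y, Subtype.ext (congrArg QuotientGroup.mk e.symm)⟩
  · rintro _ ⟨x, rfl⟩ l
    exact show _ * _ = _ * _ from Subtype.ext ((cL x l).map π)
  · rintro _ ⟨⟨x, rfl⟩, l, h⟩
    obtain ⟨c, e⟩ := (mk_eq_iff (x := eL (pr hab) x) (y := eL ε l)).1 (congrArg Subtype.val h.symm)
    have e' : x.1 = c • 1 := (BD.emb _ _).uniq (show BD _ (eL (pr hab) x).1 _ from e ▸ (b2 l).smul c)
    have := x.2
    rw [e', det_smul, det_one, mul_one, Fintype.card_fin, sq] at this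
    rcases mul_self_eq_one_iff.1 this with rfl | rfl
    · rw [show x = 1 from Subtype.ext (by rw [e', one_smul]; rfl), map_one]
      exact one_mem _
    · rw [show x = ts F 0 1 from Subtype.ext (by rw [e', ts_two, neg_smul, one_smul]),
        show κ (ts F 0 1) = ⟨tp F a b, _⟩ from Subtype.ext (congrArg QuotientGroup.mk ez)]
      exact mem_zpowers _
  · exact ((congrArg (· * _) (ft.symm ..)).trans (ft.mul ..)).trans (congrArg QuotientGroup.mk (eL_ts ε i j).symm)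
  · let w : SpecialLinearGroup (Fin 2) F := ⟨!![0, 1; -1, 0], by simp⟩
    have w2 : w.1 * w.1 = -1 := by ext i j; fin_cases i <;> fin_cases j <;> simp [w]
    have w4 : w ^ 2 ^ 2 = 1 := Subtype.ext (by
      rw [show (w ^ 2 ^ 2).1 = w.1 ^ (2 * 2) from Matrix.SpecialLinearGroup.coe_pow _ _, pow_mul, sq w.1, w2, neg_one_sq]; rfl)
    have p : IsPGroup 2 (zpowers (κ w)) := IsPGroup.of_card_dvd_pow (n := 2) (by
      rw [Nat.card_zpowers]; exact orderOf_dvd_of_pow_eq_one (by rw [← map_pow, w4, map_one]))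
    obtain ⟨Q, hQ⟩ := p.exists_le_sylow
    obtain ⟨⟨g, hg⟩, rfl⟩ := MulAction.exists_smul_eq (Cz (tp F a b)) Q T
    obtain ⟨g, rfl⟩ := QuotientGroup.mk_surjective g
    obtain ⟨u, e, eu⟩ := (bd g hg).1.conj_eL (bd g⁻¹ (inv_mem hg)).1 w
    have u2 : u.1 * u.1 = -1 := by
      have := (bd g hg).1.inv (bd g⁻¹ (inv_mem hg)).1
      rw [eu, mul_assoc, ← mul_assoc _ (_ * w.1), ← mul_assoc _ _ w.1, mul_eq_one_comm.1 this, one_mul, ← mul_assoc,
        mul_assoc _ w.1 w.1, w2, mul_neg, mul_one, neg_mul, this]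
    have hu := mem_inf.2 ⟨smul_mem_pointwise_smul _ (MulAut.conj (⟨_, hg⟩ : Cz _)) _ (hQ (mem_zpowers _)),
      nK.conj_mem _ ⟨w, rfl⟩ _⟩
    rw [show MulAut.conj (⟨_, hg⟩ : Cz _) • κ w = κ u from Subtype.ext (congrArg QuotientGroup.mk e)] at hu
    have k : ∀ (y : SpecialLinearGroup (Fin n) F) (hy : QuotientGroup.mk y ∈ Cz (tp F a b)), Commute ⟨_, hy⟩ (κ u) →
        y.1.submatrix (pr hab) (pr hab) * u.1 = u.1 * y.1.submatrix (pr hab) (pr hab) := fun y hy c => by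
      obtain ⟨t, e⟩ := (mk_eq_iff (x := y * eL (pr hab) u) (y := eL (pr hab) u * y)).1 (congrArg Subtype.val c)
      replace e : y.1 * (eL (pr hab) u).1 = t • ((eL (pr hab) u).1 * y.1) := e
      have e1 := ((bd y hy).2.mul (b1 u)).uniq (e ▸ ((b1 u).mul (bd y hy).2).smul t)
      replace e1 := congrArg (· * y⁻¹.1.submatrix ε ε) e1
      simp only [mul_one, one_mul, smul_mul_assoc, (bd y hy).2.inv (bd y⁻¹ (inv_mem hy)).2] at e1
      have : (1 : F) = t := by simpa using congrFun (congrFun e1 i₀) i₀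
      rw [← this, one_smul] at e
      exact ((bd y hy).1.mul (BD.emb _ _)).uniq (show BD _ (y.1 * (eL (pr hab) u).1) _ from e ▸ (BD.emb _ _).mul (bd y hy).1)
    obtain ⟨h, hh'⟩ := h
    obtain ⟨x, hx'⟩ := x
    obtain ⟨h, rfl⟩ := QuotientGroup.mk_surjective h
    obtain ⟨x, rfl⟩ := QuotientGroup.mk_surjective x
    have c := comm_two h2 u2 (k h hh' (hh _ hu)) (k x hx' (hx _ hu))
    have q := (((bd h hh').1.mul (bd x hx').1).mul (bd _ (inv_mem hh')).1).mul (bd _ (inv_mem hx')).1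
    rw [c, mul_assoc _ _ (h⁻¹.1.submatrix _ _), (bd h hh').1.inv (bd _ (inv_mem hh')).1, mul_one,
      (bd x hx').1.inv (bd _ (inv_mem hx')).1] at q
    obtain ⟨y, hy⟩ := (range_eL ε).ge (show ⁅h, x⁆ ∈ blk _ _ from q.bk fun r hr => by rw [rng] at hr; rw [mem_pr]; tauto)
    exact ⟨y, Subtype.ext (congrArg QuotientGroup.mk hy)⟩
  · rintro ⟨g, hg⟩
    obtain ⟨g, rfl⟩ := QuotientGroup.mk_surjective g
    have e := (bd g hg).2.inv (bd g⁻¹ (inv_mem hg)).2
    obtain ⟨l, hl⟩ := to_sl (⟨_, _, e, mul_eq_one_comm.1 e⟩ : GL (Fin m) F)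
    refine ⟨l, fun i j => ?_⟩
    obtain ⟨y, e', ey⟩ := (bd g hg).2.conj_eL (bd g⁻¹ (inv_mem hg)).2 (ts F i j)
    rw [show l * ts F i j * l⁻¹ = y from mul_inv_eq_of_eq_mul (Subtype.ext (by
      change l.1 * (rf F i * rf F j) = y.1 * l.1
      rw [rf_mul]
      exact (hl _ _ (by
        dsimp only; rw [ey, mul_assoc, mul_eq_one_comm.1 e, mul_one, coe_ts, rf_mul])).symm))]
    exact Subtype.ext (congrArg QuotientGroup.mk e')
  · rintro i j k ij ki kj _ ⟨x, rfl⟩ c r h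
    have bb : (⟨tp F b (ε i), mem_Cz.2 (ft.comm ..)⟩ * ⟨tp F b (ε j), mem_Cz.2 (ft.comm ..)⟩ : Cz (tp F a b)) =
      lam (ts F i j) := Subtype.ext
        (((congrArg (· * _) (ft.symm ..)).trans (ft.mul ..)).trans (congrArg QuotientGroup.mk (eL_ts ε i j).symm))
    rw [bb] at c h
    replace c := Commute.of_map inj c
    have t : BD ε (ts F b (ε k)).1 (rf F k) := by
      have := BD.diag ε fun x => (if x = b then (-1 : F) else 1) * if x = ε k then -1 else 1
      rw [coe_ts, rf_mul]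
      simpa only [rf, ((rng _).1 ⟨_, rfl⟩).2, if_false, one_mul, ε.injective.eq_iff] using this
    obtain ⟨y, e, ey⟩ := t.conj_eL (A' := rf F k) (by rwa [(fm_ts (by simp; omega) h2).inv]) x⁻¹
    rw [show ⁅lam x, (⟨tp F b (ε k), mem_Cz.2 (ft.comm ..)⟩ : Cz (tp F a b))⁆ = lam (x * y) from Subtype.ext (congrArg
      QuotientGroup.mk (show eL ε x * ts F b (ε k) * (eL ε x)⁻¹ * (ts F b (ε k))⁻¹ = eL ε (x * y) by
        rw [map_mul, ← e, map_inv]; group)), ← map_pow] at h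
    have o : ∀ v : SpecialLinearGroup (Fin m) F, Commute v (ts F i j) → BD (pr ij) v.1 (v.1.submatrix (pr ij) (pr ij)) :=
      fun v c => bd_of_comm h2 (I := {i, j}) (by rw [sg_pair ij]; exact congrArg Subtype.val c) fun t r hr => by
        have := (mem_pr ij).1 ⟨t, rfl⟩
        rw [mem_pr] at hr
        simp only [Finset.mem_insert, Finset.mem_singleton]
        tauto
    have s : BD (pr ij) (rf F k) 1 := by
      have := BD.diag (pr ij) fun x => if x = k then (-1 : F) else 1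
      rwa [show (fun t => if pr ij t = k then (-1 : F) else 1) = fun _ => 1 from funext fun t => if_neg fun e => by
        rcases (mem_pr ij).1 ⟨t, e⟩ with e | e <;> contradiction, diagonal_one] at this
    have q := (o x c).mul ((s.mul (o _ c.inv_left)).mul s)
    rw [one_mul, mul_one, (o x c).inv (o _ c.inv_left), ← ey] at q
    replace q := q.pow r
    rw [show (x.1 * y.1) ^ r = (ts F i j).1 from (Matrix.SpecialLinearGroup.coe_pow _ _).symm.trans
      (congrArg Subtype.val (inj h)), show ts F i j = eL (pr ij) (ts F 0 1) from (eL_ts (pr ij) 0 1).symm] at q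
    simpa [ts_two, n1] using congrFun (congrFun (q.uniq (BD.emb _ _)) 0) 0
  · intro c d D h hh u v u' v' hu hv e
    obtain ⟨h, rfl⟩ := QuotientGroup.mk_surjective h
    replace hh := conj_ts h2 h6 hab D.2.2.2.2.2 hh
    have q : ⁅eL ε u, eL ε v⁆ = h * ⁅eL ε u', eL ε v'⁆ * h⁻¹ := (comm_cen hu hv).trans (conjugate_commutatorElement ..).symm
    rw [← map_commutatorElement, ← map_commutatorElement] at q
    obtain ⟨t, e⟩ := (mk_eq_iff (x := eL ε ⁅u, v⁆) (y := ts F a b)).1 (by rw [map_commutatorElement]; exact e)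
    have t1 : t = -1 := by
      have := (b2 ⁅u, v⁆).uniq (A' := t • (ts F 0 1).1) (by rw [e, ← ez]; exact (BD.emb (pr hab) _).smul t)
      rw [ts_two] at this
      simpa [eq_comm, neg_eq_iff_eq_neg] using congrFun (congrFun this 0) 0
    have w : ∀ x, (eL ε x).1 * (1 - (ts F a b).1) = 1 - (ts F a b).1 := fun x => by
      rw [← ez]
      change _ * (1 - (1 + _)) = 1 - (1 + _)
      rw [sub_add_cancel_left, mul_neg, ← Matrix.mul_assoc, ← Matrix.mul_assoc, (b2 x).1, Matrix.mul_one]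
    have w' : (eL ε ⁅u, v⁆).1 * (1 - (ts F c d).1) = 1 - (ts F c d).1 := by
      have o : h⁻¹.1 * h.1 = 1 := congrArg Subtype.val (inv_mul_cancel h)
      have : 1 - (ts F c d).1 = h.1 * (1 - (ts F a b).1) * h⁻¹.1 := by
        rw [mul_sub, sub_mul, mul_one, mul_eq_one_comm.1 o, ← hh]; rfl
      rw [this, q]
      change h.1 * _ * h⁻¹.1 * _ = _
      rw [mul_assoc, ← mul_assoc h⁻¹.1, ← mul_assoc h⁻¹.1, o, one_mul, ← mul_assoc, mul_assoc h.1, w]
    rw [e, t1, coe_ts, coe_ts, rf_mul, rf_mul, ← diagonal_one, diagonal_sub, smul_mul_assoc, diagonal_mul_diagonal] at w'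
    have := congrFun (congrFun w' c) c
    simp [D.2.1.symm, D.2.2.2.1.symm, D.2.2.2.2.2] at this
    exact mul_ne_zero h2 h2 (by linear_combination -this)

end CL.Lm
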