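import Cfsg.Agent.FUS.Lm.Diag

/-! # All frames of `SL_m^±(q)` are conjugate -/

set_option autoImplicit false
set_option maxHeartbeats 400000

namespace CL.Lm

open Subgroup Cfsg Matrix

/-- Pure combinatorics: a `Sym(ι)`-invariant family of at most `|ι|` partitions. -/
theorem exists_perm_single {ι : Type*} [Fintype ι] [DecidableEq ι] (h4 : 4 ≤ Fintype.card ι) (S : ι → Finset ι)
    (inv : ∀ (σ : Equiv.Perm ι) r, ∃ r', S r' = (S r).map σ.toEmbedding ∨ S r' = ((S r).map σ.toEmbedding)ᶜ)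
    (ne : ∃ r i j k l, D4 i j k l ∧ ¬ ((i ∈ S r ↔ j ∈ S r) ↔ (k ∈ S r ↔ l ∈ S r))) :
    ∃ π : Equiv.Perm ι, ∀ i, S (π i) = {i} ∨ S (π i) = {i}ᶜ := by
  have eq : ∀ {r T T'}, (S r = T ∨ S r = Tᶜ) → (S r = T' ∨ S r = T'ᶜ) → T = T' ∨ T = T'ᶜ := by
    rintro r T T' (a | a) (b | b)
    exacts [.inl (a ▸ b), .inr (a ▸ b), .inr (by rw [← b, a, compl_compl]), .inl (compl_injective (a ▸ b))]
  have inv' : ∀ (σ : Equiv.Perm ι) {T}, (∃ r, S r = T ∨ S r = Tᶜ) →
      ∃ r, S r = T.map σ.toEmbedding ∨ S r = (T.map σ.toEmbedding)ᶜ := by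
    rintro σ T ⟨r, rfl | h⟩
    · exact inv σ r
    · have : Tᶜ.map σ.toEmbedding = (T.map σ.toEmbedding)ᶜ := by ext x; simp
      obtain ⟨r', h'⟩ := inv σ r
      rw [h, this, compl_compl] at h'
      exact ⟨r', h'.symm⟩
  obtain ⟨T, hT, a, ha, h3⟩ : ∃ T, (∃ r, S r = T ∨ S r = Tᶜ) ∧ ∃ a ∈ T, 3 ≤ Tᶜ.card := by
    obtain ⟨r, i, j, k, l, ⟨d1, d2, d3, d4, d5, d6⟩, h⟩ := ne
    have k3 : ∀ (T : Finset ι) (b c d : ι), b ≠ c → b ≠ d → c ≠ d → b ∉ T → c ∉ T → d ∉ T → 3 ≤ Tᶜ.card :=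
      fun T b c d h1 h2 h3 a1 a2 a3 => Finset.two_lt_card_iff.2 ⟨b, c, d, by simpa, by simpa, by simpa, h1, h2, h3⟩
    have k4 : ∀ T : Finset ι, ¬ ((i ∈ T ↔ j ∈ T) ↔ (k ∈ T ↔ l ∈ T)) → i ∈ T →
        (∃ a ∈ T, 3 ≤ Tᶜ.card) ∨ ∃ a ∈ Tᶜ, 3 ≤ Tᶜᶜ.card := fun T h hi => by
      by_cases hj : j ∈ T <;> by_cases hk : k ∈ T <;> by_cases hl : l ∈ T
      · simp [*] at h
      · exact .inr ⟨l, by simpa, k3 _ i j k d1 d2 d4 (by simpa) (by simpa) (by simpa)⟩
      · exact .inr ⟨k, by simpa, k3 _ i j l d1 d3 d5 (by simpa) (by simpa) (by simpa)⟩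
      · simp [*] at h
      · exact .inr ⟨j, by simpa, k3 _ i k l d2 d3 d6 (by simpa) (by simpa) (by simpa)⟩
      · simp [*] at h
      · simp [*] at h
      · exact .inl ⟨i, hi, k3 _ j k l d4 d5 d6 hj hk hl⟩
    by_cases hi : i ∈ S r
    · rcases k4 _ h hi with h | h
      exacts [⟨_, ⟨r, .inl rfl⟩, h⟩, ⟨_, ⟨r, .inr (compl_compl _).symm⟩, h⟩]
    · rcases k4 (S r)ᶜ (by simpa only [Finset.mem_compl, not_iff_not] using h) (by simpa) with h | h
      exacts [⟨_, ⟨r, .inr (compl_compl _).symm⟩, h⟩, ⟨_, ⟨r, .inl (compl_compl _).symm⟩, h⟩]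
  have h1 : T = {a} := by
    by_contra n
    have h2 : 2 ≤ T.card := by
      by_contra h
      exact n (Finset.eq_singleton_iff_unique_mem.2 ⟨ha, fun x hx => Finset.card_le_one.1 (by omega) x hx a ha⟩)
    choose f hf using fun x : T × (Tᶜ : Finset ι) => inv' (Equiv.swap x.1.1 x.2.1) hT
    have := Fintype.card_le_of_injective f fun ⟨⟨a, ha⟩, b, hb⟩ ⟨⟨a', ha'⟩, b', hb'⟩ e => by
      have m : ∀ a b x, x ∈ T.map (Equiv.swap a b).toEmbedding ↔ Equiv.swap a b x ∈ T := fun a b x => by simp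
      have e0 := eq (hf ⟨⟨a, ha⟩, ⟨b, hb⟩⟩) (e ▸ hf ⟨⟨a', ha'⟩, ⟨b', hb'⟩⟩)
      have nb : b ∉ T := Finset.mem_compl.1 hb
      have nb' : b' ∉ T := Finset.mem_compl.1 hb'
      have e1 : (∀ x, (Equiv.swap a b x ∈ T ↔ Equiv.swap a' b' x ∈ T)) ∨
          ∀ x, (Equiv.swap a b x ∈ T ↔ Equiv.swap a' b' x ∉ T) :=
        e0.imp (fun e x => by rw [← m, ← m]; exact Finset.ext_iff.1 e x)
          fun e x => by rw [← m, ← m, ← Finset.mem_compl]; exact Finset.ext_iff.1 e x
      rcases e1 with e1 | e1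
      · obtain rfl : a = a' := by
          by_contra k
          have := e1 a
          rw [Equiv.swap_apply_left, Equiv.swap_apply_of_ne_of_ne k (ne_of_mem_of_not_mem ha nb')] at this
          exact nb (this.2 ha)
        obtain rfl : b = b' := by
          by_contra k
          have := e1 b
          rw [Equiv.swap_apply_right, Equiv.swap_apply_of_ne_of_ne (ne_of_mem_of_not_mem ha nb).symm k] at this
          exact nb (this.1 ha)
        rfl
      · obtain ⟨c, hc, k⟩ := Finset.exists_mem_notMem_of_card_lt_card (s := {b, b'}) (t := Tᶜ)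
          (Finset.card_le_two.trans_lt h3)
        simp only [Finset.mem_compl, Finset.mem_insert, Finset.mem_singleton, not_or] at hc k
        have := e1 c
        rw [Equiv.swap_apply_of_ne_of_ne (ne_of_mem_of_not_mem ha hc).symm k.1,
          Equiv.swap_apply_of_ne_of_ne (ne_of_mem_of_not_mem ha' hc).symm k.2] at this
        exact absurd (this.2 hc) hc
    rw [Fintype.card_prod, Fintype.card_coe, Fintype.card_coe, ← T.card_add_card_compl] at this
    nlinarith
  subst h1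
  choose π hπ using fun i => inv' (Equiv.swap a i) hT
  simp only [Finset.map_singleton, Equiv.coe_toEmbedding, Equiv.swap_apply_left] at hπ
  refine ⟨Equiv.ofBijective π (Finite.injective_iff_bijective.1 fun i j e => ?_), hπ⟩
  rcases eq (hπ i) (e ▸ hπ j) with e | e
  · exact Finset.singleton_injective e
  · have := congrArg Finset.card e
    rw [Finset.card_compl, Finset.card_singleton, Finset.card_singleton] at this
    omega

/-- `diag`: `μ (τ' i j) g = g sg (I i j)`; `S r = {i | r ∈ I i₀ i}`; `exists_perm_single`; `C.adj`. -/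
theorem Cl.idf {K : Type*} [Field K] {ι : Type*} [Fintype ι] [DecidableEq ι] {Γ : Type*} [Group Γ] {μ : Γ →* Matrix ι ι K}
    {τ : ι → ι → Γ} {F : Type*} [Field F] {e : ℕ} (C : Cl μ τ F e) (k2 : (2 : K) ≠ 0) (h4 : 4 ≤ Fintype.card ι)
    (τ' : ι → ι → Γ) (h : Fm τ') : ∃ g, ∀ i j, τ' i j = g * τ i j * g⁻¹ := by
  obtain ⟨g, hg⟩ := diag k2 (fun a : ι × ι => μ (τ' a.1 a.2)) (fun a => by rw [← map_mul, h.sq, map_one])
    fun a b => by rw [← map_mul, ← map_mul, (h.comm _ _ _ _).eq]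
  choose I hI using fun i j => hg (i, j)
  simp only at hI
  have n1 : (-1 : K) ≠ 1 := fun e => k2 (by linear_combination -e)
  have sgn : ∀ {p q : Prop} [Decidable p] [Decidable q], (if p then (-1 : K) else 1) = (if q then -1 else 1) ↔ (p ↔ q) := by
    intro p q _ _
    by_cases hp : p <;> by_cases hq : q <;> simp [hp, hq, n1, n1.symm]
  have sgm : ∀ {p q : Prop} [Decidable p] [Decidable q], (if p then (-1 : K) else 1) * (if q then -1 else 1) =
      if ¬ (p ↔ q) then -1 else 1 := by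
    intro p q _ _
    by_cases hp : p <;> by_cases hq : q <;> simp [hp, hq]
  have can : ∀ {A B : Matrix ι ι K}, g.1 * A = g.1 * B → A = B := fun e => g.isUnit.mul_left_cancel e
  obtain ⟨i, j, k, l, D⟩ := exists_d4 h4
  let S : ι → Finset ι := fun r => Finset.univ.filter fun x => r ∈ I i x
  have hS : ∀ r a b, r ∈ I a b ↔ ¬ (a ∈ S r ↔ b ∈ S r) := fun r a b => by
    have : sg K (I a b) = sg K (I i a) * sg K (I i b) := can (by
      rw [← hI, ← mul_assoc, ← hI, mul_assoc, ← hI, ← mul_assoc, ← map_mul, h.symm i a, h.mul])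
    have := congrFun (congrFun this r) r
    simp only [sg, diagonal_mul_diagonal, diagonal_apply_eq, sgm, sgn] at this
    simpa [S] using this
  obtain ⟨π, hπ⟩ := exists_perm_single h4 S (fun σ r => by
    obtain ⟨x, hx⟩ := h.perm σ
    obtain ⟨r', h'⟩ : ∃ r', (g⁻¹.1 * μ x * g.1) r' r ≠ 0 := by
      by_contra! n
      have := det_eq_zero_of_column_eq_zero r n
      rw [det_mul, det_mul, C.det, mul_one, ← det_mul, Units.inv_mul, det_one] at this
      exact one_ne_zero this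
    have k : ∀ a b, (a ∈ S r ↔ b ∈ S r) ↔ (σ a ∈ S r' ↔ σ b ∈ S r') := fun a b => by
      have : g⁻¹.1 * μ x * g.1 * sg K (I a b) = sg K (I (σ a) (σ b)) * (g⁻¹.1 * μ x * g.1) := can (by
        rw [← mul_assoc g.1 (sg _ _), ← hI, mul_assoc _ g.1 (sg _ _), ← hI, ← hx]
        simp only [← mul_assoc, Units.mul_inv, one_mul, Units.mul_inv_cancel_right, ← map_mul, inv_mul_cancel_right])
      have := congrFun (congrFun this r') r
      rw [sg, sg, mul_diagonal, diagonal_mul, mul_comm, mul_left_inj' h', sgn, hS, hS] at this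
      exact not_iff_not.1 this
    refine ⟨r', ?_⟩
    by_cases c : i ∈ S r ↔ σ i ∈ S r'
    · refine .inl (Finset.ext fun y => ?_)
      obtain ⟨y, rfl⟩ := σ.surjective y
      have := k i y
      rw [Finset.mem_map_equiv, Equiv.symm_apply_apply]
      tauto
    · refine .inr (Finset.ext fun y => ?_)
      obtain ⟨y, rfl⟩ := σ.surjective y
      have := k i y
      rw [Finset.mem_compl, Finset.mem_map_equiv, Equiv.symm_apply_apply]
      tauto) (by
    by_contra! n
    refine h.ne4 i j k l D (C.inj (g.isUnit.mul_right_cancel ?_))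
    rw [hI, hI, show I i j = I k l from Finset.ext fun r => by rw [hS, hS, n r i j k l D]])
  obtain ⟨P, hP⟩ := exists_pm (K := K) π
  have e : ∀ a b, μ (τ' a b) * (g * P).1 = (g * P).1 * (rf K a * rf K b) := fun a b => by
    rw [Units.val_mul, ← mul_assoc, hI, mul_assoc, sg, hP, mul_assoc, rf_mul]
    congr 3
    funext x
    rw [sgm, sgn, hS]
    rcases hπ x with e | e <;> simp [e, eq_comm, not_iff_not]
  obtain ⟨y, d, hy⟩ := C.adj (g * P) fun a b => ⟨_, e a b⟩
  refine ⟨y, fun a b => eq_mul_inv_of_mul_eq (C.inj ?_)⟩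
  rw [map_mul, map_mul, hy, ← mul_assoc, e, C.tau, rf_mul, mul_assoc, mul_assoc, diagonal_mul_diagonal,
    diagonal_mul_diagonal]
  simp only [mul_comm]

end CL.Lm
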