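import Cfsg.Agent.FUS.Lm.Diag
import Cfsg.Agent.FUS.Lm.Avg

/-! # Involutions of `L_n(q)`, `n ≥ 6`: `g1`, `g2`, `g3` of `Mg`

Lift `d, d'` to involutions `U, V` of `SL` with `rk = 2` (`w2_iff`).  `rk ((U V)^k) ≤ 4 < n` (`rk_mul_le`, `rk_pow_le`).  If the image of `J = (U V)^k`
has order 2 then `J² = c` is scalar (`mk_eq_iff`) with `rk (J²) ≤ 4 < n`, so `c = 1`; `J ≠ 1`, `det J = 1` give `rk J ∈ {2, 4}` (`det_eq`). -/

set_option autoImplicit false

namespace CL.Lm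

open Subgroup Cfsg Matrix

variable {K : Type*} [Field K] [Finite K] {ι : Type*} [Fintype ι] [DecidableEq ι]

instance finSL : Finite (SpecialLinearGroup ι K) := Subtype.finite

theorem lift2 {U V : SpecialLinearGroup ι K} {a b : ℕ} (hU : U ^ 2 ^ a = 1) (hV : V ^ 2 ^ b = 1)
    (h : IsPGroup 2 (closure {QuotientGroup.mk U, QuotientGroup.mk V} : Subgroup (ProjectiveSpecialLinearGroup ι K))) :
    IsPGroup 2 (closure {U, V} : Subgroup _) := by
  obtain ⟨Q, hQ, -, m⟩ := exists_lift (QuotientGroup.mk'_surjective (center (SpecialLinearGroup ι K)))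
    (QuotientGroup.ker_mk' _).le h
  refine hQ.to_le ((closure_le _).2 ?_)
  rintro _ (rfl | rfl)
  · exact m _ (subset_closure (.inl rfl)) _ hU
  · exact m _ (subset_closure (.inr rfl)) _ hV

omit [Finite K] in
theorem exists_two {V : Type*} [AddCommGroup V] [Module K V] (W : Submodule K V) (h : 2 ≤ Module.finrank K W) :
    ∃ U ≤ W, Module.finrank K U = 2 := by
  obtain ⟨f, hf⟩ := exists_linearIndependent_of_le_finrank h
  refine ⟨Submodule.span K (Set.range (W.subtype ∘ f)), Submodule.span_le.2 ?_, ?_⟩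
  · rintro _ ⟨i, rfl⟩
    exact (f i).2
  · rw [finrank_span_eq_card (hf.map' W.subtype W.ker_subtype), Fintype.card_fin]

/-- `D = ⟨U, V⟩` is a 2-group (`exists_lift`); `ker (U - 1) ⊓ ker (V - 1)` has dimension `≥ n - 4 ≥ 2`; a 2-dimensional subspace of it is
`D`-invariant; `exists_w2`. -/
theorem g1 (h6 : 6 ≤ Fintype.card ι) (h2 : (2 : K) ≠ 0) (d d' : ProjectiveSpecialLinearGroup ι K) (hd : W2 (tp K) d)
    (hd' : W2 (tp K) d') (h : IsPGroup 2 (closure {d, d'} : Subgroup _)) :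
    ∃ x, W2 (tp K) x ∧ Commute x d ∧ Commute x d' := by
  have : Nontrivial ι := Fintype.one_lt_card_iff_nontrivial.1 (by omega)
  obtain ⟨U, rfl, u2, ur⟩ := (w2_iff h2).1 hd
  obtain ⟨V, rfl, v2, vr⟩ := (w2_iff h2).1 hd'
  have a := LinearMap.finrank_range_add_finrank_ker (U.1 - 1).mulVecLin
  have b := LinearMap.finrank_range_add_finrank_ker (V.1 - 1).mulVecLin
  have c := Submodule.finrank_sup_add_finrank_inf_eq (LinearMap.ker (U.1 - 1).mulVecLin) (LinearMap.ker (V.1 - 1).mulVecLin)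
  have e := Submodule.finrank_le (LinearMap.ker (U.1 - 1).mulVecLin ⊔ LinearMap.ker (V.1 - 1).mulVecLin)
  rw [Module.finrank_fintype_fun_eq_card] at a b e
  change rk U.1 + _ = _ at a
  change rk V.1 + _ = _ at b
  obtain ⟨W, hW, w2⟩ := exists_two (LinearMap.ker (U.1 - 1).mulVecLin ⊓ LinearMap.ker (V.1 - 1).mulVecLin) (by omega)
  obtain ⟨y, y2, yr, hy⟩ := exists_w2 h2 (closure {U, V}) (lift2 (a := 1) (b := 1) (by rw [pow_one, sq, u2])
    (by rw [pow_one, sq, v2]) h) W w2 fun d hd u hu => by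
      have : d.1 *ᵥ u = u := by
        induction hd using closure_induction with
        | mem x hx =>
          rcases hx with rfl | rfl
          · simpa [sub_mulVec, sub_eq_zero] using (hW hu).1
          · simpa [sub_mulVec, sub_eq_zero] using (hW hu).2
        | one => exact one_mulVec u
        | mul x y _ _ a b => rw [show (x * y).1 = x.1 * y.1 from rfl, ← mulVec_mulVec, b, a]
        | inv x _ a =>
          rw [← a, mulVec_mulVec, show x⁻¹.1 * x.1 = 1 from congrArg Subtype.val (inv_mul_cancel x), one_mulVec, a]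
      rwa [this]
  exact ⟨QuotientGroup.mk y, (w2_iff h2).2 ⟨y, rfl, y2, yr⟩, (hy U (subset_closure (.inl rfl))).map (QuotientGroup.mk' _),
    (hy V (subset_closure (.inr rfl))).map (QuotientGroup.mk' _)⟩

omit [Finite K] in
theorem rk_eq_zero (h2 : (2 : K) ≠ 0) {M : Matrix ι ι K} (sq : M * M = 1) (h : rk M = 0) : M = 1 := by
  obtain ⟨g, I, e⟩ := diag1 h2 sq
  rw [rk_conj e, rk_sg h2, Finset.card_eq_zero] at h
  subst h
  exact g.isUnit.mul_right_cancel (by rw [e, one_mul]; simp [sg])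

omit [Finite K] in
theorem rk_even (h2 : (2 : K) ≠ 0) {J : SpecialLinearGroup ι K} (sq : J * J = 1) : Even (rk J.1) := by
  have := det_eq h2 (congrArg Subtype.val sq)
  rw [J.2] at this
  by_contra h
  rw [(Nat.not_even_iff_odd.1 h).neg_one_pow] at this
  exact h2 (by linear_combination this)

omit [Finite K] in
theorem inv_of_rk (h6 : 6 ≤ Fintype.card ι) (h2 : (2 : K) ≠ 0) {J : SpecialLinearGroup ι K} (r : rk J.1 ≤ 4)
    (o : orderOf (QuotientGroup.mk J : ProjectiveSpecialLinearGroup ι K) = 2) : J * J = 1 ∧ (rk J.1 = 2 ∨ rk J.1 = 4) := by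
  have e : (QuotientGroup.mk (J * J) : ProjectiveSpecialLinearGroup ι K) = QuotientGroup.mk 1 := by
    rw [QuotientGroup.mk_mul, ← sq, ← o, pow_orderOf_eq_one, QuotientGroup.mk_one]
  obtain ⟨c, hc⟩ := mk_eq_iff.1 e
  have sq : J * J = 1 := by
    by_contra n
    have c1 : c - 1 ≠ 0 := fun k => n (Subtype.ext (by rw [hc, sub_eq_zero.1 k, one_smul]))
    have := rk_pow_le J.1 2
    rw [pow_two, show J.1 * J.1 = c • (1 : Matrix ι ι K) from hc, rk, show c • (1 : Matrix ι ι K) - 1 = (c - 1) • 1 by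
      rw [sub_smul, one_smul], rank_smul_of_mem_nonZeroDivisors _ (mem_nonZeroDivisors_of_ne_zero c1), rank_one] at this
    omega
  have n : rk J.1 ≠ 0 := fun k => by
    rw [show J = 1 from Subtype.ext (rk_eq_zero h2 (congrArg Subtype.val sq) k), QuotientGroup.mk_one, orderOf_one] at o
    omega
  obtain ⟨m, hm⟩ := rk_even h2 sq
  exact ⟨sq, by omega⟩

omit [Finite K] in
theorem rk_pow_four {U V : SpecialLinearGroup ι K} (u : rk U.1 = 2) (v : rk V.1 = 2) (k : ℕ) : rk ((U * V) ^ k).1 ≤ 4 := by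
  have a := rk_pow_le (U.1 * V.1) k
  have b := rk_mul_le U.1 V.1
  rw [show ((U * V) ^ k).1 = (U.1 * V.1) ^ k from Matrix.SpecialLinearGroup.coe_pow _ _]
  omega

/-- see the header. -/
theorem g2 (h6 : 6 ≤ Fintype.card ι) (h2 : (2 : K) ≠ 0) (d d' : ProjectiveSpecialLinearGroup ι K) (hd : W2 (tp K) d)
    (hd' : W2 (tp K) d') (k : ℕ) (h : orderOf ((d * d') ^ k) = 2) :
    W2 (tp K) ((d * d') ^ k) ∨ W4 (tp K) ((d * d') ^ k) := by
  have : Nontrivial ι := Fintype.one_lt_card_iff_nontrivial.1 (by omega)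
  obtain ⟨U, rfl, u2, ur⟩ := (w2_iff h2).1 hd
  obtain ⟨V, rfl, v2, vr⟩ := (w2_iff h2).1 hd'
  obtain ⟨sq, r⟩ := inv_of_rk h6 h2 (rk_pow_four ur vr k) h
  exact r.imp (fun r => (w2_iff h2).2 ⟨_, rfl, sq, r⟩) fun r => (w4_iff (by omega) h2).2 ⟨_, rfl, sq, r⟩

section

omit [Finite K]

theorem sg_mul (A B : Finset ι) : sg K A * sg K B = sg K (symmDiff A B) := by
  rw [sg, sg, sg, diagonal_mul_diagonal]
  congr 1
  ext x
  by_cases a : x ∈ A <;> by_cases b : x ∈ B <;> simp [Finset.mem_symmDiff, a, b]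

theorem sg_comm (A B : Finset ι) : sg K A * sg K B = sg K B * sg K A := by rw [sg_mul, sg_mul, symmDiff_comm]

/-- the rank of `M - 1` on the fixed space of `Y`. -/
noncomputable def re (Y M : Matrix ι ι K) : ℕ := ((M - 1) * (1 + Y)).rank

theorem re_conj {M N Y Y' : Matrix ι ι K} {g : SpecialLinearGroup ι K} (h : M * g.1 = g.1 * N) (k : Y * g.1 = g.1 * Y') :
    re Y M = re Y' N := by
  have u : IsUnit g.1.det := by rw [g.2]; exact isUnit_one
  rw [re, re, ← rank_mul_eq_left_of_isUnit_det g.1 _ u, ← rank_mul_eq_right_of_isUnit_det g.1 ((N - 1) * _) u, mul_assoc,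
    show (1 + Y) * g.1 = g.1 * (1 + Y') by rw [add_mul, mul_add, k, one_mul, mul_one], ← mul_assoc, ← mul_assoc, sub_mul,
    mul_sub, h, one_mul, mul_one]

theorem re_sg (h2 : (2 : K) ≠ 0) (A B : Finset ι) : re (sg K B) (sg K A) = (A \ B).card := by
  classical
  have a : (-1 - 1 : K) ≠ 0 := fun h => h2 (by linear_combination -h)
  have b : (1 + 1 : K) ≠ 0 := fun h => h2 (by linear_combination h)
  rw [re, sg, sg, ← diagonal_one, diagonal_sub, diagonal_add, diagonal_mul_diagonal, rank_diagonal, Fintype.card_subtype]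
  congr 1
  ext x
  by_cases h : x ∈ A <;> by_cases k : x ∈ B <;> simp [h, k, a, b]

theorem re_pow_le (Y M N : Matrix ι ι K) (n : ℕ) : re Y ((M * N) ^ n) ≤ re Y M + re Y N := by
  have : (M * N - 1) * (1 + Y) = (M - 1) * (1 + Y) + M * ((N - 1) * (1 + Y)) := by noncomm_ring
  rw [re, ← geom_sum_mul, mul_assoc, this]
  exact (rank_mul_le_right _ _).trans ((rank_add_le' _ _).trans (Nat.add_le_add_left (rank_mul_le_right _ _) _))

theorem side [Nonempty ι] (h2 : (2 : K) ≠ 0) {C y s : SpecialLinearGroup ι K} {I S : Finset ι} (hy : y.1 = sg K I)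
    (hs : s.1 = sg K S) (hc : Commute (QuotientGroup.mk C : ProjectiveSpecialLinearGroup ι K) (QuotientGroup.mk y)) :
    Commute (C * s * C⁻¹) y ∧ ∃ I', (I' = I ∨ I' = Iᶜ) ∧ (C * y * C⁻¹).1 = sg K I' ∧
      re (sg K I') (C * s * C⁻¹).1 = (S \ I).card ∧ re (sg K I'ᶜ) (C * s * C⁻¹).1 = (S \ Iᶜ).card := by
  have y2 : y * y = 1 := Subtype.ext (by change y.1 * y.1 = 1; rw [hy, sg_sq])
  have c : Commute (C * s * C⁻¹) (C * y * C⁻¹) := CL.L5.comm_conj (show s * y = y * s from Subtype.ext (by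
    change s.1 * y.1 = y.1 * s.1; rw [hs, hy, sg_comm])) C
  have c' : (C * s * C⁻¹).1 * (C * y * C⁻¹).1 = (C * y * C⁻¹).1 * (C * s * C⁻¹).1 := congrArg Subtype.val c
  have k : ∀ z : SpecialLinearGroup ι K, (C * z * C⁻¹).1 * C.1 = C.1 * z.1 := fun z =>
    congrArg Subtype.val (inv_mul_cancel_right (C * z) C)
  have r : ∀ I', (C * y * C⁻¹).1 = sg K I' → re (sg K I') (C * s * C⁻¹).1 = (S \ I).card ∧
      re (sg K I'ᶜ) (C * s * C⁻¹).1 = (S \ Iᶜ).card := fun I' e => by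
    have := k y
    rw [e, hy] at this
    rw [← re_sg h2, ← re_sg h2, ← hs]
    exact ⟨re_conj (k s) this, re_conj (k s) (by rw [← neg_sg, ← neg_sg, neg_mul, mul_neg, this])⟩
  rcases mk_eq_sign (x := C * y * C⁻¹) (y := y) (by rw [conj_mul, y2, mul_one, mul_inv_cancel]) y2
    (CL.L5.conj_eq_of_comm hc) with e | e
  · exact ⟨Subtype.ext (by rwa [e] at c'), I, .inl rfl, e.trans hy, r _ (e.trans hy)⟩
  · rw [hy, neg_sg] at e
    refine ⟨Subtype.ext ?_, Iᶜ, .inr rfl, e, r _ e⟩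
    rw [e, ← neg_sg, ← hy, mul_neg, neg_mul] at c'
    exact neg_injective c'

end

/-- `I = {i, j, k, l}`, `Y = sg I`, lifts `C, C'` with `C Y C⁻¹ = ± Y` (`mk_eq_sign`; the sign `-` only if `n = 8`, `rk_neg`), `U = C r_i r_j C⁻¹`,
`V = C' r_i r_m C'⁻¹` commute with `Y`.  Put `e = (1 - Y)/2`, `e' = 1 - e` and for `M` commuting with `Y`: `M₁ = M e + e'`, `M₂ = e + M e'`
(multiplicative in `M`, `M = M₁ M₂`).  `V₁, V₂` are `C' r_i C'⁻¹, C' r_m C'⁻¹` in some order (`rk = 1`), `(U₁, U₂) = (U, 1)`, or `(1, U)` if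
`C Y C⁻¹ = -Y`.  Let `J = (U V)^n`, `J² = 1`, and assume `rk J = 4` (else `W2 J`).  Case `(U, 1)`: `rk J₁ ≤ 3`, `rk J₂ ≤ 1`, `4 ≤ rk J₁ + rk J₂`, so they are
`3, 1`.  `conj_sg2` for `J` and `Y`: `J ~ sg A`, `J₁ ~ sg (A ∩ I)`, `J₂ ~ sg (A \ I)`, `J Y ~ sg (A ∆ I)`, `|A ∆ I| = 1 + 1`.
Case `(1, U)`, `n = 8`: the same with `-Y = sg Iᶜ` (same image in `PSL`) in place of `Y`. -/
theorem g3 (h6 : 6 ≤ Fintype.card ι) (h2 : (2 : K) ≠ 0) (i j k l m : ι) (h : D4 i j k l) (hi : m ≠ i) (hj : m ≠ j) (hk : m ≠ k)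
    (hl : m ≠ l) (c c' u v : ProjectiveSpecialLinearGroup ι K) (hc : Commute c (tp K i j * tp K k l))
    (hc' : Commute c' (tp K i j * tp K k l)) (hu : u = c * tp K i j * c⁻¹) (hv : v = c' * tp K i m * c'⁻¹) (n : ℕ)
    (ho : orderOf ((u * v) ^ n) = 2) : W2 (tp K) ((u * v) ^ n) ∨ W2 (tp K) ((u * v) ^ n * (tp K i j * tp K k l)) := by
  have : Nontrivial ι := Fintype.one_lt_card_iff_nontrivial.1 (by omega)
  obtain ⟨C, rfl⟩ := QuotientGroup.mk_surjective c
  obtain ⟨C', rfl⟩ := QuotientGroup.mk_surjective c'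
  subst hu hv
  have hy := ts_mul_ts (K := K) h
  obtain ⟨cU, I, hI, eI, u0, u2⟩ := side h2 hy (sg_pair h.1).symm (s := ts K i j) hc
  obtain ⟨cV, I', hI', -, v0, v1⟩ := side h2 hy (sg_pair hi.symm).symm (s := ts K i m) hc'
  have ur : rk (C * ts K i j * C⁻¹).1 = 2 := by rw [rk_cj, coe_ts, ← sg_pair h.1, rk_sg h2, Finset.card_pair h.1]
  have vr : rk (C' * ts K i m * C'⁻¹).1 = 2 := by rw [rk_cj, coe_ts, ← sg_pair hi.symm, rk_sg h2, Finset.card_pair hi.symm]
  have c4 : I.card = 4 := by rw [← rk_sg h2 I, ← eI, rk_cj, hy, rk_sg h2, h.card]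
  have m4 : (QuotientGroup.mk (C * (ts K i j * ts K k l) * C⁻¹) : ProjectiveSpecialLinearGroup ι K) =
    tp K i j * tp K k l := CL.L5.conj_eq_of_comm hc
  rw [show ({i, j} \ {i, j, k, l} : Finset ι) = ∅ by ext; simp +contextual, Finset.card_empty] at u0
  rw [show ({i, m} \ {i, j, k, l} : Finset ι) = {m} by ext; simp; grind, Finset.card_singleton] at v0
  rw [show ({i, m} \ {i, j, k, l}ᶜ : Finset ι) = {i} by ext; simp; grind, Finset.card_singleton] at v1
  replace u2 := u2.le.trans ((Finset.card_le_card Finset.sdiff_subset).trans Finset.card_le_two)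
  change orderOf (QuotientGroup.mk ((C * ts K i j * C⁻¹ * (C' * ts K i m * C'⁻¹)) ^ n) :
    ProjectiveSpecialLinearGroup ι K) = 2 at ho
  rw [← m4]
  change W2 (tp K) (QuotientGroup.mk ((C * ts K i j * C⁻¹ * (C' * ts K i m * C'⁻¹)) ^ n)) ∨ W2 (tp K) (QuotientGroup.mk
    ((C * ts K i j * C⁻¹ * (C' * ts K i m * C'⁻¹)) ^ n * (C * (ts K i j * ts K k l) * C⁻¹)))
  generalize C * ts K i j * C⁻¹ = U at *
  generalize C' * ts K i m * C'⁻¹ = V at *
  generalize C * (ts K i j * ts K k l) * C⁻¹ = Y at *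
  obtain ⟨sq, r | r⟩ := inv_of_rk h6 h2 (rk_pow_four ur vr n) ho
  · exact .inl ((w2_iff h2).2 ⟨_, rfl, sq, r⟩)
  have v : re (sg K I) V.1 = 1 ∧ re (sg K Iᶜ) V.1 = 1 := by
    rcases hI with rfl | rfl <;> rcases hI' with rfl | rfl <;> simp_all
  have a := re_pow_le (sg K I) U.1 V.1 n
  have b := re_pow_le (sg K Iᶜ) U.1 V.1 n
  have cJ : ((U * V) ^ n).1 * (ts K i j * ts K k l).1 = (ts K i j * ts K k l).1 * ((U * V) ^ n).1 :=
    congrArg Subtype.val ((cU.mul_left cV).pow_left n)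
  rw [← show ((U * V) ^ n).1 = (U.1 * V.1) ^ n from Matrix.SpecialLinearGroup.coe_pow _ _] at a b
  generalize (U * V) ^ n = J at *
  replace cJ : J.1 * sg K I = sg K I * J.1 := by
    rw [hy] at cJ
    rcases hI with rfl | rfl
    · exact cJ
    · rw [← neg_sg, mul_neg, neg_mul, cJ]
  obtain ⟨g, A, e, e'⟩ := conj_sg2 h2 (congrArg Subtype.val sq) cJ
  rw [re_conj e' e, re_sg h2] at a
  rw [re_conj e' (Y' := sg K Iᶜ) (by rw [← neg_sg, neg_mul, mul_neg, e]), re_sg h2, sdiff_compl, Finset.inf_eq_inter] at b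
  rw [rk_conj' e', rk_sg h2] at r
  refine .inr ((w2_iff h2).2 ⟨_, rfl, Subtype.ext ?_, ?_⟩)
  · change J.1 * Y.1 * (J.1 * Y.1) = 1
    rw [eI, mul_assoc, ← mul_assoc (sg K I), ← cJ, mul_assoc, sg_sq, mul_one]
    exact congrArg Subtype.val sq
  · rw [rk_conj' (g := g) (N := sg K (symmDiff A I)) (by
      change J.1 * Y.1 * g.1 = _
      rw [eI, mul_assoc, e, ← mul_assoc, e', mul_assoc, sg_mul]), rk_sg h2, symmDiff_def, Finset.sup_eq_union,
      Finset.card_union_of_disjoint disjoint_sdiff_sdiff]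
    have := Finset.card_sdiff_add_card_inter A I
    have := Finset.card_sdiff_add_card_inter I A
    rw [Finset.inter_comm] at this
    omega

end CL.Lm
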