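import Cfsg.Agent.FUS.Lm.Diag
import Cfsg.Agent.FUS.Lm.Avg
import Cfsg.Agent.FUS.Lm.Rank1

/-! # Involutions of `L_n(q)`, `n ≥ 6`: `g4`, `g5`, `g6` of `Mg` -/

set_option autoImplicit false

namespace CL.Lm

open Subgroup Cfsg Matrix

variable {K : Type*} [Field K] [Finite K] {ι : Type*} [Fintype ι] [DecidableEq ι]

section

omit [Finite K]

theorem sq_of_sg {s : SpecialLinearGroup ι K} {I : Finset ι} (h : s.1 = sg K I) : s * s = 1 :=
  Subtype.ext (by change s.1 * s.1 = 1; rw [h, sg_sq])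

theorem ts_sg (i j : ι) : (ts K i j).1 = sg K (symmDiff {i} {j}) := by rw [← sg_mul, sg_single, sg_single, coe_ts]

theorem comm_of_sg {s t : SpecialLinearGroup ι K} {I J : Finset ι} (h : s.1 = sg K I) (k : t.1 = sg K J) : Commute s t :=
  show s * t = t * s from Subtype.ext (by change s.1 * t.1 = t.1 * s.1; rw [h, k, sg_comm])

theorem exists_sg_of_mem {y : ProjectiveSpecialLinearGroup ι K} (hy : y ∈ AA (tp K)) :
    ∃ (Y : SpecialLinearGroup ι K) (I : Finset ι), QuotientGroup.mk Y = y ∧ Y.1 = sg K I := by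
  induction hy using closure_induction with
  | mem x hx => obtain ⟨i, j, rfl⟩ := hx; exact ⟨_, _, rfl, ts_sg i j⟩
  | one => exact ⟨1, ∅, rfl, by simp [sg]⟩
  | mul x y _ _ a b =>
    obtain ⟨X, I, rfl, a⟩ := a
    obtain ⟨Y, J, rfl, b⟩ := b
    exact ⟨X * Y, symmDiff I J, rfl, by rw [← sg_mul, ← a, ← b]; rfl⟩
  | inv x _ a =>
    obtain ⟨X, I, rfl, a⟩ := a
    exact ⟨X⁻¹, I, rfl, by rw [inv_eq_of_mul_eq_one_right (sq_of_sg a), a]⟩

theorem comm_sign [Nonempty ι] {Y R : SpecialLinearGroup ι K} (y2 : Y * Y = 1)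
    (c : Commute (QuotientGroup.mk R : ProjectiveSpecialLinearGroup ι K) (QuotientGroup.mk Y)) :
    (R * Y * R⁻¹).1 = Y.1 ∨ (R * Y * R⁻¹).1 = -Y.1 :=
  mk_eq_sign (by rw [conj_mul, y2, mul_one, mul_inv_cancel]) y2 (CL.L5.conj_eq_of_comm c)

theorem conj_rk [Nonempty ι] (h2 : (2 : K) ≠ 0) {A B : SpecialLinearGroup ι K} (a : A * A = 1) (b : B * B = 1)
    (h : IsConj (QuotientGroup.mk A : ProjectiveSpecialLinearGroup ι K) (QuotientGroup.mk B)) :
    rk A.1 = rk B.1 ∨ rk A.1 + rk B.1 = Fintype.card ι := by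
  obtain ⟨g, h⟩ := isConj_iff.1 h
  obtain ⟨g, rfl⟩ := QuotientGroup.mk_surjective g
  rw [← rk_cj g A]
  rcases mk_eq_sign (x := g * A * g⁻¹) (by rw [conj_mul, a, mul_one, mul_inv_cancel]) b h with e | e
  · exact .inl (by rw [e])
  · exact .inr (by rw [e]; exact rk_neg h2 (congrArg Subtype.val b))

end

/-- `y` is the image of a sign matrix `Y = sg I` (closure induction; products of sign matrices are sign matrices), `d` of `D` with `D² = 1`,
`rk D = 2`.  `Y D Y⁻¹ = ± D` (`mk_eq_sign`), and `-` gives `n - 2 = 2` (`rk_neg`, `rk_conj`).  `conj_sg2`: `g⁻¹ D g = sg J`, `|J| = 2`, `sg_pair`. -/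
theorem g4 (h6 : 6 ≤ Fintype.card ι) (h2 : (2 : K) ≠ 0) (y : ProjectiveSpecialLinearGroup ι K) (hy : y ∈ AA (tp K))
    (d : ProjectiveSpecialLinearGroup ι K) (hd : W2 (tp K) d) (c : Commute d y) :
    ∃ c, Commute c y ∧ ∃ i j, c * d * c⁻¹ = tp K i j := by
  have : Nontrivial ι := Fintype.one_lt_card_iff_nontrivial.1 (by omega)
  obtain ⟨D, rfl, d2, dr⟩ := (w2_iff h2).1 hd
  obtain ⟨Y, I, rfl, e⟩ := exists_sg_of_mem hy
  rcases comm_sign d2 c.symm with k | k
  · replace k : Y.1 * D.1 = D.1 * Y.1 :=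
      congrArg Subtype.val (CL.L5.comm_of_conj_eq (g := Y) (a := D) (Subtype.ext k))
    obtain ⟨g, J, a, b⟩ := conj_sg2 h2 (congrArg Subtype.val d2) (e ▸ k.symm)
    rw [rk_conj' b, rk_sg h2] at dr
    obtain ⟨i, j, ij, rfl⟩ := Finset.card_eq_two.1 dr
    refine ⟨QuotientGroup.mk g⁻¹, Commute.map (Commute.inv_left (show g * Y = Y * g from Subtype.ext ?_))
      (QuotientGroup.mk' _), i, j, congrArg QuotientGroup.mk (?_ : g⁻¹ * D * g⁻¹⁻¹ = ts K i j)⟩
    · change g.1 * Y.1 = Y.1 * g.1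
      rw [e, a]
    · rw [inv_inv, mul_assoc, inv_mul_eq_iff_eq_mul]
      exact Subtype.ext (b.trans (by rw [sg_pair ij]; rfl))
  · have a := rk_cj Y D
    have b := rk_neg h2 (congrArg Subtype.val d2)
    rw [k] at a
    omega

theorem pg_pair {G : Type*} [Group G] {y r : G} (y2 : y * y = 1) (r2 : r * r = 1) (c : Commute y r) :
    IsPGroup 2 (closure {y, r} : Subgroup G) := by
  have k : ∀ {a b : G}, Commute y a → Commute r a → b ∈ closure {y, r} → Commute b a := fun {a b} h k hb =>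
    CL.L5.mem_Cz.1 ((closure_le (CL.L5.Cz a)).2 (by rintro _ (rfl | rfl) <;> exact CL.L5.mem_Cz.2 ‹_›) hb)
  rintro ⟨x, hx⟩
  refine ⟨1, Subtype.ext (show x ^ 2 ^ 1 = 1 from ?_)⟩
  rw [pow_one, sq]
  induction hx using closure_induction with
  | mem x hx => rcases hx with rfl | rfl <;> assumption
  | one => exact one_mul 1
  | mul a b ha hb u v =>
    rw [(k (k rfl c.symm ha).symm (k c rfl ha).symm hb).mul_mul_mul_comm, u, v, one_mul]
  | inv x _ a => rw [← _root_.mul_inv_rev, a, inv_one]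

omit [Finite K] in
theorem exists_plane [Nontrivial ι] (h2 : (2 : K) ≠ 0) {Y R : Matrix ι ι K} (y2 : Y * Y = 1) {c s : K} (r2 : R * R = c • 1)
    (e : Y * R = s • (R * Y)) : ∃ U : Submodule K (ι → K), Module.finrank K U = 2 ∧
      ∀ M, M = Y ∨ M = R → ∀ u ∈ U, M *ᵥ u ∈ U := by
  suffices ∃ v w : ι → K, LinearIndependent K ![v, w] ∧ ∀ M, M = Y ∨ M = R →
      M *ᵥ v ∈ Submodule.span K {v, w} ∧ M *ᵥ w ∈ Submodule.span K {v, w} by
    obtain ⟨v, w, li, h⟩ := this
    refine ⟨Submodule.span K {v, w}, ?_, fun M hM u hu =>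
      (Submodule.span_le (p := .comap M.mulVecLin (Submodule.span K {v, w}))).2 ?_ hu⟩
    · rw [← Matrix.range_cons_cons_empty v w ![], finrank_span_eq_card li, Fintype.card_fin]
    · rintro _ (rfl | rfl)
      exacts [(h M hM).1, (h M hM).2]
  obtain ⟨g, I, hg⟩ := diag1 h2 y2
  have inj : Function.Injective g.1.mulVec := mulVec_injective_iff_isUnit.2 g.isUnit
  have ev : ∀ j, ∃ t : K, Y *ᵥ (g.1 *ᵥ Pi.single j 1) = t • (g.1 *ᵥ Pi.single j 1) := fun j =>
    ⟨_, by rw [mulVec_mulVec, hg, ← mulVec_mulVec, sg, diagonal_mulVec_single, ← mulVec_smul, ← Pi.single_smul, smul_eq_mul]⟩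
  have nz : ∀ j, g.1 *ᵥ Pi.single j 1 ≠ 0 := fun j k => by
    simpa using congrFun (inj (k.trans (mulVec_zero _).symm)) j
  have m1 : ∀ v w : ι → K, v ∈ Submodule.span K {v, w} := fun v w => Submodule.subset_span (.inl rfl)
  have m2 : ∀ v w : ι → K, w ∈ Submodule.span K {v, w} := fun v w => Submodule.subset_span (.inr rfl)
  by_cases h : ∃ j, ∀ a : K, a • (g.1 *ᵥ Pi.single j 1) ≠ R *ᵥ (g.1 *ᵥ Pi.single j 1)
  · obtain ⟨j, h⟩ := h
    obtain ⟨t, ht⟩ := ev j
    refine ⟨_, _, (LinearIndependent.pair_iff' (nz j)).2 h, ?_⟩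
    generalize g.1 *ᵥ Pi.single j 1 = v at ht ⊢
    rintro _ (rfl | rfl)
    · refine ⟨ht ▸ Submodule.smul_mem _ _ (m1 _ _), ?_⟩
      rw [mulVec_mulVec, e, smul_mulVec, ← mulVec_mulVec, ht, mulVec_smul]
      exact Submodule.smul_mem _ _ (Submodule.smul_mem _ _ (m2 _ _))
    · refine ⟨m2 _ _, ?_⟩
      rw [mulVec_mulVec, r2, smul_mulVec, one_mulVec]
      exact Submodule.smul_mem _ _ (m1 _ _)
  · push Not at h
    obtain ⟨i, j, ij⟩ := exists_pair_ne ι
    refine ⟨_, g.1 *ᵥ Pi.single j 1, (LinearIndependent.pair_iff' (nz i)).2 fun a k => ?_, ?_⟩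
    · rw [← mulVec_smul] at k
      simpa [ij.symm] using congrFun (inj k) j
    · obtain ⟨a, ha⟩ := ev i
      obtain ⟨b, hb⟩ := ev j
      obtain ⟨a', ha'⟩ := h i
      obtain ⟨b', hb'⟩ := h j
      rintro _ (rfl | rfl)
      · exact ⟨ha ▸ Submodule.smul_mem _ _ (m1 _ _), hb ▸ Submodule.smul_mem _ _ (m2 _ _)⟩
      · exact ⟨ha' ▸ Submodule.smul_mem _ _ (m1 _ _), hb' ▸ Submodule.smul_mem _ _ (m2 _ _)⟩

/-- `Y` an involution over `y` (`w4_iff`), `D` the 2-group over `⟨y, r⟩` (`exists_lift`), `R ∈ D` over `r`; every element of `D` is a scalar times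
`1, Y, R` or `R Y`; `R² = c` is scalar, `R Y R⁻¹ = ± Y`.  `R` maps eigenvectors of `Y` to eigenvectors of `Y`.  If some eigenvector `v` of `Y` is not an
eigenvector of `R` take `U = ⟨v, R v⟩`, otherwise the span of two independent eigenvectors of `Y` (two columns of the matrix of `diag`).  `exists_w2`
(apply it to `closure {Y, R} ≤ D`). -/
theorem g5 (h6 : 6 ≤ Fintype.card ι) (h2 : (2 : K) ≠ 0) (y r : ProjectiveSpecialLinearGroup ι K) (hy : W4 (tp K) y)
    (r2 : r * r = 1) (c : Commute r y) : ∃ d, W2 (tp K) d ∧ Commute d r ∧ Commute d y := by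
  have : Nontrivial ι := Fintype.one_lt_card_iff_nontrivial.1 (by omega)
  obtain ⟨Y, rfl, y2, -⟩ := (w4_iff (by omega) h2).1 hy
  obtain ⟨Q, hQ, mp, m⟩ := exists_lift (QuotientGroup.mk'_surjective (center (SpecialLinearGroup ι K)))
    (QuotientGroup.ker_mk' _).le (pg_pair (congrArg QuotientGroup.mk y2) r2 c.symm)
  obtain ⟨R, hR, rfl⟩ := mp.ge (Subgroup.subset_closure (Or.inr rfl) : r ∈ _)
  have hY : Y ∈ Q := m _ (subset_closure (.inl rfl)) 1 (by rw [pow_one, sq, y2])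
  obtain ⟨t, ht⟩ := (mk_eq_iff (x := R * R) (y := 1)).1 r2
  obtain ⟨s, hs⟩ := (mk_eq_iff (x := Y * R) (y := R * Y)).1 c.symm
  obtain ⟨U, u2, hU⟩ := exists_plane h2 (congrArg Subtype.val y2) ht hs
  obtain ⟨d, d2, dr, hd⟩ := exists_w2 h2 (closure {Y, R}) (hQ.to_le ((closure_le _).2 (by
    rintro _ (rfl | rfl) <;> assumption))) U u2 fun d hd => by
      rw [← mem_toSubmonoid, closure_toSubmonoid_of_finite] at hd
      induction hd using Submonoid.closure_induction with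
      | mem x hx => exact hU _ (hx.imp (congrArg Subtype.val) (congrArg Subtype.val))
      | one => exact fun u hu => by rwa [show (1 : SpecialLinearGroup ι K).1 = 1 from rfl, one_mulVec]
      | mul x y _ _ a b =>
        exact fun u hu => by rw [show (x * y).1 = x.1 * y.1 from rfl, ← mulVec_mulVec]; exact a _ (b u hu)
  exact ⟨QuotientGroup.mk d, (w2_iff h2).2 ⟨d, rfl, d2, dr⟩, (hd R (subset_closure (.inr rfl))).map (QuotientGroup.mk' _),
    (hd Y (subset_closure (.inl rfl))).map (QuotientGroup.mk' _)⟩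

omit [Fintype ι] in
theorem card_sd (A I : Finset ι) : (symmDiff A I).card + 2 * (A ∩ I).card = A.card + I.card := by
  have := Finset.card_sdiff_add_card_inter A I
  have := Finset.card_sdiff_add_card_inter I A
  rw [Finset.inter_comm] at this
  rw [symmDiff_def, Finset.sup_eq_union, Finset.card_union_of_disjoint disjoint_sdiff_sdiff]
  omega

theorem exists_pairs (h6 : 6 ≤ Fintype.card ι) {I : Finset ι} (e : Even I.card) (h0 : I.card ≠ 0)
    (hn : I.card ≠ Fintype.card ι) : ∃ a b a' b' : ι, a ≠ b ∧ a' ≠ b' ∧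
      (symmDiff {a, b} I).card ≠ (symmDiff {a', b'} I).card ∧
      (symmDiff {a, b} I).card + (symmDiff {a', b'} I).card ≠ Fintype.card ι := by
  obtain ⟨k, hk⟩ := e
  have c := Finset.card_compl_add_card I
  obtain ⟨a, ha, a', ha', aa⟩ := Finset.one_lt_card.1 (show 1 < I.card by omega)
  obtain ⟨b, hb⟩ := Finset.card_pos.1 (show 0 < Iᶜ.card by omega)
  rw [Finset.mem_compl] at hb
  have ab : a ≠ b := fun h => hb (h ▸ ha)
  have e1 := card_sd {a, a'} I
  have e2 := card_sd {a, b} I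
  rw [Finset.inter_eq_left.2 (by simp [Finset.insert_subset_iff, *]), Finset.card_pair aa] at e1
  rw [show {a, b} ∩ I = {a} by ext; simp; grind, Finset.card_pair ab, Finset.card_singleton] at e2
  by_cases h : 2 * I.card = Fintype.card ι + 2
  · obtain ⟨c, hc, c', hc', cc⟩ := Finset.one_lt_card.1 (show 1 < Iᶜ.card by omega)
    rw [Finset.mem_compl] at hc hc'
    have e3 := card_sd {c, c'} I
    rw [show {c, c'} ∩ I = ∅ by ext; simp; grind, Finset.card_pair cc, Finset.card_empty] at e3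
    exact ⟨a, b, c, c', ab, cc, by omega, by omega⟩
  · exact ⟨a, a', a, b, aa, ab, by omega, by omega⟩

theorem exists_cen (h6 : 6 ≤ Fintype.card ι) (h2 : (2 : K) ≠ 0) : ∃ R : SpecialLinearGroup ι K, R * R = 1 ∧ R ≠ 1 ∧
    R.1 ≠ -1 ∧ IsTwoCentralInvolution (QuotientGroup.mk R : ProjectiveSpecialLinearGroup ι K) := by
  have : Nonempty ι := Fintype.card_pos_iff.1 (by omega)
  have f := fm_ts (K := K) (ι := ι) (by omega) h2
  obtain ⟨S, hS⟩ := f.AA_pg.exists_le_sylow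
  obtain ⟨c, hc, c2, hz⟩ : ∃ c ∈ center (SpecialLinearGroup ι K), c * c = 1 ∧
      ∀ z : SpecialLinearGroup ι K, z.1 = -1 → z = c := by
    by_cases h : ∃ z : SpecialLinearGroup ι K, z.1 = -1
    · obtain ⟨z, h⟩ := h
      refine ⟨z, mem_center_iff.2 fun g => Subtype.ext ?_, Subtype.ext ?_, fun w k => Subtype.ext (k.trans h.symm)⟩
      · change g.1 * z.1 = z.1 * g.1
        simp [h]
      · change z.1 * z.1 = 1
        simp [h]
    · exact ⟨1, one_mem _, one_mul 1, fun z k => (h ⟨z, k⟩).elim⟩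
  have cS : c ∈ S := by
    have : (zpowers c).Normal := ⟨fun x hx g => by
      rwa [mem_center_iff.1 ((zpowers_le.2 hc) hx) g, mul_inv_cancel_right]⟩
    have p : IsPGroup 2 (zpowers c) := (pg_pair c2 c2 rfl).to_le (zpowers_le.2 (subset_closure (.inl rfl)))
    exact p.le_sylow_of_normal S (mem_zpowers c)
  have e8 : 8 ≤ Nat.card ((AA (ts K : ι → ι → _)).subgroupOf S) := by
    rw [Nat.card_congr (subgroupOfEquivOfLe hS).toEquiv]
    obtain ⟨k, hk⟩ := IsPGroup.iff_card.1 f.AA_pg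
    obtain ⟨i⟩ := this
    have := Nat.card_le_card_of_injective (fun j => (⟨_, t_mem i j⟩ : AA (ts K : ι → ι → _))) fun j j' h => by
      by_contra n
      exact f.ne j j' n (by rw [← f.mul j i j', ← show ts K i j = ts K i j' from congrArg Subtype.val h, f.mul, f.self])
    rw [Nat.card_eq_fintype_card, hk] at this
    rw [hk]
    exact Nat.pow_le_pow_right (n := 2) (i := 3) two_pos (by
      by_contra n
      have : 2 ^ k ≤ 2 ^ 2 := Nat.pow_le_pow_right two_pos (by omega)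
      omega)
  obtain ⟨y, y2, y1, yc, hy⟩ := exists_y S.2 (c := ⟨c, cS⟩) (mem_center_iff.2 fun g => Subtype.ext (mem_center_iff.1 hc g))
    (Subtype.ext c2) _ (fun x hx => Subtype.ext (f.AA_sq hx)) e8
  have a : y.1 * y.1 = 1 := congrArg Subtype.val y2
  have b : y.1 ≠ 1 := fun h => y1 (Subtype.ext h)
  have d : y.1.1 ≠ -1 := fun h => yc (Subtype.ext (hz _ h))
  refine ⟨y.1, a, b, d, orderOf_eq_prime (by rw [sq]; exact congrArg QuotientGroup.mk a) fun h => ?_,
    S.mapSurjective (QuotientGroup.mk'_surjective _), ⟨y.1, y.2, rfl⟩, ?_⟩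
  · exact (mk_eq_sign a (one_mul 1) h).elim (fun h => b (Subtype.ext h)) d
  · rintro _ ⟨x, hx, rfl⟩
    refine CL.L5.comm_of_conj_eq ?_
    rcases hy ⟨x, hx⟩ with h | h
    · exact congrArg QuotientGroup.mk (congrArg Subtype.val h)
    · exact (congrArg QuotientGroup.mk (congrArg Subtype.val h)).trans (QuotientGroup.mk_mul_of_mem y.1 hc)

/-- `S` a Sylow 2-subgroup of `SL` containing `AA ts` (order `≥ 8`: a 2-group with the five distinct elements `ts i₀ j`).  `c = -1` if `n` is even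
(it lies in `S`: central 2-element) and `c = 1` if `n` is odd (then `-1 ∉ SL`).  `exists_y` gives an involution `R ≠ ± 1` of `S` with `R^x = ± R`, so
its image `r` is central in the image of `S` (`Sylow.mapSurjective`), of order 2.  `g⁻¹ R g = sg I` (`conj_sg`), `k = |I|` even, `0 < k < n`.  For
`D = g sg {a, b} g⁻¹`, `rk (D R)` is `k - 2` (`a, b ∈ I`), `k` (`a ∈ I`, `b ∉ I`), `k + 2` (`a, b ∉ I`).  Conjugate images force `w = w'` or `w + w' = n`
(`mk_eq_sign`, `rk_conj`, `rk_neg`).  Take `(k - 2, k)` if `2 k - 2 ≠ n`, else `(k, k + 2)` (then `n - k ≥ 2`). -/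
theorem g6 (h6 : 6 ≤ Fintype.card ι) (h2 : (2 : K) ≠ 0) : ∃ r d d' : ProjectiveSpecialLinearGroup ι K,
    IsTwoCentralInvolution r ∧ W2 (tp K) d ∧ W2 (tp K) d' ∧ Commute d r ∧ Commute d' r ∧ Commute d d' ∧
      ¬ IsConj (d * r) (d' * r) := by
  have : Nonempty ι := Fintype.card_pos_iff.1 (by omega)
  obtain ⟨R, r2, r1, rn, hr⟩ := exists_cen h6 h2
  obtain ⟨p, I, hp⟩ := diag1 h2 (congrArg Subtype.val r2)
  obtain ⟨g, hg⟩ := to_sl p
  replace hg : R.1 * g.1 = g.1 * sg K I := hg _ _ hp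
  have k : rk R.1 = I.card := by rw [rk_conj' hg, rk_sg h2]
  have n := rk_neg h2 (congrArg Subtype.val r2)
  obtain ⟨a, b, a', b', ab, ab', h, h'⟩ := exists_pairs h6 (k ▸ rk_even h2 r2)
    (fun e => r1 (Subtype.ext (rk_eq_zero h2 (congrArg Subtype.val r2) (k.trans e)))) fun e =>
      rn (neg_eq_iff_eq_neg.1 (rk_eq_zero h2 (by rw [neg_mul_neg]; exact congrArg Subtype.val r2) (by omega)))
  obtain ⟨s, rfl⟩ : ∃ s, R = g * s * g⁻¹ := ⟨g⁻¹ * R * g, by group⟩
  have hs : s.1 = sg K I := (SpecialLinearGroup.toGL g).isUnit.mul_left_cancel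
    ((congrArg Subtype.val (inv_mul_cancel_right (g * s) g)).symm.trans hg)
  have w : ∀ {a b}, a ≠ b → W2 (tp K) (QuotientGroup.mk (g * ts K a b * g⁻¹)) := fun {a b} e =>
    ⟨a, b, e, isConj_iff.2 ⟨QuotientGroup.mk g, rfl⟩⟩
  have m : ∀ {a b}, a ≠ b → (ts K a b * s).1 = sg K (symmDiff {a, b} I) := fun {a b} e => by
    rw [← sg_mul, sg_pair e, ← hs]; rfl
  have q : ∀ {a b}, a ≠ b → g * ts K a b * g⁻¹ * (g * s * g⁻¹) * (g * ts K a b * g⁻¹ * (g * s * g⁻¹)) = 1 := fun e => by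
    rw [conj_mul, conj_mul, sq_of_sg (m e), mul_one, mul_inv_cancel]
  refine ⟨_, _, _, hr, w ab, w ab', (CL.L5.comm_conj (comm_of_sg (ts_sg a b) hs) g).map (QuotientGroup.mk' _),
    (CL.L5.comm_conj (comm_of_sg (ts_sg a' b') hs) g).map (QuotientGroup.mk' _),
    (CL.L5.comm_conj (comm_of_sg (ts_sg a b) (ts_sg a' b')) g).map (QuotientGroup.mk' _), fun e => ?_⟩
  have := conj_rk h2 (q ab) (q ab') e
  rw [conj_mul, conj_mul, rk_cj, rk_cj, m ab, m ab', rk_sg h2, rk_sg h2] at this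
  exact this.elim h h'

end CL.Lm
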