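import Cfsg.Agent.FUS.Lm.Mat
import Cfsg.Agent.FUS.Lm.Rank2
import Cfsg.Agent.CLAS.SLBasic
import Cfsg.Agent.SOLV.CoprimeGen

/-! # `SL_m^±(q)`: the fundamental subgroups

`μ x` commutes with `r_i r_j` iff it is block diagonal for `{i, j}`, rest (`rf_mul`, `comm_diagonal`); it commutes with all `r_i r_j` iff it is diagonal.
Elements of `C(τ i j)`, and elements commuting with `r_i r_j` or `r_k` in general, normalise the `blk` on a union of blocks
(`Bk I M ↔ M (1 + sg I) = 1 + sg I = (1 + sg I) M`). -/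

set_option autoImplicit false

namespace CL.Lm

open Subgroup Cfsg Matrix
open CL.L5 (Cz mem_Cz)
open scoped commutatorElement

section SL2

variable {F : Type*} [Field F] [Finite F]

/-- `x² = 1`, Cayley–Hamilton. -/
theorem sl2_inv (h2 : (2 : F) ≠ 0) (x : SpecialLinearGroup (Fin 2) F) (h : x * x = 1) : x = 1 ∨ x = -1 := by
  have d := x.2
  replace h : x.1 * x.1 = 1 := congrArg Subtype.val h
  rw [det_fin_two] at d
  simp only [← Matrix.ext_iff, Fin.forall_fin_two, mul_apply, Fin.sum_univ_two, one_apply_eq,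
    one_apply_ne zero_ne_one, one_apply_ne one_ne_zero] at h
  obtain ⟨⟨a, b⟩, c, e⟩ := h
  have t : x.1 0 0 + x.1 1 1 ≠ 0 := fun t => h2 (by linear_combination -d - a + x.1 0 0 * t)
  have b0 : x.1 0 1 = 0 := (mul_eq_zero.1 (show x.1 0 1 * (x.1 0 0 + x.1 1 1) = 0 by linear_combination b)).resolve_right t
  have c0 : x.1 1 0 = 0 := (mul_eq_zero.1 (show x.1 1 0 * (x.1 0 0 + x.1 1 1) = 0 by linear_combination c)).resolve_right t
  rw [b0, zero_mul] at a d
  rcases mul_self_eq_one_iff.1 (show x.1 0 0 * x.1 0 0 = 1 by linear_combination a) with k | k <;> rw [k] at d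
  · refine .inl (Subtype.ext ?_)
    rw [eta_fin_two x.1, b0, c0, k, show x.1 1 1 = 1 by linear_combination d]
    exact one_fin_two.symm
  · refine .inr (Subtype.ext ?_)
    rw [eta_fin_two x.1, b0, c0, k, show x.1 1 1 = -1 by linear_combination -d]
    ext i j
    fin_cases i <;> fin_cases j <;> simp

theorem sl2_q8 (h2 : (2 : F) ≠ 0) : ∃ u ∈ commutator (SpecialLinearGroup (Fin 2) F),
    ∃ v ∈ commutator (SpecialLinearGroup (Fin 2) F), u * u = -1 ∧ v * v = -1 ∧ u * v = -(v * u) := by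
  let u : SpecialLinearGroup (Fin 2) F := ⟨!![0, 1; -1, 0], by simp⟩
  have k : ∀ (a b : F) (h : a ^ 2 + b ^ 2 = -1) (v : SpecialLinearGroup (Fin 2) F), v.1 = !![a, b; b, -a] →
      u * u = -1 ∧ v * v = -1 ∧ u * v = -(v * u) := fun a b h v e => by
    refine ⟨Subtype.ext (show u.1 * u.1 = -1 from ?_), Subtype.ext (show v.1 * v.1 = -1 from ?_),
      Subtype.ext (show u.1 * v.1 = -(v.1 * u.1) from ?_)⟩ <;> ext i j <;> fin_cases i <;> fin_cases j <;>
      simp [u, e] <;> first | ring1 | linear_combination h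
  by_cases h : (2 : F) ^ 2 = 1
  · have h3 : (3 : F) = 0 := by linear_combination h
    let x : SpecialLinearGroup (Fin 2) F := ⟨!![1, 1; 0, 1], by simp⟩
    have x3 : x * x * x = 1 := Subtype.ext (show x.1 * x.1 * x.1 = 1 by
      ext i j; fin_cases i <;> fin_cases j <;> simp [x]; linear_combination h3)
    have e : x * u * x * u⁻¹ * x = u := by
      rw [mul_assoc _ u⁻¹, show u⁻¹ * x = ⟨!![0, -1; 1, 1], by simp⟩ from inv_mul_eq_of_eq_mul (Subtype.ext
        (show x.1 = u.1 * _ by ext i j; fin_cases i <;> fin_cases j <;> simp [x, u]))]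
      exact Subtype.ext (show x.1 * u.1 * x.1 * _ = u.1 by ext i j; fin_cases i <;> fin_cases j <;> simp [x, u])
    have m : u ∈ commutator _ := by
      rw [← Abelianization.ker_of, MonoidHom.mem_ker, ← e, map_mul, map_mul, map_mul, map_mul, map_inv,
        mul_right_comm (Abelianization.of x), mul_inv_cancel_right, ← map_mul, ← map_mul, x3, map_one]
    refine ⟨u, m, x * u * x⁻¹, Normal.conj_mem inferInstance u m x, k (-1) (-1) (by linear_combination h3) _ ?_⟩
    rw [show x * u * x⁻¹ = ⟨!![-1, -1; -1, 1], by simp; linear_combination -h3⟩ from mul_inv_eq_of_eq_mul (Subtype.ext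
      (show x.1 * u.1 = _ * x.1 by ext i j; fin_cases i <;> fin_cases j <;> simp [x, u]; linear_combination h3))]
    simp only [neg_neg]
  · obtain ⟨p, hp⟩ := CharP.exists F
    have : NeZero p := ⟨CharP.char_ne_zero_of_finite F p⟩
    obtain ⟨a, b, e⟩ := CharP.sq_add_sq F p (-1)
    rw [Int.cast_neg, Int.cast_one] at e
    rw [CL.SL.commutator_eq_top_of_sq_ne_one h2 h]
    exact ⟨u, trivial, ⟨!![a, b; b, -a], by simp; linear_combination -e⟩, trivial, k a b e _ rfl⟩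

/-- For `q > 3` a noncentral normal subgroup is everything (`PSL₂(q)` simple, `SL₂(q)` perfect), for `q = 3` it contains `Q₈`; take
`u = [[0, 1], [-1, 0]]`, `v = [[a, b], [b, -a]]`, `a² + b² = -1`. -/
theorem sl2_normal (h2 : (2 : F) ≠ 0) (N : Subgroup (SpecialLinearGroup (Fin 2) F)) [N.Normal] :
    N ≤ zpowers (-1) ∨ ∃ u ∈ N, ∃ v ∈ N, IsPGroup 2 (closure {u, v} : Subgroup _) ∧ ⁅u, v⁆ = -1 := by
  have z : ∀ x ∈ center (SpecialLinearGroup (Fin 2) F), x = 1 ∨ x = -1 := fun x hx => by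
    obtain ⟨r, h, e⟩ := Matrix.SpecialLinearGroup.mem_center_iff.1 hx
    refine sl2_inv h2 x (Subtype.ext (show x.1 * x.1 = 1 from ?_))
    rw [← e, ← map_mul, ← sq, show r ^ 2 = 1 from h, map_one]
  by_cases h : N ≤ center _
  · exact .inl fun x hx => (z x (h hx)).elim (fun e => by rw [e]; exact one_mem _) fun e => by rw [e]; exact mem_zpowers _
  have s := QuotientGroup.mk'_surjective (center (SpecialLinearGroup (Fin 2) F))
  have := Normal.map ‹N.Normal› _ s
  have c := (CL.SL.pslIwasawa (ι := Fin 2) (F := F)).commutator_le (N.map (QuotientGroup.mk' _)) fun e => h fun x hx =>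
    (QuotientGroup.eq_one_iff x).1 (FaithfulSMul.eq_of_smul_eq_smul (α := Projectivization F (Fin 2 → F)) fun a => by
      rw [one_smul]; exact e.ge (Set.mem_univ a) ⟨_, x, hx, rfl⟩)
  have m : ∀ u ∈ commutator (SpecialLinearGroup (Fin 2) F), u * u = -1 → u ∈ N := fun u hu u2 => by
    have := map_commutator_eq (SpecialLinearGroup (Fin 2) F) (QuotientGroup.mk' (center _))
    rw [MonoidHom.range_eq_top.2 s] at this
    obtain ⟨n, hn, e⟩ := c (this.le ⟨u, hu, rfl⟩)
    rcases z _ (QuotientGroup.eq.1 e) with e | e <;> rw [inv_mul_eq_iff_eq_mul] at e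
    · rwa [e, mul_one]
    · rw [e, mul_neg, mul_one, neg_mul_neg] at u2
      exact e ▸ mul_mem hn (u2 ▸ mul_mem hn hn)
  obtain ⟨u, hu, v, hv, u2, v2, e⟩ := sl2_q8 h2
  have n : (QuotientGroup.mk (-1) : ProjectiveSpecialLinearGroup (Fin 2) F) = 1 :=
    (QuotientGroup.eq_one_iff _).2 (mem_center_iff.2 fun g => by simp)
  have k : ⁅u, v⁆ = -1 := by rw [commutatorElement_def, e, neg_mul, neg_mul]; congr 1; group
  refine .inr ⟨u, m u hu u2, v, m v hv v2, lift2 (a := 2) (b := 2) ?_ ?_ (pg_pair ?_ ?_ ?_), k⟩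
  · rw [show 2 ^ 2 = 2 * 2 from rfl, pow_mul, sq u, u2, neg_one_sq]
  · rw [show 2 ^ 2 = 2 * 2 from rfl, pow_mul, sq v, v2, neg_one_sq]
  · exact (congrArg QuotientGroup.mk u2).trans n
  · exact (congrArg QuotientGroup.mk v2).trans n
  · exact commutatorElement_eq_one_iff_commute.1 ((congrArg QuotientGroup.mk k).trans n)

/-- transvections. -/
theorem sl2_gen (p : ℕ) [CharP F p] (M : Subgroup (SpecialLinearGroup (Fin 2) F)) (h : ∀ x, x ^ p = 1 → x ∈ M) : M = ⊤ := by
  refine CL.SL.eq_top_of_transvection_mem M fun i j ij c => h _ ?_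
  have : ∀ n : ℕ, Matrix.SpecialLinearGroup.transvection ij c ^ n = Matrix.SpecialLinearGroup.transvection ij (n * c) :=
    fun n => by
      induction n with
      | zero => simp
      | succ n ih => rw [pow_succ, ih, ← Matrix.SpecialLinearGroup.transvection_add]; congr 1; push_cast; ring
  rw [this, CharP.cast_eq_zero, zero_mul, Matrix.SpecialLinearGroup.transvection_coeff_zero]

end SL2

variable {K : Type*} [Field K] {ι : Type*} [Fintype ι] [DecidableEq ι] {Γ : Type*} [Group Γ] [Finite Γ]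
  {μ : Γ →* Matrix ι ι K} {τ : ι → ι → Γ} {F : Type*} [Field F] [Finite F] {e p : ℕ}

section

omit [Finite Γ]

theorem Bk.comm {I J : Set ι} {M N : Matrix ι ι K} (h : Bk I M) (k : Bk J N) (d : ∀ r ∈ I, r ∉ J) : M * N = N * M := by
  have e : ∀ {I J : Set ι} {M N : Matrix ι ι K}, Bk I M → Bk J N → (∀ r ∈ I, r ∉ J) → (M - 1) * (N - 1) = 0 :=
    fun {I J M N} h k d => Matrix.ext fun r c => by
      rw [mul_apply]
      refine Finset.sum_eq_zero fun x _ => ?_
      by_cases hx : x ∈ I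
      · rw [sub_apply N, (k x (d x hx) c).1, sub_self, mul_zero]
      · rw [sub_apply M, (h x hx r).2, sub_self, zero_mul]
  have a := e h k d
  have b := e k h fun r hr hr' => d r hr' hr
  rw [← sub_eq_zero, show M * N - N * M = (M - 1) * (N - 1) - (N - 1) * (M - 1) by noncomm_ring, a, b, sub_zero]

theorem Bk.mono {I J : Set ι} {M : Matrix ι ι K} (h : Bk I M) (d : I ⊆ J) : Bk J M := fun r hr => h r fun e => hr (d e)

theorem Bk.comm_diag {I : Set ι} {M : Matrix ι ι K} (h : Bk I M) {d : ι → K} (k : ∀ r ∈ I, ∀ c ∈ I, d r = d c) :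
    M * diagonal d = diagonal d * M := comm_diagonal.2 fun r c e => by
  have n : r ≠ c := fun k => e (k ▸ rfl)
  by_cases hr : r ∈ I
  · rw [(h c (fun hc => e (k r hr c hc)) r).2, one_apply_ne n]
  · rw [(h r hr c).1, one_apply_ne n]

theorem bk_diag {I : Set ι} {d : ι → K} (h : ∀ r ∉ I, d r = 1) : Bk I (diagonal d) := fun r hr c => by
  simp only [diagonal_apply, one_apply]
  constructor <;> split_ifs with e <;> simp_all

theorem bk_iff (k2 : (2 : K) ≠ 0) {J : Finset ι} {M : Matrix ι ι K} :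
    Bk J M ↔ M * (1 + sg K J) = 1 + sg K J ∧ (1 + sg K J) * M = 1 + sg K J := by
  have n : (1 + 1 : K) ≠ 0 := fun h => k2 (by linear_combination h)
  rw [sg, ← diagonal_one, diagonal_add]
  simp only [← Matrix.ext_iff, mul_diagonal, diagonal_mul, diagonal_apply]
  refine ⟨fun h => ⟨fun r c => ?_, fun c r => ?_⟩, fun h r hr c => ?_⟩
  iterate 2
    by_cases e : c ∈ J
    · by_cases k : r = c <;> simp [e, k]
    · simp only [(h c e r).1, (h c e r).2, one_apply]
      split_ifs <;> simp_all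
  have a := h.1 c r
  have b := h.2 r c
  simp only [one_apply]
  constructor <;> split_ifs with e <;> simp_all

theorem conj_blk (k2 : (2 : K) ≠ 0) {I : Set ι} {J : Finset ι} (e : I = J) {x y : Γ} (c : μ x * sg K J = sg K J * μ x)
    (hy : y ∈ blk μ I) : x * y * x⁻¹ ∈ blk μ I := by
  subst e
  obtain ⟨a, b⟩ := (bk_iff k2).1 hy
  replace c : μ x * (1 + sg K J) = (1 + sg K J) * μ x := by rw [mul_add, add_mul, c, mul_one, one_mul]
  have o : μ x * μ x⁻¹ = 1 := by rw [← map_mul, mul_inv_cancel, map_one]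
  have c' : μ x⁻¹ * (1 + sg K J) = (1 + sg K J) * μ x⁻¹ := by
    generalize 1 + sg K J = E at c
    rw [← mul_one (μ x⁻¹ * _), ← o, ← mul_assoc, mul_assoc _ _ (μ x), ← c, ← mul_assoc, mul_eq_one_comm.1 o, one_mul]
  refine (bk_iff k2).2 ⟨?_, ?_⟩ <;> rw [map_mul, map_mul]
  · rw [mul_assoc, c', ← mul_assoc, mul_assoc _ (μ y), a, c, mul_assoc, o, mul_one]
  · rw [← mul_assoc, ← mul_assoc, ← c, mul_assoc _ _ (μ y), b, mul_assoc, ← c', ← mul_assoc, o, one_mul]

theorem Bk.mul_two {i j : ι} (h : i ≠ j) {N : Matrix ι ι K} (k : Bk {i, j} N) (M : Matrix ι ι K) (r : ι) {c : ι}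
    (hc : c ∈ ({i, j} : Set ι)) :
    (M * N) r c = M r i * N i c + M r j * N j c ∧ (N * M) c r = N c i * M i r + N c j * M j r := by
  have n : ∀ x, x ≠ i ∧ x ≠ j → N x c = 0 ∧ N c x = 0 := fun x hx => by
    have : x ≠ c := by rintro rfl; exact hc.elim hx.1 hx.2
    have := k x (fun e => e.elim hx.1 hx.2) c
    rwa [one_apply_ne ‹_›, one_apply_ne (Ne.symm ‹_›)] at this
  rw [mul_apply, mul_apply]
  exact ⟨Fintype.sum_eq_add i j h fun x hx => by rw [(n x hx).1, mul_zero],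
    Fintype.sum_eq_add i j h fun x hx => by rw [(n x hx).2, zero_mul]⟩

omit [Finite F]

theorem Cl.comm (C : Cl μ τ F e) {x y : Γ} : Commute x y ↔ μ x * μ y = μ y * μ x := by
  rw [← map_mul, ← map_mul, C.inj.eq_iff]; rfl

theorem Cl.tau_sg (C : Cl μ τ F e) {i j : ι} (h : i ≠ j) : μ (τ i j) = sg K {i, j} := by rw [C.tau, sg_pair h]

theorem Cl.tau_mem (C : Cl μ τ F e) (i j : ι) : τ i j ∈ blk μ {i, j} := by
  rw [mem_blk, C.tau, rf_mul]
  exact bk_diag fun r hr => by simp_all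

theorem Cl.comm_tau (C : Cl μ τ F e) {i j : ι} (h : i ≠ j) {x : Γ} (hx : x ∈ blk μ {i, j}) : Commute x (τ i j) := by
  rw [C.comm, C.tau_sg h]
  exact Bk.comm_diag hx fun r hr c hc => by rw [if_pos (by simpa using hr), if_pos (by simpa using hc)]

theorem Cl.ind (C : Cl μ τ F e) {i j : ι} {w : Γ} (hw : w ∈ blk μ {i, j}) (a : μ w i i = 0) (b : μ w j j = 0) :
    Ind τ w (Equiv.swap i j) := fun k l => mul_inv_eq_of_eq_mul (C.inj (by
  rw [map_mul, map_mul, C.tau, C.tau, rf_mul, rf_mul]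
  ext r c
  rw [mul_diagonal, diagonal_mul, mul_comm]
  by_cases z : μ w r c = 0
  · rw [z, mul_zero, mul_zero]
  obtain rfl : r = Equiv.swap i j c := by
    by_cases hc : c ∈ ({i, j} : Set ι)
    · have hr : r ∈ ({i, j} : Set ι) := by_contra fun hr => z (by rw [(hw r hr c).1, one_apply_ne fun e : r = c => hr (e ▸ hc)])
      rcases hr with rfl | rfl <;> rcases hc with rfl | rfl <;> simp_all
    · rw [Equiv.swap_apply_of_ne_of_ne (fun e => hc (.inl e)) fun e => hc (.inr e)]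
      exact by_contra fun n => z (by rw [(hw c hc r).2, one_apply_ne n])
  simp))

theorem Cl.fm (C : Cl μ τ F e) (k2 : (2 : K) ≠ 0) (h3 : 3 ≤ Fintype.card ι) : Fm τ := by
  have f := fm_ts h3 k2
  refine ⟨fun i j k => C.inj ?_, fun i j => C.inj (by rw [C.tau, C.tau, rf_comm]), fun σ => ?_,
    fun i j h e => f.ne i j h (Subtype.ext ((C.tau i j).symm.trans (by rw [e, map_one]; rfl))),
    fun i j k l h e => f.ne4 i j k l h (Subtype.ext ((C.tau i j).symm.trans (by rw [e, C.tau]; rfl)))⟩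
  · rw [map_mul, C.tau, C.tau, C.tau]
    exact congrArg Subtype.val (f.mul i j k)
  · obtain ⟨a⟩ : Nonempty ι := Fintype.card_pos_iff.1 (by omega)
    obtain ⟨g, -, h⟩ := (eq_top_of_star (P := indS τ ⊤) a fun k hk => by
      obtain ⟨w, hw, a, b⟩ := C.sw a k hk.symm
      exact ⟨w, trivial, C.ind hw a b⟩).ge (mem_top σ)
    exact ⟨g, h⟩

theorem Cl.diag_iff (C : Cl μ τ F e) (k2 : (2 : K) ≠ 0) (h3 : 3 ≤ Fintype.card ι) {x : Γ} :
    (∃ d, μ x = diagonal d) ↔ ∀ i j, Commute x (τ i j) := by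
  refine ⟨fun ⟨d, h⟩ i j => by
    rw [C.comm, h, C.tau, rf_mul, diagonal_mul_diagonal, diagonal_mul_diagonal]; simp only [mul_comm],
    fun h => ⟨_, (IsDiag.diagonal_diag fun r c rc => ?_).symm⟩⟩
  obtain ⟨t, ht⟩ := exists_new [r, c] (by rw [Nat.card_eq_fintype_card]; simp; omega)
  simp only [List.mem_cons, List.not_mem_nil, or_false, not_or] at ht
  have := C.comm.1 (h r t)
  rw [C.tau, rf_mul] at this
  exact comm_diagonal.1 this r c (by
    simpa [Ne.symm ht.1, Ne.symm ht.2, rc.symm] using fun h => k2 (by linear_combination -h))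

end

theorem Cl.exists_iso (C : Cl μ τ F e) (h2 : (2 : F) ≠ 0) (k2 : (2 : K) ≠ 0) {i j : ι} (h : i ≠ j) :
    ∃ φ : SpecialLinearGroup (Fin 2) F →* Γ, Function.Injective φ ∧ φ.range = blk μ {i, j} ∧ φ (-1) = τ i j := by
  obtain ⟨f⟩ := C.iso i j h
  obtain ⟨t, ht⟩ := f.surjective ⟨_, C.tau_mem i j⟩
  refine ⟨(blk μ {i, j}).subtype.comp f.toMonoidHom, Subtype.val_injective.comp f.injective, by
    rw [MonoidHom.range_comp, MonoidHom.range_eq_top.2 f.surjective, ← MonoidHom.range_eq_map, range_subtype], ?_⟩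
  rcases sl2_inv h2 t (f.injective (by
    rw [map_mul, ht, map_one]
    exact Subtype.ext (C.inj (by rw [coe_mul, map_mul, C.tau_sg h, sg_sq, coe_one, map_one])))) with rfl | rfl
  · have := congrArg (fun x : blk μ {i, j} => μ x i i) ht
    simp only [map_one, coe_one, one_apply_eq, C.tau_sg h, sg, diagonal_apply_eq, Finset.mem_insert_self, if_true] at this
    exact (k2 (by linear_combination this)).elim
  · exact congrArg Subtype.val ht

theorem Cl.inv (C : Cl μ τ F e) (h2 : (2 : F) ≠ 0) (k2 : (2 : K) ≠ 0) {i j : ι} (h : i ≠ j) {s : Γ} (hs : s ∈ blk μ {i, j})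
    (s2 : s * s = 1) : s = 1 ∨ s = τ i j := by
  obtain ⟨φ, a, b, c⟩ := C.exists_iso h2 k2 h
  obtain ⟨x, rfl⟩ := b.ge hs
  exact (sl2_inv h2 x (a (by rw [map_mul, s2, map_one]))).imp (fun e => by rw [e, map_one]) fun e => by rw [e, c]

theorem Cl.nK (C : Cl μ τ F e) (h2 : (2 : F) ≠ 0) (k2 : (2 : K) ≠ 0) {i j : ι} (h : i ≠ j) {N : Subgroup Γ}
    (le : N ≤ blk μ {i, j}) (n : blk μ {i, j} ≤ normalizer (N : Set Γ)) :
    N ≤ zpowers (τ i j) ∨ ∃ u ∈ N, ∃ v ∈ N, IsPGroup 2 (closure {u, v} : Subgroup Γ) ∧ ⁅u, v⁆ = τ i j := by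
  obtain ⟨φ, a, b, c⟩ := C.exists_iso h2 k2 h
  have : (N.comap φ).Normal := ⟨fun x hx g => by
    rw [mem_comap, map_mul, map_mul, map_inv]
    exact (mem_normalizer_iff.1 (n (b.le ⟨g, rfl⟩)) _).1 hx⟩
  refine (sl2_normal h2 (N.comap φ)).imp (fun k x hx => ?_) fun ⟨u, hu, v, hv, p, k⟩ => ⟨φ u, hu, φ v, hv, ?_, ?_⟩
  · obtain ⟨x, rfl⟩ := b.ge (le hx)
    rw [← c, ← MonoidHom.map_zpowers]
    exact ⟨x, k hx, rfl⟩
  · rw [← Set.image_pair, ← MonoidHom.map_closure]
    exact p.map φ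
  · rw [← map_commutatorElement, k, c]

theorem Cl.oK (C : Cl μ τ F e) (h2 : (2 : F) ≠ 0) (k2 : (2 : K) ≠ 0) {i j : ι} (h : i ≠ j) {N : Subgroup Γ}
    (le : N ≤ blk μ {i, j}) (n : blk μ {i, j} ≤ normalizer (N : Set Γ)) (o : Odd (Nat.card N)) : N = ⊥ := by
  have t2 : τ i j * τ i j = 1 := C.inj (by rw [map_mul, C.tau_sg h, sg_sq, map_one])
  have k : ∀ x ∈ N, x * x = 1 → x = 1 := fun x hx e =>
    CL.L5.eq_one_of_odd_of_two (o.of_dvd_nat (orderOf_dvd_natCard N hx)) (k := 1) (by rw [pow_one, sq, e])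
  rcases C.nK h2 k2 h le n with l | ⟨u, hu, v, hv, -, l⟩
  · exact eq_bot_iff.2 fun x hx => k x hx ((CL.SR1.zp2 t2 (l hx)).elim (fun e => by rw [e, one_mul]) fun e => by rw [e, t2])
  · have := congrArg (μ · i i) (k _ (l ▸ mul_mem (mul_mem (mul_mem hu hv) (inv_mem hu)) (inv_mem hv)) t2)
    simp only [map_one, one_apply_eq, C.tau_sg h, sg, diagonal_apply_eq, Finset.mem_insert_self, if_true] at this
    exact (k2 (by linear_combination -this)).elim

/-- the `2 × 2` block of `x` commutes with two noncommuting invertible matrices, hence is scalar (the commutant of a nonscalar `2 × 2` matrix `A` is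
`⟨1, A⟩`); `x` commutes with `τ i j ∈ blk` (the only involution), so the other entries in rows and columns `i, j` vanish. -/
theorem Cl.cen_blk (C : Cl μ τ F e) (h2 : (2 : F) ≠ 0) (k2 : (2 : K) ≠ 0) {i j : ι} (h : i ≠ j) {x : Γ}
    (c : ∀ y ∈ blk μ {i, j}, Commute x y) : ∀ r ∈ ({i, j} : Set ι), ∀ s, s ≠ r → μ x r s = 0 ∧ μ x s r = 0 := by
  have z : ∀ r ∈ ({i, j} : Set ι), ∀ s ∉ ({i, j} : Set ι), μ x r s = 0 ∧ μ x s r = 0 := fun r hr s hs => by
    have := C.comm.1 (c _ (C.tau_mem i j))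
    have n : (-1 : K) ≠ 1 := fun h => k2 (by linear_combination -h)
    rw [C.tau_sg h] at this
    constructor <;> refine comm_diagonal.1 this _ _ ?_
    · rwa [if_pos (by simpa using hr), if_neg (by simpa using hs)]
    · rw [if_neg (by simpa using hs), if_pos (by simpa using hr)]
      exact n.symm
  suffices μ x i j = 0 ∧ μ x j i = 0 from fun r hr s rs => by
    by_cases hs : s ∈ ({i, j} : Set ι)
    · rcases hr with rfl | rfl <;> rcases hs with rfl | rfl <;> simp_all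
    · exact z r hr s hs
  obtain ⟨φ, a, b, -⟩ := C.exists_iso h2 k2 h
  obtain ⟨u, -, v, -, -, -, uv⟩ := sl2_q8 h2
  have hu : φ u ∈ blk μ {i, j} := b.le ⟨u, rfl⟩
  have hv : φ v ∈ blk μ {i, j} := b.le ⟨v, rfl⟩
  have hi : i ∈ ({i, j} : Set ι) := .inl rfl
  have hj : j ∈ ({i, j} : Set ι) := .inr rfl
  have q : ∀ y ∈ blk μ {i, j}, ∀ r ∈ ({i, j} : Set ι), ∀ s ∈ ({i, j} : Set ι),
      μ x r i * μ y i s + μ x r j * μ y j s = μ y r i * μ x i s + μ y r j * μ x j s := fun y hy r hr s hs => by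
    rw [← (Bk.mul_two h hy _ r hs).1, ← (Bk.mul_two h hy _ s hr).2, C.comm.1 (c y hy)]
  by_contra n
  have : Commute u v := Commute.of_map a (C.comm.2 (Matrix.ext fun r s => by
    by_cases hr : r ∈ ({i, j} : Set ι)
    · by_cases hs : s ∈ ({i, j} : Set ι)
      · rw [(Bk.mul_two h hv _ r hs).1, (Bk.mul_two h hu _ r hs).1]
        have := q _ hu i hi i hi
        have := q _ hu i hi j hj
        have := q _ hu j hj i hi
        have := q _ hv i hi i hi
        have := q _ hv i hi j hj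
        have := q _ hv j hj i hi
        rcases hr with rfl | rfl <;> rcases hs with rfl | rfl <;> grind
      · rw [Bk.mul_col hv _ hs, Bk.mul_col hu _ hs, (hu s hs r).2, (hv s hs r).2]
    · rw [Bk.mul_row hv _ hr, Bk.mul_row hu _ hr, (hu r hr s).1, (hv r hr s).1]))
  rw [this.eq, ← neg_one_mul, right_eq_mul] at uv
  exact h2 (by simpa [neg_eq_iff_add_eq_zero, one_add_one_eq_two] using congrArg (·.1 0 0) uv)

theorem Cl.cen_of (C : Cl μ τ F e) (h2 : (2 : F) ≠ 0) (k2 : (2 : K) ≠ 0) {i j : ι} (h : i ≠ j) {N : Subgroup Γ}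
    (n : blk μ {i, j} ≤ normalizer (N : Set Γ)) (o : Odd (Nat.card (N ⊓ blk μ {i, j} : Subgroup Γ))) {x : Γ} (hx : x ∈ N)
    (c : Commute x (τ i j)) : ∀ r ∈ ({i, j} : Set ι), ∀ s, s ≠ r → μ x r s = 0 ∧ μ x s r = 0 :=
  C.cen_blk h2 k2 h fun y hy => commutatorElement_eq_one_iff_commute.1 ((C.oK h2 k2 h inf_le_right
    (fun g hg => mem_normalizer_fintype fun z hz => mem_inf.2 ⟨(mem_normalizer_iff.1 (n hg) z).1 hz.1,
      mul_mem (mul_mem hg hz.2) (inv_mem hg)⟩) o).le (mem_inf.2 ⟨by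
        simpa only [commutatorElement_def, mul_assoc] using mul_mem hx ((mem_normalizer_iff.1 (n hy) _).1 (inv_mem hx)),
      mul_mem (conj_blk k2 Finset.coe_pair.symm (C.tau_sg h ▸ C.comm.1 c) hy) (inv_mem hy)⟩))

/-- `S = sg I` any sign matrix.  WLOG `N = O(C)`, `C = {c | μ c commutes with S}`, which is invariant under conjugation by all `r_k` (`C.cj`).
In `GL ι K` apply `CL.coprime_le_of_forall_hyperplane` with `A` the group of all sign matrices, `H` the diagonal matrices.  For `B` of index 2 in `A` at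
most one pair `{r, s}` is not separated by `B` (`{a | a_r = a_s}` has index 2; two different pairs cut out index 4 as `|ι| ≥ 3`).  So `x ∈ C_N(B)` is diagonal
outside the positions `(r, s), (s, r)`.  If `S_r ≠ S_s` these entries vanish.  Otherwise `blk {r, s} ≤ C` normalises `N`, `x` normalises `blk {r, s}`,
`⁅x, blk⁆ ≤ N ⊓ blk`, an odd order normal subgroup of `SL₂(q)`, `= ⊥` (`sl2_normal`); `cen_blk`. -/
theorem Cl.odd_diag (C : Cl μ τ F e) (h2 : (2 : F) ≠ 0) (k2 : (2 : K) ≠ 0) (h3 : 3 ≤ Fintype.card ι) (I : Finset ι)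
    (N : Subgroup Γ) (le : ∀ x ∈ N, μ x * sg K I = sg K I * μ x)
    (n : ∀ c, μ c * sg K I = sg K I * μ c → c ∈ normalizer (N : Set Γ)) (o : Odd (Nat.card N)) :
    ∀ x ∈ N, ∃ d, μ x = diagonal d := by
  have f := C.fm k2 h3
  have ad : ∀ a ∈ AA τ, ∃ d, μ a = diagonal d := fun a ha => (C.diag_iff k2 h3).2 fun i j => f.AA_comm ha (t_mem i j)
  have : IsMulCommutative (AA τ) := ⟨⟨fun a b => Subtype.ext (f.AA_comm a.2 b.2)⟩⟩
  have : Nontrivial ι := Fintype.one_lt_card_iff_nontrivial.1 (by omega)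
  suffices N ≤ centralizer {x | ∃ i j, x = τ i j} from fun x hx =>
    (C.diag_iff k2 h3).2 fun i j => (this hx _ ⟨i, j, rfl⟩).symm
  refine CL.coprime_le_of_forall_hyperplane (AA τ) N _ Nat.prime_two (fun a ha => by rw [sq, f.AA_sq ha]) (fun e => ?_)
    (fun a ha => n a ?_) ?_ fun B hB i2 x hx => ?_
  · obtain ⟨i, j, h⟩ := exists_pair_ne ι
    exact f.ne i j h (mem_bot.1 (e ▸ t_mem i j))
  · obtain ⟨d, e⟩ := ad a ha
    rw [e, sg, diagonal_mul_diagonal, diagonal_mul_diagonal]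
    simp only [mul_comm]
  · obtain ⟨k, hk⟩ := IsPGroup.iff_card.1 f.AA_pg
    rw [hk]
    exact o.coprime_two_left.pow_left k
  suffices (μ x).IsDiag by
    rintro _ ⟨i, j, rfl⟩
    exact ((C.diag_iff k2 h3).1 ⟨_, this.diagonal_diag.symm⟩ i j).symm
  intro r s rs
  by_cases h1 : ∃ b ∈ B, μ b r r ≠ μ b s s
  · obtain ⟨b, hb, h1⟩ := h1
    obtain ⟨d, e⟩ := ad b (hB hb)
    have := C.comm.1 (show Commute x b from (hx.2 b hb).symm)
    rw [e] at this h1
    exact comm_diagonal.1 this r s (by simpa using h1)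
  by_cases h4 : r ∈ I ↔ s ∈ I
  swap
  · refine comm_diagonal.1 (le x hx.1) r s fun e => k2 ?_
    split_ifs at e with a b b
    · exact (h4 (iff_of_true a b)).elim
    · linear_combination -e
    · linear_combination e
    · exact (h4 (iff_of_false a b)).elim
  push Not at h1
  obtain ⟨t, ht⟩ := exists_new [r, s] (by rw [Nat.card_eq_fintype_card]; simp; omega)
  simp only [List.mem_cons, List.not_mem_nil, or_false, not_or] at ht
  have m : τ r s ∈ B := by
    have a : τ r t ∉ B := fun h => k2 (by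
      have := h1 _ h
      simp [C.tau, rf_mul, Ne.symm ht.1, Ne.symm ht.2, rs.symm] at this
      linear_combination -this)
    have b : τ t s ∉ B := fun h => k2 (by
      have := h1 _ h
      simp [C.tau, rf_mul, Ne.symm ht.1, Ne.symm ht.2, rs] at this
      linear_combination this)
    rw [← f.mul r t s]
    exact (mul_mem_iff_of_index_two i2 (a := ⟨_, t_mem r t⟩) (b := ⟨_, t_mem t s⟩)).2 (iff_of_false a b)
  refine (C.cen_of h2 k2 rs (fun y hy => n y (Bk.comm_diag hy ?_)) (o.of_dvd_nat (card_dvd_of_le inf_le_left)) hx.1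
    (hx.2 _ m).symm r (.inl rfl) s rs.symm).1
  rintro _ (rfl | rfl) _ (rfl | rfl) <;> simp only [h4]

theorem two_ne_of (R : Type*) [Field R] [Fact p.Prime] [CharP R p] (h2 : p ≠ 2) : (2 : R) ≠ 0 := fun h =>
  h2 ((Nat.prime_dvd_prime_iff_eq Fact.out Nat.prime_two).1 ((CharP.cast_eq_zero_iff R p 2).1 (by exact_mod_cast h)))

theorem odd_of_inv {N : Subgroup Γ} (h : ∀ x ∈ N, x * x = 1 → x = 1) : Odd (Nat.card N) :=
  Nat.not_even_iff_odd.1 fun e => by
    obtain ⟨x, hx⟩ := exists_prime_orderOf_dvd_card' (G := N) 2 e.two_dvd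
    rw [show x = 1 from Subtype.ext (h x x.2 (by rw [← sq, ← coe_pow, ← hx, pow_orderOf_eq_one, coe_one])),
      orderOf_one] at hx
    omega

/-- `≥`: `blk ≅ SL₂(q)` is generated by elements `u` with `u ^ p = 1`, `ncl ⊤ (τ i j) u ≤ blk`, whose only involution is `τ i j`.
`≤`: let `u` be a generator, `N = ncl ⊤ (τ i j) u` (normalised by `C(τ i j)`), `Y = blk {i, j}ᶜ`.  `N ⊓ Y` contains no involution (`τ i j ∉ Y`), so has odd order.
For `k ≠ l` outside `{i, j}`: `⁅u, τ k l⁆ ∈ N ⊓ Y` is diagonal (`odd_diag`) of odd order, and `u (τ k l) u⁻¹ = ⁅u, τ k l⁆ τ k l` is an involution, so `u` commutes with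
`τ k l` and normalises `blk {k, l}`; `⁅u, blk {k, l}⁆ ≤ N ⊓ blk {k, l} = ⊥`; `cen_blk`; the diagonal entry satisfies `u_kk ^ p ^ a = 1`, so `u_kk = 1`. -/
theorem Cl.kk (C : Cl μ τ F e) [Fact p.Prime] [CharP K p] [CharP F p] (h2 : p ≠ 2) (h4 : 4 ≤ Fintype.card ι) {i j : ι}
    (h : i ≠ j) : KK p ⊤ (τ i j) = blk μ {i, j} := by
  have f2 := two_ne_of F h2
  have k2 := two_ne_of K h2
  have f := C.fm k2 (by omega)
  have cb : ∀ {c}, Commute c (τ i j) → μ c * sg K {i, j} = sg K {i, j} * μ c := fun hc => C.tau_sg h ▸ C.comm.1 hc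
  refine le_antisymm ((closure_le _).2 ?_) ?_
  swap
  · obtain ⟨φ, -, b, -⟩ := C.exists_iso f2 k2 h
    rw [← b]
    rintro _ ⟨x, rfl⟩
    refine (sl2_gen p ((KK p ⊤ (τ i j)).comap φ) fun x hx => subset_closure ⟨trivial, C.comm_tau h (b.le ⟨x, rfl⟩),
      ⟨1, by rw [pow_one, ← map_pow, hx, map_one]⟩, fun s hs => C.inv f2 k2 h ((closure_le _).2 ?_ hs)⟩).ge (mem_top x)
    rintro _ ⟨c, -, hc, rfl⟩
    exact conj_blk k2 Finset.coe_pair.symm (cb hc) (b.le ⟨x, rfl⟩)
  rintro u ⟨-, hu, ⟨a, ha⟩, hN⟩ k hk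
  have um : u ∈ ncl ⊤ (τ i j) u := subset_closure ⟨1, trivial, Commute.one_left _, by simp⟩
  have nN : ∀ c, Commute c (τ i j) → ∀ x ∈ ncl ⊤ (τ i j) u, c * x * c⁻¹ ∈ ncl ⊤ (τ i j) u := fun c hc x hx =>
    (closure_le ((ncl ⊤ (τ i j) u).comap (MulAut.conj c).toMonoidHom)).2 (by
      rintro _ ⟨d, -, hd, rfl⟩
      exact subset_closure ⟨c * d, trivial, hc.mul_left hd, by simp [mul_assoc]⟩) hx
  have nY : ∀ c, Commute c (τ i j) → ∀ y ∈ blk μ {i, j}ᶜ, c * y * c⁻¹ ∈ blk μ {i, j}ᶜ := fun c hc y hy =>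
    conj_blk k2 (J := {i, j}ᶜ) (by rw [Finset.coe_compl, Finset.coe_pair]) (by rw [← neg_sg, mul_neg, neg_mul, cb hc]) hy
  have cY : ∀ y ∈ blk μ {i, j}ᶜ, Commute y (τ i j) := fun y hy => C.comm.2 (Bk.comm hy (C.tau_mem i j) fun _ h => h)
  have i1 : ∀ x ∈ ncl ⊤ (τ i j) u ⊓ blk μ {i, j}ᶜ, x * x = 1 → x = 1 := fun x hx e => (hN x hx.1 e).resolve_right fun e => by
    have := (hx.2 i (fun h => h (.inl rfl)) i).1
    simp only [e, one_apply_eq, C.tau_sg h, sg, diagonal_apply_eq, Finset.mem_insert_self, if_true] at this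
    exact k2 (by linear_combination -this)
  simp only [Set.mem_insert_iff, Set.mem_singleton_iff, not_or] at hk
  obtain ⟨l, hl⟩ := exists_new [i, j, k] (by rw [Nat.card_eq_fintype_card]; simp; omega)
  simp only [List.mem_cons, List.not_mem_nil, or_false, not_or] at hl
  have kl : blk μ {k, l} ≤ blk μ {i, j}ᶜ := fun y hy => Bk.mono hy (by rintro _ (rfl | rfl) <;> simp [*])
  have t := kl (C.tau_mem k l)
  have w : u * τ k l * u⁻¹ * (τ k l)⁻¹ ∈ ncl ⊤ (τ i j) u ⊓ blk μ {i, j}ᶜ :=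
    mem_inf.2 ⟨by simpa only [mul_assoc] using mul_mem um (nN _ (cY _ t) _ (inv_mem um)), mul_mem (nY u hu _ t) (inv_mem t)⟩
  have c := (C.diag_iff k2 (by omega)).1 (C.odd_diag f2 k2 (by omega) {i, j} (ncl ⊤ (τ i j) u ⊓ blk μ {i, j}ᶜ)
    (fun x hx => cb (cY x hx.2)) (fun c hc => mem_normalizer_fintype fun x hx =>
      have := C.comm.2 (C.tau_sg h ▸ hc); mem_inf.2 ⟨nN c this x hx.1, nY c this x hx.2⟩)
    (odd_of_inv i1) _ w) k l
  replace c : Commute u (τ k l) := commutatorElement_eq_one_iff_commute.1 (i1 _ w (by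
    calc _ = u * τ k l * u⁻¹ * ((τ k l)⁻¹ * (u * τ k l * u⁻¹ * (τ k l)⁻¹)) := by group
      _ = _ := by rw [← c.inv_right.eq, f.inv, mul_assoc _ _ (τ k l), f.sq, mul_one, conj_mul, f.sq, mul_one, mul_inv_cancel]))
  have z := C.cen_of f2 k2 (Ne.symm hl.2.2) (fun y hy => mem_normalizer_fintype (nN y (cY y (kl hy))))
    (odd_of_inv fun x hx => i1 x ⟨hx.1, kl hx.2⟩) um c k (.inl rfl)
  have d : ∀ n : ℕ, μ (u ^ n) k k = μ u k k ^ n := fun n => by
    induction n with
    | zero => simp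
    | succ n ih =>
      rw [pow_succ', pow_succ', map_mul, mul_apply, Finset.sum_eq_single k (fun s _ hs => by rw [(z s hs).1, zero_mul])
        (by simp), ih]
  have d1 : μ u k k = 1 := by
    have := sub_pow_char_pow (p := p) (μ u k k) 1 a
    rw [← d, ha, map_one, one_apply_eq, one_pow, sub_self] at this
    exact sub_eq_zero.1 (pow_eq_zero_iff (pow_ne_zero _ (Fact.out : p.Prime).ne_zero) |>.1 this)
  intro s
  by_cases e : s = k
  · rw [e, d1, one_apply_eq]
    exact ⟨rfl, rfl⟩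
  · rw [one_apply_ne e, one_apply_ne (Ne.symm e)]
    exact z s e

/-- `perm`: `C.sw` induces the transpositions (`indS`, `eq_top_of_star`); `al` is `odd_diag` with `I = {i, j}` (`sg_pair`); the rest by `kk`, `C.iso`. -/
theorem Cl.s0 (C : Cl μ τ F e) [Fact p.Prime] [CharP K p] [CharP F p] (h2 : p ≠ 2) (h4 : 4 ≤ Fintype.card ι)
    (ce : p.Coprime e) : S0 p e ⊤ τ := by
  have f2 := two_ne_of F h2
  have k2 := two_ne_of K h2
  refine ⟨C.fm k2 (by omega), by rwa [Nat.card_eq_fintype_card], Fact.out, h2, ce, fun i j h => ?_,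
    fun M h => (C.gen M fun i j e => C.kk h2 h4 e ▸ h i j e).ge, fun i j h => ?_, fun i j h => ?_, fun i j h => ?_,
    fun i j h => ?_, fun i j k l h => ?_, fun x _ h => ?_, fun i j h N le n o x hx => ?_⟩
  · exact C.kk h2 h4 h ▸ C.tau_mem i j
  · exact C.kk h2 h4 h ▸ fun s => C.inv f2 k2 h
  · exact C.kk h2 h4 h ▸ fun N => C.oK f2 k2 h
  · exact C.kk h2 h4 h ▸ fun N => C.nK f2 k2 h
  · obtain ⟨w, hw, a, b⟩ := C.sw i j h
    exact ⟨w, C.kk h2 h4 h ▸ hw, C.ind hw a b⟩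
  · rw [C.kk h2 h4 h.1, C.kk h2 h4 h.2.2.2.2.2]
    obtain ⟨-, a, b, c, d, -⟩ := h
    exact fun x hx y hy => C.comm.2 (Bk.comm hx hy (by rintro _ (rfl | rfl) <;> simp [*]))
  · obtain ⟨d, e⟩ := (C.diag_iff k2 (by omega)).2 h
    exact C.tor x d e
  · exact (C.diag_iff k2 (by omega)).1 (C.odd_diag f2 k2 (by omega) {i, j} N
      (fun x hx => C.tau_sg h ▸ C.comm.1 (mem_Cz.1 (le hx).2))
      (fun c hc => n ⟨trivial, mem_Cz.2 (C.comm.2 (C.tau_sg h ▸ hc))⟩) o x hx)

/-- `β k x` is the `y` of `C.cj`; `alr` is `odd_diag` with `I = {k}` (`sg_single`). -/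
theorem Cl.exists_rf (C : Cl μ τ F e) [Fact p.Prime] [CharP K p] [CharP F p] (h2 : p ≠ 2) (h4 : 4 ≤ Fintype.card ι) :
    ∃ β, Rf p τ β := by
  have f2 := two_ne_of F h2
  have k2 := two_ne_of K h2
  choose b hb using C.cj
  have bb : ∀ k x, b k (b k x) = x := fun k x => C.inj (by
    rw [hb, hb, ← mul_assoc, ← mul_assoc, rf_sq, one_mul, mul_assoc, rf_sq, mul_one])
  have fx : ∀ k x, b k x = x ↔ μ x * sg K {k} = sg K {k} * μ x := fun k x => by
    rw [← C.inj.eq_iff, hb, sg_single]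
    exact ⟨fun h => by conv_lhs => rw [← h, mul_assoc, rf_sq, mul_one], fun h => by rw [← h, mul_assoc, rf_sq, mul_one]⟩
  refine ⟨fun k => ⟨⟨b k, b k, bb k, bb k⟩, fun x y => C.inj ?_⟩, fun k l x => C.inj ?_, fun i j k h ki kj x hx => ?_,
    fun k N le n o x hx => (C.diag_iff k2 (by omega)).1 (C.odd_diag f2 k2 (by omega) {k} N (fun x hx => (fx k x).1 (le x hx))
      (fun c hc => n c ((fx k c).2 hc)) o x hx)⟩
  · change μ (b k (x * y)) = μ (b k x * b k y)
    simp only [map_mul, hb, mul_assoc]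
    rw [← mul_assoc (rf K k) (rf K k), rf_sq, one_mul]
  · change μ (b k (b l x)) = _
    rw [(C.fm k2 (by omega)).inv, map_mul, map_mul, hb, hb, C.tau, mul_assoc, mul_assoc, mul_assoc, rf_comm l k]
    simp only [mul_assoc]
  · rw [C.kk h2 h4 h] at hx
    exact (fx k x).2 (Bk.comm_diag hx (by rintro _ (rfl | rfl) _ (rfl | rfl) <;> simp [ki.symm, kj.symm]))

end CL.Lm
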