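import Cfsg.Agent.FUS.Lm.Def

/-! # Corresponding families of 2-elements; centralizers, quotients and normal subgroups -/

set_option autoImplicit false

namespace CL.Lm

open Subgroup Cfsg CL.MSS CL.PComp CL.Ln
open CL.L5 (Cz Oc mem_Cz comm_conj conj_mul_conj conj_eq_of_comm comm_of_conj_eq)

variable {T G H : Type*} [Group T] [Group G] [Group H] {f : T →* G} {f' : T →* H} {α β : Type*}

/-- the families `x`, `y` are conjugate to the images of one family in `T`. -/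
def Co (f : T →* G) (f' : T →* H) (x : α → G) (y : α → H) : Prop :=
  ∃ g h, ∀ a, ∃ s, x a = g * f s * g⁻¹ ∧ y a = h * f' s * h⁻¹

theorem co_self (f : T →* G) (f' : T →* H) (s : α → T) : Co f f' (fun a => f (s a)) fun a => f' (s a) :=
  ⟨1, 1, fun a => ⟨s a, by simp, by simp⟩⟩

theorem conj_mem_iff {N : Subgroup G} (n : N.Normal) (g x : G) : g * x * g⁻¹ ∈ N ↔ x ∈ N :=
  ⟨fun h => by simpa [mul_assoc] using n.conj_mem _ h g⁻¹, fun h => n.conj_mem _ h g⟩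

theorem Emb.pg (h : Emb f) : IsPGroup 2 f.range := h.isPGroup.of_surjective _ f.rangeRestrict_surjective

theorem Emb.sylIn (h : Emb f) : SylIn 2 f.range ⊤ := let ⟨P, k⟩ := h.2; k ▸ sylIn_top P

namespace Co

variable {x x' : α → G} {y y' : α → H}

theorem symm (c : Co f f' x y) : Co f' f y x :=
  let ⟨g, h, k⟩ := c; ⟨h, g, fun a => (k a).imp fun _ => And.symm⟩

theorem comp (c : Co f f' x y) (k : β → α) : Co f f' (fun b => x (k b)) fun b => y (k b) :=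
  let ⟨g, h, l⟩ := c; ⟨g, h, fun b => l (k b)⟩

theorem conj (c : Co f f' x y) (g : G) (h : H) : Co f f' (fun a => g * x a * g⁻¹) fun a => h * y a * h⁻¹ :=
  let ⟨u, v, l⟩ := c
  ⟨g * u, h * v, fun a => (l a).imp fun _ k => ⟨by simp only [k.1]; group, by simp only [k.2]; group⟩⟩

theorem fu (S : Sim f f') (c : Co f f' x y) (c' : Co f f' x' y') (e : ∃ g, ∀ a, x' a = g * x a * g⁻¹) :
    ∃ h, ∀ a, y' a = h * y a * h⁻¹ := by
  obtain ⟨g, h, k⟩ := c
  obtain ⟨g', h', k'⟩ := c'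
  obtain ⟨u, e⟩ := e
  choose s s1 s2 using k
  choose s' s1' s2' using k'
  obtain ⟨m, hm⟩ := (S.2.2 (Set.range fun a => (s a, s' a))).1 ⟨g'⁻¹ * u * g, by
    rintro _ ⟨a, rfl⟩
    have := e a
    rw [s1, s1'] at this
    calc _ = g'⁻¹ * (g' * f (s' a) * g'⁻¹) * g' := by group
      _ = _ := by rw [this]; group⟩
  exact ⟨h' * m * h⁻¹, fun a => by rw [s2', s2, hm _ ⟨a, rfl⟩]; group⟩

theorem isConj (S : Sim f f') (c : Co f f' x y) (c' : Co f f' x' y') (a b : α) :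
    IsConj (x a) (x' b) ↔ IsConj (y a) (y' b) := by
  simp only [isConj_iff, eq_comm (b := x' b), eq_comm (b := y' b)]
  exact ⟨fun ⟨g, e⟩ => ((c.comp fun _ : Unit => a).fu S (c'.comp fun _ => b) ⟨g, fun _ => e⟩).imp fun _ k => k (),
    fun ⟨g, e⟩ => ((c.symm.comp fun _ : Unit => a).fu S.symm (c'.symm.comp fun _ => b) ⟨g, fun _ => e⟩).imp
      fun _ k => k ()⟩

/-- extension to a 2-subgroup. -/
theorem ext [Finite G] (S : Sim f f') (c : Co f f' x y) (P : Subgroup G) (hP : IsPGroup 2 P) (hx : ∀ a, x a ∈ P) :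
    ∃ ψ : P →* H, Function.Injective ψ ∧ (∀ a, ψ ⟨x a, hx a⟩ = y a) ∧ Co f f' (fun u : P => (u : G)) ψ := by
  obtain ⟨k, hk⟩ := S.1.exists_conj hP
  let σ : P →* T := (MonoidHom.ofInjective S.1.1).symm.toMonoidHom.comp
    (((MulAut.conj k).toMonoidHom.comp P.subtype).codRestrict _ fun u => hk u u.2)
  have hσ : ∀ u, f (σ u) = k * u * k⁻¹ := fun u => MonoidHom.apply_ofInjective_symm S.1.1 _
  obtain ⟨m, hm⟩ := (co_self f f' fun a => σ ⟨x a, hx a⟩).fu S c ⟨k⁻¹, fun a => by rw [hσ]; group⟩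
  refine ⟨(MulAut.conj m).toMonoidHom.comp (f'.comp σ), (MulAut.conj m).injective.comp (S.2.1.1.comp fun a b e => ?_),
    fun a => (hm a).symm, k⁻¹, m, fun u => ⟨σ u, by rw [hσ]; group, rfl⟩⟩
  have := congrArg f e
  rw [hσ, hσ] at this
  exact Subtype.ext (by simpa using this)

/-- normal subgroups. -/
theorem mem_iff (c : Co f f' x y) {N : Subgroup G} {N' : Subgroup H} (n : N.Normal) (n' : N'.Normal)
    (m : ∀ s, f s ∈ N ↔ f' s ∈ N') (a : α) : x a ∈ N ↔ y a ∈ N' := by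
  obtain ⟨g, h, k⟩ := c
  obtain ⟨s, e, e'⟩ := k a
  rw [e, e', conj_mem_iff n, conj_mem_iff n', m]

end Co

/-- every 2-subgroup has a partner. -/
theorem exists_co [Finite G] (S : Sim f f') (P : Subgroup G) (hP : IsPGroup 2 P) :
    ∃ ψ : P →* H, Function.Injective ψ ∧ Co f f' (fun u : P => (u : G)) ψ :=
  let ⟨ψ, a, _, b⟩ := (co_self f f' (Empty.elim : Empty → T)).ext S P hP fun a => a.elim; ⟨ψ, a, b⟩

/-- quotients by normal subgroups of odd order. -/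
theorem sim_odd [Finite G] (h : Emb f) {π : G →* H} (s : Function.Surjective π) (o : (Nat.card π.ker).Coprime 2) :
    Sim f (π.comp f) := by
  have : Fact (Nat.Prime 2) := ⟨Nat.prime_two⟩
  have inj : ∀ a ∈ f.range, ∀ b ∈ f.range, π a = π b → a = b := fun a ha b hb e => by
    have : a * b⁻¹ ∈ f.range ⊓ π.ker := ⟨f.range.mul_mem ha (f.range.inv_mem hb), by simp [MonoidHom.mem_ker, e]⟩
    rw [eq_bot_of_isPGroup_of_not_dvd ((Emb.pg h).to_le inf_le_left) inf_le_right (coprime_card_iff_not_dvd.1 o)] at this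
    exact mul_inv_eq_one.1 this
  refine ⟨h, emb_quot h s (ρ := .id T) Function.surjective_id (fun _ => rfl) fun a b e =>
    h.1 (inj _ ⟨a, rfl⟩ _ ⟨b, rfl⟩ e), fun R => ⟨fun ⟨g, k⟩ => ⟨π g, fun p hp => by simp [k p hp]⟩, fun ⟨g, k⟩ => ?_⟩⟩
  obtain ⟨g, rfl⟩ := s g
  let Y : Subgroup G := (f.range.map π).comap π
  have m : ∀ p ∈ R, g * f p.1 * g⁻¹ ∈ Y := fun p hp => ⟨f p.2, ⟨_, rfl⟩, by simpa using k p hp⟩
  obtain ⟨y, ⟨_, ⟨t, rfl⟩, hy⟩, l⟩ := ((Emb.sylIn h).of_le (le_comap_map _ _) le_top).exists_conj_le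
    (R := (g •ᶜ f.range) ⊓ Y) (((Emb.pg h).map _).to_le inf_le_left) inf_le_right
  refine ⟨(f t)⁻¹ * y * g, fun p hp => inj _ ⟨_, rfl⟩ _ ?_ ?_⟩
  · have := f.range.mul_mem (f.range.mul_mem (f.range.inv_mem ⟨t, rfl⟩)
      (l (conj_mem_cj (mem_inf.2 ⟨conj_mem_cj (Q := f.range) ⟨p.1, rfl⟩, m p hp⟩)))) ⟨t, rfl⟩
    convert this using 1; group
  · have := k p hp
    simp only [MonoidHom.comp_apply] at this
    simp [this, hy]

/-- centralizers. -/
theorem sim_cent [Finite G] (S : Sim f f') (ζ : T) {φ : Cz ζ →* Cz (f ζ)} {φ' : Cz ζ →* Cz (f' ζ)}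
    (e : ∀ s, (φ s : G) = f s) (e' : ∀ s, (φ' s : H) = f' s) (h : Emb φ') : Sim φ φ' := by
  have : Fact (Nat.Prime 2) := ⟨Nat.prime_two⟩
  have i : Function.Injective φ := fun a b k => Subtype.ext (S.1.1 (by rw [← e, ← e, k]))
  have pg : IsPGroup 2 φ.range := h.isPGroup.of_surjective _ φ.rangeRestrict_surjective
  obtain ⟨P, hP⟩ := pg.exists_le_sylow
  let z : Cz ζ := ⟨ζ, mem_Cz.2 (Commute.refl _)⟩
  obtain ⟨ψ, a, b, -⟩ := (co_self f f' fun s : Cz ζ => (s : T)).ext S ((P : Subgroup _).map (Cz (f ζ)).subtype)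
    (P.2.map _) fun s => ⟨φ s, hP ⟨s, rfl⟩, e s⟩
  have c : ∀ u, ψ u ∈ Cz (f' ζ) := fun u => mem_Cz.2 (by
    rw [← b z]
    obtain ⟨_, v, -, rfl⟩ := u
    exact Commute.map (Subtype.ext (mem_Cz.1 v.2).eq) ψ)
  let χ := ψ.codRestrict _ c
  obtain ⟨P', k⟩ := h.2
  have l : χ.range = φ'.range := k ▸ P'.3 ((P.2.map _).of_surjective _ χ.rangeRestrict_surjective) (by
    rw [k]
    rintro _ ⟨s, rfl⟩
    exact ⟨_, Subtype.ext ((b s).trans (e' s).symm)⟩)
  refine ⟨⟨i, P, le_antisymm (fun u hu => ?_) hP⟩, h, fun R => ⟨fun ⟨g, k⟩ => ?_, fun ⟨g, k⟩ => ?_⟩⟩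
  · obtain ⟨s, hs⟩ := l.le ⟨⟨u, u, hu, rfl⟩, rfl⟩
    have := a ((b s).trans ((e' s).symm.trans (congrArg Subtype.val hs)))
    exact ⟨s, Subtype.ext ((e s).trans (congrArg Subtype.val this))⟩
  · obtain ⟨m, hm⟩ := (S.2.2 (insert (ζ, ζ) (Prod.map Subtype.val Subtype.val '' R))).1 ⟨g, by
      rintro _ (rfl | ⟨p, hp, rfl⟩)
      · exact (conj_eq_of_comm (mem_Cz.1 g.2)).symm
      · simpa [e] using congrArg Subtype.val (k p hp)⟩
    exact ⟨⟨m, mem_Cz.2 (comm_of_conj_eq (hm _ (.inl rfl)).symm)⟩, fun p hp =>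
      Subtype.ext (by simpa [e'] using hm _ (.inr ⟨p, hp, rfl⟩))⟩
  · obtain ⟨m, hm⟩ := (S.2.2 (insert (ζ, ζ) (Prod.map Subtype.val Subtype.val '' R))).2 ⟨g, by
      rintro _ (rfl | ⟨p, hp, rfl⟩)
      · exact (conj_eq_of_comm (mem_Cz.1 g.2)).symm
      · simpa [e'] using congrArg Subtype.val (k p hp)⟩
    exact ⟨⟨m, mem_Cz.2 (comm_of_conj_eq (hm _ (.inl rfl)).symm)⟩, fun p hp =>
      Subtype.ext (by simpa [e] using hm _ (.inr ⟨p, hp, rfl⟩))⟩

/-- normal subgroups: the elements of odd order need only centralize the smaller Sylow subgroup. -/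
theorem sim_normal [Finite G] [Finite H] (h : Sim f f') (N : Subgroup G) [N.Normal] {Λ : Type*} [Group Λ] {j : Λ →* H}
    (hj : Function.Injective j) (n : j.range.Normal) (m : ∀ t, f t ∈ N ↔ f' t ∈ j.range)
    (o : ∀ g : G, Odd (orderOf g) → ∃ c, (∀ t, f t ∈ N → c * f t = f t * c) ∧ g * c ∈ N)
    (o' : ∀ g : H, Odd (orderOf g) → ∃ c, (∀ t, f t ∈ N → c * f' t = f' t * c) ∧ g * c ∈ j.range) :
    ∃ (φ : N.comap f →* N) (φ' : N.comap f →* Λ), Sim φ φ' ∧ (∀ u, (φ u : G) = f u) ∧ ∀ u, j (φ' u) = f' u := by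
  have := Finite.of_injective j hj
  let φ : N.comap f →* N := (f.comp (N.comap f).subtype).codRestrict _ fun u => u.2
  let φ₁ : N.comap f →* j.range := (f'.comp (N.comap f).subtype).codRestrict _ fun u => (m _).1 u.2
  let φ' := (MonoidHom.ofInjective hj).symm.toMonoidHom.comp φ₁
  have e' : ∀ u, j (φ' u) = f' u := fun u => MonoidHom.apply_ofInjective_symm hj _
  have k : Emb φ := emb_normal h.1 N Subtype.val_injective (fun _ => rfl) fun t ht => ⟨⟨t, ht⟩, rfl⟩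
  have k' : Emb φ' := (emb_normal h.2.1 j.range (φ := φ₁) Subtype.val_injective (fun _ => rfl)
    fun t ht => ⟨⟨t, (m t).2 ht⟩, rfl⟩).map _
  exact ⟨φ, φ', ⟨k, k', fun _ =>
    ⟨fu_normal (f := f.comp (N.comap f).subtype) (f' := f'.comp (N.comap f).subtype) (i := .id _) (j := N.subtype)
      (fun R => by rw [fu_comp, fu_comp]; exact (h.2.2 _).1) hj k (fun _ => rfl) e'
      fun g hg => (o' g hg).imp fun c l => ⟨fun t => l.1 t t.2, l.2⟩,
    fu_normal (f := f'.comp (N.comap f).subtype) (f' := f.comp (N.comap f).subtype) (i := .id _) (j := j)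
      (fun R => by rw [fu_comp, fu_comp]; exact (h.2.2 _).2) N.subtype_injective k' e' (fun _ => rfl)
      fun g hg => (o g hg).imp fun c l => ⟨fun t => l.1 t t.2, by simpa using l.2⟩⟩⟩, fun _ => rfl, e'⟩

/-- an element of odd order normalizing the image of `U` acts on it as an element of odd order of the other group. -/
theorem exists_odd_act [Finite G] [Finite H] (S : Sim f f') (U : Subgroup T) {g : G} (o : Odd (orderOf g))
    (n : ∀ u ∈ U, ∃ v ∈ U, f v = g * f u * g⁻¹) :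
    ∃ h : H, Odd (orderOf h) ∧ ∀ u ∈ U, ∀ v, f v = g * f u * g⁻¹ → f' v = h * f' u * h⁻¹ := by
  obtain ⟨y, hy⟩ := (S.2.2 {p | f p.2 = g * f p.1 * g⁻¹}).1 ⟨g, fun _ h => h⟩
  have pw : ∀ (m : ℕ), ∀ s ∈ U, ∀ t, f t = g ^ m * f s * (g ^ m)⁻¹ → f' t = y ^ m * f' s * (y ^ m)⁻¹ := by
    intro m
    induction m with
    | zero => intro s _ t ht; rw [S.1.1 (by simpa using ht : f t = f s)]; simp
    | succ m ih =>
      intro s hs t ht
      obtain ⟨u, hu, e⟩ := n s hs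
      rw [ih u hu t (by rw [ht, e, pow_succ]; group), hy (s, u) e, pow_succ]
      group
  obtain ⟨m, h1, h2⟩ := exists_odd_pow y o
  rw [← pow_eq_pow_iff_modEq, pow_one] at h1
  exact ⟨_, h2, fun u hu v e => pw m u hu v (by rw [h1, e])⟩

end CL.Lm
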