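import Cfsg.Agent.INV.L5.Tool
import Cfsg.Agent.FUS.Ln.Alp
import Cfsg.Agent.FUS.Ln.Ar
import Cfsg.Prelude.Def_SporadicB

/-! # Simple groups with the 2-fusion of `L_n(q)`, `q` odd, `n ≥ 6`: definitions

Model: `t i j = r_i r_j`, `r_i` the diagonal reflection in the coordinate `i`; `LL t (t a b) = SL_{n-2}` on the coordinates
`≠ a, b`; `KK p L (t i j) = SL₂` on the coordinates `i, j`. -/

set_option autoImplicit false

namespace CL.Lm

open Subgroup Cfsg CL.MSS CL.PComp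
open CL.L5 (Cz Oc mem_Cz comm_conj conj_mul_conj conj_eq_of_comm comm_of_conj_eq)
open scoped commutatorElement

universe u

variable {G Γ : Type*} [Group G] [Group Γ] {ι κ : Type*}

/-- `g` induces the permutation `σ` on the frame. -/
def Ind (t : ι → ι → G) (g : G) (σ : Equiv.Perm ι) : Prop := ∀ i j, g * t i j * g⁻¹ = t (σ i) (σ j)

/-- four distinct indices. -/
def D4 (i j k l : ι) : Prop := i ≠ j ∧ i ≠ k ∧ i ≠ l ∧ j ≠ k ∧ j ≠ l ∧ k ≠ l

/-- a frame. -/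
structure Fm (t : ι → ι → G) : Prop where
  mul : ∀ i j k, t i j * t j k = t i k
  symm : ∀ i j, t i j = t j i
  perm : ∀ σ, ∃ g, Ind t g σ
  ne : ∀ i j, i ≠ j → t i j ≠ 1
  ne4 : ∀ i j k l, D4 i j k l → t i j ≠ t k l

/-- the group generated by a frame. -/
def AA (t : ι → ι → G) : Subgroup G := closure {x | ∃ i j, x = t i j}

/-- weight 2. -/
def W2 (t : ι → ι → G) (x : G) : Prop := ∃ i j, i ≠ j ∧ IsConj (t i j) x

/-- weight 4. -/
def W4 (t : ι → ι → G) (x : G) : Prop := ∃ i j k l, D4 i j k l ∧ IsConj (t i j * t k l) x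

/-- the involutions of weight 2 with support disjoint from that of `a`. -/
def JJ (t : ι → ι → G) (a : G) : Set G :=
  {d | ∃ g i j k l, D4 i j k l ∧ g * t i j * g⁻¹ = a ∧ g * t k l * g⁻¹ = d}

/-- the large factor of `C(a)`. -/
def LL (t : ι → ι → G) (a : G) : Subgroup G := closure (JJ t a)

/-- the normal closure of `u` in `C_L(a)`. -/
def ncl (L : Subgroup G) (a u : G) : Subgroup G := closure {x | ∃ c ∈ L, Commute c a ∧ x = c * u * c⁻¹}

/-- the fundamental subgroup of `L` with central involution `a`. -/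
def KK (p : ℕ) (L : Subgroup G) (a : G) : Subgroup G :=
  closure {u | u ∈ L ∧ Commute u a ∧ (∃ k : ℕ, u ^ p ^ k = 1) ∧ ∀ s ∈ ncl L a u, s * s = 1 → s = 1 ∨ s = a}

/-- Facts on `L = SL_m^±(q)` modulo a central subgroup of odd order, `p` the characteristic, `e = q ∓ 1`. -/
structure S0 [DecidableEq κ] (p e : ℕ) (L : Subgroup G) (τ : κ → κ → G) : Prop where
  fm : Fm τ
  four : 4 ≤ Nat.card κ
  prime : p.Prime
  odd : p ≠ 2
  cop : p.Coprime e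
  mem : ∀ i j, i ≠ j → τ i j ∈ KK p L (τ i j)
  gen : ∀ M : Subgroup G, (∀ i j, i ≠ j → KK p L (τ i j) ≤ M) → L ≤ M
  inv : ∀ i j, i ≠ j → ∀ s ∈ KK p L (τ i j), s * s = 1 → s = 1 ∨ s = τ i j
  oK : ∀ i j, i ≠ j → ∀ N ≤ KK p L (τ i j), KK p L (τ i j) ≤ normalizer (N : Set G) → Odd (Nat.card N) → N = ⊥
  nK : ∀ i j, i ≠ j → ∀ N ≤ KK p L (τ i j), KK p L (τ i j) ≤ normalizer (N : Set G) →
    N ≤ zpowers (τ i j) ∨ ∃ u ∈ N, ∃ v ∈ N, IsPGroup 2 (closure {u, v} : Subgroup G) ∧ ⁅u, v⁆ = τ i j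
  sw : ∀ i j, i ≠ j → ∃ w ∈ KK p L (τ i j), Ind τ w (Equiv.swap i j)
  dis : ∀ i j k l, D4 i j k l → ∀ x ∈ KK p L (τ i j), ∀ y ∈ KK p L (τ k l), Commute x y
  tor : ∀ x ∈ L, (∀ i j, Commute x (τ i j)) → x ^ e = 1
  al : ∀ i j, i ≠ j → ∀ N ≤ L ⊓ Cz (τ i j), L ⊓ Cz (τ i j) ≤ normalizer (N : Set G) → Odd (Nat.card N) →
    ∀ x ∈ N, ∀ k l, Commute x (τ k l)

/-- The reflections as automorphisms of `Γ = SL_m^±(q)`. -/
structure Rf (p : ℕ) (τ : κ → κ → Γ) (β : κ → MulAut Γ) : Prop where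
  two : ∀ k l x, β k (β l x) = τ k l * x * (τ k l)⁻¹
  cen : ∀ i j k, i ≠ j → k ≠ i → k ≠ j → ∀ x ∈ KK p ⊤ (τ i j), β k x = x
  alr : ∀ k (N : Subgroup Γ), (∀ x ∈ N, β k x = x) → (∀ c, β k c = c → c ∈ normalizer (N : Set Γ)) →
    Odd (Nat.card N) → ∀ x ∈ N, ∀ i j, Commute x (τ i j)

/-- The reflections as elements of an overgroup. -/
structure St [DecidableEq κ] (p e : ℕ) (L : Subgroup G) (b : κ → G) : Prop
    extends S0 p e L (fun i j => b i * b j) where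
  nrm : ∀ k, b k ∈ normalizer (L : Set G)
  sq : ∀ k, b k * b k = 1
  cen : ∀ i j k, i ≠ j → k ≠ i → k ≠ j → ∀ x ∈ KK p L (b i * b j), Commute x (b k)
  alr : ∀ k, ∀ N ≤ L ⊓ Cz (b k), L ⊓ Cz (b k) ≤ normalizer (N : Set G) → Odd (Nat.card N) →
    ∀ x ∈ N, ∀ i j, Commute x (b i * b j)

/-- homomorphisms from `Γ` lift through central extensions whose kernel satisfies `P`. -/
def Lift (Γ : Type*) [Group Γ] (P : ℕ → Prop) : Prop :=
  ∀ (L N : Type u) [Group L] [Finite L] [Group N] (π : L →* N), Function.Surjective π → π.ker ≤ center L →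
    P (Nat.card π.ker) → ∀ σ : Γ →* N, ∃ η : Γ →* L, π.comp η = σ

/-- All facts on the abstract group `Γ = SL_m^±(q)`. -/
structure Gm [DecidableEq κ] (p e : ℕ) (τ : κ → κ → Γ) : Prop where
  s0 : S0 p e ⊤ τ
  rf : ∃ β, Rf p τ β
  idf : ∀ τ' : κ → κ → Γ, Fm τ' → ∃ g, ∀ i j, τ' i j = g * τ i j * g⁻¹
  perf : commutator Γ = ⊤
  lift2 : Lift.{u} Γ fun n => ∃ k, n = 2 ^ k
  lift : Lift.{u} Γ (fun _ => True) ∨ ∃ j, e = 2 ^ j

/-- The facts on involutions used by the generation lemma. -/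
structure Mg (t : ι → ι → G) : Prop where
  g1 : ∀ d d', W2 t d → W2 t d' → IsPGroup 2 (closure {d, d'} : Subgroup G) →
    ∃ x, W2 t x ∧ Commute x d ∧ Commute x d'
  g2 : ∀ d d', W2 t d → W2 t d' → IsPGroup 2 (closure {d, d'} : Subgroup G) → ∀ k : ℕ,
    orderOf ((d * d') ^ k) = 2 → W2 t ((d * d') ^ k) ∨ W4 t ((d * d') ^ k)
  g3 : ∀ i j k l m, D4 i j k l → m ≠ i → m ≠ j → m ≠ k → m ≠ l → ∀ c c' u v, Commute c (t i j * t k l) →
    Commute c' (t i j * t k l) → u = c * t i j * c⁻¹ → v = c' * t i m * c'⁻¹ →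
    IsPGroup 2 (closure {u, v, t i j * t k l} : Subgroup G) → ∀ n : ℕ, orderOf ((u * v) ^ n) = 2 →
    W2 t ((u * v) ^ n) ∨ W2 t ((u * v) ^ n * (t i j * t k l))
  g4 : ∀ y ∈ AA t, ∀ d, W2 t d → Commute d y → ∃ c, Commute c y ∧ ∃ i j, c * d * c⁻¹ = t i j
  g5 : ∀ y r, W4 t y → r * r = 1 → Commute r y → ∃ d, W2 t d ∧ Commute d r ∧ Commute d y
  g6 : ∃ r d d', IsTwoCentralInvolution r ∧ W2 t d ∧ W2 t d' ∧ Commute d r ∧ Commute d' r ∧ Commute d d' ∧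
    ¬ IsConj (d * r) (d' * r)
  rig : ∀ (S : Sylow 2 G) (g : G), g ∈ normalizer ((S : Subgroup G) : Set G) → Odd (orderOf g) →
    ∀ s ∈ S, Commute g s

/-- The generation lemma. -/
def Gn (t : ι → ι → G) : Prop := ∀ a b c d, D4 a b c d → ∀ M : Subgroup G, Cz (t a b) ≤ M →
  (∃ g ∈ M, g * t a b * g⁻¹ = t c d) → (∃ g ∈ M, g * t a b * g⁻¹ = t b c) → M = ⊤

/-- Facts on `Λ = SL_m(q)`. -/
structure Ms (τ : κ → κ → Γ) : Prop where
  fm : Fm τ
  four : 4 ≤ Nat.card κ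
  perf : commutator Γ = ⊤
  rig : ∀ (R : Sylow 2 Γ) (α : MulAut Γ), Odd (orderOf α) → (∀ x ∈ R, α x ∈ R) → ∀ x ∈ R, α x = x
  sc : ∀ (R : Sylow 2 Γ) (U : Subgroup Γ), U ≤ R → (∀ x ∈ U, ∀ g, g * x * g⁻¹ ∈ R → g * x * g⁻¹ ∈ U) →
    ¬ U ≤ center Γ → U = R

/-- Facts on `G = C(z)` in `PSL_{m+2}(q)`: `K = SL₂(q)`, `lam` the embedding of `SL_m(q)`, `b k = t b k`. -/
structure Mb (z : G) (b : κ → G) (K : Subgroup G) (lam : Γ →* G) (τ : κ → κ → Γ) : Prop where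
  zc : z ∈ center G
  z2 : z * z = 1
  inj : Function.Injective lam
  nL : lam.range.Normal
  nK : K.Normal
  comm : ∀ x ∈ K, ∀ l, Commute x (lam l)
  inf : K ⊓ lam.range ≤ zpowers z
  b2 : ∀ k, b k * b k = 1
  bb : ∀ i j, b i * b j = lam (τ i j)
  cQ : ∀ (T : Sylow 2 G) (h x : G), (∀ u ∈ (T : Subgroup G) ⊓ K, Commute h u) →
    (∀ u ∈ (T : Subgroup G) ⊓ K, Commute x u) → ⁅h, x⁆ ∈ lam.range
  fr : ∀ g, ∃ l, ∀ i j, g * lam (τ i j) * g⁻¹ = lam (l * τ i j * l⁻¹)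
  bK : ∀ i j k, i ≠ j → k ≠ i → k ≠ j → ∀ x ∈ lam.range, Commute x (b i * b j) → ∀ n : ℕ, ⁅x, b k⁆ ^ n ≠ b i * b j

/-- The structure of `C(t a b)` modulo its core; `ε` enumerates the indices `≠ a, b`. -/
structure Lb [DecidableEq κ] (p e : ℕ) (t : ι → ι → G) (a b : ι) (ε : κ → ι) {X : Type*} [Group X]
    (π : Cz (t a b) →* X) (L : Subgroup X) (bb : κ → X) : Prop where
  fm : Fm t
  ab : a ≠ b
  inj : Function.Injective ε
  rng : ∀ i, i ∈ Set.range ε ↔ i ≠ a ∧ i ≠ b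
  surj : Function.Surjective π
  ker : ∀ x, π x = 1 ↔ (x : G) ∈ Oc (t a b)
  core : oddCore X = ⊥
  nL : L.Normal
  perf : ⁅L, L⁆ = L
  bb_eq : ∀ k (h : t b (ε k) ∈ Cz (t a b)), π ⟨_, h⟩ = bb k
  st : St p e L bb
  fr : ∀ g : X, ∃ l ∈ L, ∀ i j, g * (bb i * bb j) * g⁻¹ = l * (bb i * bb j) * l⁻¹
  map : ((LL t (t a b)).subgroupOf (Cz (t a b))).map π = L
  n7 : ∀ c d, D4 a b c d → ∀ u ∈ LL t (t a b) ⊓ LL t (t c d), ∀ v ∈ LL t (t a b) ⊓ LL t (t c d),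
    IsPGroup 2 (closure {u, v} : Subgroup G) → ⁅u, v⁆ ≠ t a b

/-- The three local facts used by the signalizer functor argument. -/
structure Lc (t : ι → ι → G) (a b : ι) : Prop where
  l1 : ∀ k l, k ≠ l → ∀ x ∈ Oc (t k l), Commute x (t a b) → ∀ i j, x * t i j * x⁻¹ * t i j ∈ Oc (t a b)
  l2 : ∀ k l m, k ≠ l → l ≠ m → k ≠ m → ∀ x ∈ Oc (t k l) ⊓ Oc (t l m) ⊓ Oc (t k m),
    Commute x (t a b) → x ∈ Oc (t a b)
  l3 : ∀ c d f, D4 a b c d → D4 a b d f → c ≠ f → ∀ M : Subgroup G, Oc (t a b) ≤ M →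
    Cz (t a b) ⊓ Cz (t b c) ≤ M → Cz (t a b) ⊓ Cz (t b d) ≤ M → Cz (t a b) ⊓ Cz (t b f) ≤ M →
    Cz (t c d) ⊓ Cz (t d f) ≤ M → Cz (t a b) ≤ M

/-- What the identification uses. -/
structure Out [DecidableEq ι] (p : ℕ) (τ : κ → κ → Γ) (t : ι → ι → G) (K : ι → ι → Subgroup G) : Prop where
  fm : Fm t
  emb : ∀ ε : κ → ι, Function.Injective ε → ∃ f : Γ →* G, f.ker ≤ center Γ ∧
    ∀ i j, f (τ i j) = t (ε i) (ε j) ∧ (i ≠ j → (KK p ⊤ (τ i j)).map f = K (ε i) (ε j))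
  dis : ∀ i j k l, D4 i j k l → ∀ x ∈ K i j, ∀ y ∈ K k l, Commute x y
  gen : ∀ M : Subgroup G, (∀ i j, i ≠ j → K i j ≤ M) → M = ⊤
  sw : ∀ i j, i ≠ j → ∃ w ∈ K i j, Ind t w (Equiv.swap i j)
  cj : ∀ g σ, Ind t g σ → ∀ i j, g •ᶜ K i j = K (σ i) (σ j)

/-! ## Basic lemmas -/

variable {t : ι → ι → G}

theorem Ind.one : Ind t 1 1 := fun _ _ => by simp

theorem Ind.mul {g h : G} {σ ρ : Equiv.Perm ι} (a : Ind t g σ) (b : Ind t h ρ) : Ind t (g * h) (σ * ρ) :=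
  fun i j => by rw [Equiv.Perm.mul_apply, Equiv.Perm.mul_apply, ← a, ← b]; group

theorem Ind.inv {g : G} {σ : Equiv.Perm ι} (a : Ind t g σ) : Ind t g⁻¹ σ⁻¹ := fun i j => by
  have := a (σ⁻¹ i) (σ⁻¹ j)
  simp only [Equiv.Perm.coe_inv, Equiv.apply_symm_apply] at this ⊢
  rw [← this]; group

theorem Ind.comm {g : G} {σ : Equiv.Perm ι} (a : Ind t g σ) {i j : ι} (h : σ i = i) (k : σ j = j) :
    Commute g (t i j) := comm_of_conj_eq (by rw [a, h, k])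

/-- the permutations induced by a subgroup. -/
def indS (t : ι → ι → G) (K : Subgroup G) : Subgroup (Equiv.Perm ι) where
  carrier := {σ | ∃ g ∈ K, Ind t g σ}
  one_mem' := ⟨1, one_mem _, Ind.one⟩
  mul_mem' := fun ⟨g, hg, a⟩ ⟨h, hh, b⟩ => ⟨g * h, mul_mem hg hh, a.mul b⟩
  inv_mem' := fun ⟨g, hg, a⟩ => ⟨g⁻¹, inv_mem hg, a.inv⟩

theorem mem_indS {K : Subgroup G} {σ : Equiv.Perm ι} : σ ∈ indS t K ↔ ∃ g ∈ K, Ind t g σ := Iff.rfl

theorem swap_mem_of [DecidableEq ι] {P : Subgroup (Equiv.Perm ι)} {a b c : ι} (h1 : Equiv.swap a b ∈ P)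
    (h2 : Equiv.swap b c ∈ P) : Equiv.swap a c ∈ P := by
  by_cases e1 : a = c
  · subst e1; rw [Equiv.swap_self]; exact one_mem P
  by_cases e2 : b = c
  · subst e2; exact h1
  have := mul_mem (mul_mem h1 h2) (inv_mem h1)
  rwa [← Equiv.swap_apply_apply, Equiv.swap_apply_right, Equiv.swap_apply_of_ne_of_ne (Ne.symm e1)
    (Ne.symm e2)] at this

theorem eq_top_of_star [DecidableEq ι] [Finite ι] {P : Subgroup (Equiv.Perm ι)} (a : ι)
    (h : ∀ k, k ≠ a → Equiv.swap a k ∈ P) : P = ⊤ := by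
  have h' : ∀ k, Equiv.swap a k ∈ P := fun k => by
    by_cases e : k = a
    · rw [e, Equiv.swap_self]; exact one_mem P
    · exact h k e
  rw [eq_top_iff, ← Equiv.Perm.closure_isSwap, closure_le]
  rintro _ ⟨x, y, -, rfl⟩
  exact swap_mem_of (Equiv.swap_comm a x ▸ h' x) (h' y)

theorem D4.inj {i j k l : ι} (h : D4 i j k l) : Function.Injective ![i, j, k, l] := by
  obtain ⟨a, b, c, d, e, f⟩ := h
  intro x y
  fin_cases x <;> fin_cases y <;> simp [*, Ne.symm]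

theorem D4.map {i j k l : ι} (h : D4 i j k l) {f : ι → κ} (hf : Function.Injective f) :
    D4 (f i) (f j) (f k) (f l) :=
  ⟨hf.ne h.1, hf.ne h.2.1, hf.ne h.2.2.1, hf.ne h.2.2.2.1, hf.ne h.2.2.2.2.1, hf.ne h.2.2.2.2.2⟩

theorem D4.symm {i j k l : ι} (h : D4 i j k l) : D4 k l i j :=
  ⟨h.2.2.2.2.2, h.2.1.symm, h.2.2.2.1.symm, h.2.2.1.symm, h.2.2.2.2.1.symm, h.1⟩

theorem exists_perm2 {i j i' j' : ι} (h : i ≠ j) (h' : i' ≠ j') :
    ∃ σ : Equiv.Perm ι, σ i = i' ∧ σ j = j' := by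
  have k : ∀ {a b : ι}, a ≠ b → Function.Injective ![a, b] := fun e x y => by
    fin_cases x <;> fin_cases y <;> simp [e, e.symm]
  obtain ⟨σ, hσ⟩ := Equiv.Perm.exists_extending_pair _ _ (k h) (k h')
  exact ⟨σ, hσ 0, hσ 1⟩

theorem exists_perm4 {i j k l i' j' k' l' : ι} (h : D4 i j k l) (h' : D4 i' j' k' l') :
    ∃ σ : Equiv.Perm ι, σ i = i' ∧ σ j = j' ∧ σ k = k' ∧ σ l = l' := by
  obtain ⟨σ, hσ⟩ := Equiv.Perm.exists_extending_pair _ _ h.inj h'.inj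
  exact ⟨σ, hσ 0, hσ 1, hσ 2, hσ 3⟩

/-- a new index. -/
theorem exists_new [Finite ι] (s : List ι) (h : s.length < Nat.card ι) : ∃ k, k ∉ s := by
  classical
  have := Fintype.ofFinite ι
  by_contra c
  push Not at c
  have := (Finset.card_le_card (s := Finset.univ) (t := s.toFinset) fun k _ => List.mem_toFinset.2 (c k)).trans
    s.toFinset_card_le
  rw [Finset.card_univ, ← Nat.card_eq_fintype_card] at this
  omega

theorem t_mem (i j : ι) : t i j ∈ AA t := subset_closure ⟨i, j, rfl⟩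

namespace Fm

variable (h : Fm t)
include h

theorem self (i : ι) : t i i = 1 := mul_left_cancel (a := t i i) (by rw [h.mul, mul_one])

theorem sq (i j : ι) : t i j * t i j = 1 := by rw [← h.self i, ← h.mul i j i, h.symm j]

theorem inv (i j : ι) : (t i j)⁻¹ = t i j := inv_eq_of_mul_eq_one_right (h.sq i j)

theorem comm (i j k l : ι) : Commute (t i j) (t k l) := by
  have c : ∀ i j k, Commute (t i j) (t j k) := fun i j k => by
    rw [Commute, SemiconjBy, h.mul, h.symm j k, h.symm i j, h.mul, h.symm]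
  rw [← h.mul k j l]
  exact (h.symm j k ▸ c i j k).mul_right (c i j l)

theorem ord {i j : ι} (e : i ≠ j) : orderOf (t i j) = 2 := orderOf_eq_prime (by rw [pow_two, h.sq]) (h.ne i j e)

theorem swap_comm [DecidableEq ι] {g : G} {i j : ι} (a : Ind t g (Equiv.swap i j)) : Commute g (t i j) :=
  comm_of_conj_eq (by rw [a, Equiv.swap_apply_left, Equiv.swap_apply_right, h.symm])

theorem AA_comm {x y : G} (hx : x ∈ AA t) (hy : y ∈ AA t) : Commute x y := by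
  have k : ∀ {x y : G}, (∀ i j, Commute (t i j) x) → y ∈ AA t → Commute y x := fun {x y} hx hy =>
    mem_Cz.1 ((closure_le (Cz x)).2 (by rintro _ ⟨i, j, rfl⟩; exact mem_Cz.2 (hx i j)) hy)
  exact k (fun i j => (k (fun k l => h.comm k l i j) hy).symm) hx

theorem AA_sq {x : G} (hx : x ∈ AA t) : x * x = 1 := by
  induction hx using closure_induction with
  | mem x hx => obtain ⟨i, j, rfl⟩ := hx; exact h.sq i j
  | one => exact one_mul 1
  | mul x y hx hy a b => rw [(h.AA_comm hx hy).symm.mul_mul_mul_comm, a, b, one_mul]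
  | inv x _ a => rw [← mul_inv_rev, a, inv_one]

theorem AA_pg : IsPGroup 2 (AA t) := fun x => ⟨1, Subtype.ext (by simpa [pow_two] using h.AA_sq x.2)⟩

theorem JJ_comm {a d : G} (hd : d ∈ JJ t a) : Commute d a := by
  obtain ⟨g, i, j, k, l, -, rfl, rfl⟩ := hd
  exact comm_conj (h.comm k l i j) g

theorem LL_le (a : G) : LL t a ≤ Cz a := (closure_le _).2 fun _ hd => mem_Cz.2 (h.JJ_comm hd)

end Fm

theorem mem_JJ {i j k l : ι} (h : D4 i j k l) : t k l ∈ JJ t (t i j) := ⟨1, i, j, k, l, h, by simp, by simp⟩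

theorem mem_LL {i j k l : ι} (h : D4 i j k l) : t k l ∈ LL t (t i j) := subset_closure (mem_JJ h)

theorem conj_mem_JJ {a d : G} (g : G) (h : d ∈ JJ t a) : g * d * g⁻¹ ∈ JJ t (g * a * g⁻¹) := by
  obtain ⟨x, i, j, k, l, h, rfl, rfl⟩ := h
  exact ⟨g * x, i, j, k, l, h, by group, by group⟩

theorem cj_LL (g a : G) : g •ᶜ LL t a = LL t (g * a * g⁻¹) := by
  rw [LL, cj_closure]
  congr 1
  ext x
  exact ⟨by rintro ⟨y, hy, rfl⟩; exact conj_mem_JJ g hy, fun hx =>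
    ⟨g⁻¹ * x * g, by simpa [mul_assoc] using conj_mem_JJ g⁻¹ hx, by simp [mul_assoc]⟩⟩

theorem conj_mem_LL {a x : G} (g : G) (h : x ∈ LL t a) : g * x * g⁻¹ ∈ LL t (g * a * g⁻¹) :=
  cj_LL (t := t) g a ▸ conj_mem_cj h

theorem Cz_le_normalizer_LL (a : G) : Cz a ≤ normalizer (LL t a : Set G) := fun g hg =>
  mem_normalizer_iff_cj.2 (by rw [cj_LL, conj_eq_of_comm (mem_Cz.1 hg)])

theorem KK_le (p : ℕ) (L : Subgroup G) (a : G) : KK p L a ≤ L ⊓ Cz a :=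
  (closure_le _).2 fun _ h => ⟨h.1, mem_Cz.2 h.2.1⟩

theorem map_ncl (f : G ≃* Γ) (L : Subgroup G) (a u : G) :
    (ncl L a u).map f.toMonoidHom = ncl (L.map f.toMonoidHom) (f a) (f u) := by
  rw [ncl, MonoidHom.map_closure, ncl]
  congr 1
  ext x
  constructor
  · rintro ⟨_, ⟨c, hc, k, rfl⟩, rfl⟩
    exact ⟨f c, ⟨c, hc, rfl⟩, k.map f, by simp⟩
  · rintro ⟨_, ⟨c, hc, rfl⟩, k, rfl⟩
    exact ⟨_, ⟨c, hc, (Commute.of_map f.injective k :), rfl⟩, by simp⟩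

theorem map_KK (f : G ≃* Γ) (p : ℕ) (L : Subgroup G) (a : G) :
    (KK p L a).map f.toMonoidHom = KK p (L.map f.toMonoidHom) (f a) := by
  rw [KK, MonoidHom.map_closure, KK]
  congr 1
  ext x
  obtain ⟨x, rfl⟩ := f.surjective x
  rw [Set.mem_setOf_eq, ← map_ncl, f.surjective.forall]
  refine (f.injective.mem_set_image).trans (and_congr (mem_map_iff_mem f.injective).symm
    (and_congr ⟨fun k => k.map f, fun k => Commute.of_map f.injective k⟩ (and_congr (exists_congr fun k => ?_)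
      (forall_congr' fun s => imp_congr (mem_map_iff_mem f.injective).symm ?_))))
  · rw [← map_pow, f.map_eq_one_iff]
  · rw [← map_mul, f.map_eq_one_iff, f.map_eq_one_iff, f.injective.eq_iff]

theorem cj_KK (p : ℕ) (g : G) (L : Subgroup G) (a : G) : g •ᶜ KK p L a = KK p (g •ᶜ L) (g * a * g⁻¹) :=
  map_KK (MulAut.conj g) p L a

theorem mem_normalizer_KK {p : ℕ} {g a : G} {L : Subgroup G} (h : g ∈ normalizer (L : Set G)) (c : Commute g a) :
    g ∈ normalizer (KK p L a : Set G) :=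
  mem_normalizer_iff_cj.2 (by rw [cj_KK, cj_eq_of_mem_normalizer h, conj_eq_of_comm c])

end CL.Lm
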