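import Cfsg.Agent.FUS.Lm.Bar2

/-! # The commuting graph on the involutions of weight 2

Graph on `{d | W2 t d}`: `d ∼ d'` if they commute; `E` = the equivalence relation generated (`Relation.EqvGen`, or `ReflTransGen`); it is invariant under conjugation.
All `t i j` (`i ≠ j`) are equivalent (`Fm.comm`) and conjugate (`Fm.perm`, `exists_perm2`).  `P = {g | E (g (t a b) g⁻¹) (t a b)}` is the stabiliser of the component `𝒞` of the
`t i j`; `g P ↦ g 𝒞 g⁻¹` identifies `G ⧸ P` with the components: `x • (g P) = g P ↔ g⁻¹ x g ∈ P`.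
(A) `d, d'` of weight 2 generating a 2-group are equivalent (`g1`).
(R) dihedral reduction: for involutions `u, v`, `|u v| = 2^s o`, `o = 2 i + 1`: `u' = (u v)^i u (u v)^(-i) = (u v)^(2 i) u`, `u' v = (u v)^o` has order `2^s`, `⟨u', v⟩` is a 2-group,
    and if `s > 0` the involution `j ∈ ⟨u' v⟩` commutes with `u` and `v`; if `s = 0`, `u' = v`.
(B) for `y = t i j * t k l` (`D4`): `C(y) ≤ P`.  Let `c ∈ C(y)`, `u = c (t i j) c⁻¹`, `v = t i m`, `m` a fifth index.  If `u v` has even order, (R) and `g3` give `j` or `j y` of weight 2,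
    commuting with `u, v`, so `E u v`.  If `u v` has odd order use `u y = c (t k l) c⁻¹ = (c w) (t i j) (c w)⁻¹`, `w` inducing `(i k)(j l)`, instead: `u y v = (u v) y` has even order.
    With `g4`: all elements of weight 2 commuting with `y` lie in `𝒞`.  By conjugation: for `y` of weight 4 all elements of weight 2 commuting with `y` are equivalent.
(F) an involution `r ∈ P` commutes with some `e ∈ 𝒞`: conjugate `t a b ∈ P` by an element of `P` to `d` in a Sylow 2-subgroup of `P` containing `r`; `d ∈ 𝒞`.  If `d r ≠ r d`, the involution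
    `j` among the powers of `d · r d r = (d r)²` commutes with `d` and `r`; by `g2` it has weight 2 (take `e = j`) or 4 (`g5` gives `e` commuting with `r, j`; `E e d` by (B)).
(U) so an involution `r` fixes exactly one component as soon as all elements of weight 2 commuting with `r` are equivalent and there is one.  True for weight 2 (all are `∼ r`),
    weight 4 ((B); `y ≠ 1` by `ne4`), and for `r, d, d'` of `g6`: for `e` of weight 2 commuting with `r`, if `e d` has even order then (R), `g2`, (B) give `E e d`; if `e d` and `e d'`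
    both had odd order, `d r ∼ e r ∼ d' r` would be conjugate in `C(r)`.
(M) for `M` as in `Gn`: every `t i j` is `M`-conjugate to `z = t a b` (`C(z) ≤ M` induces the permutations fixing `a, b` or swapping them); by induction every `d ∈ 𝒞` is `m z m⁻¹`, `m ∈ M`
    (`g4` with `y = z`); so `g ∈ P` gives `m⁻¹ g ∈ C(z)`. -/

set_option autoImplicit false

namespace CL.Lm

open Subgroup Cfsg CL.MSS
open CL.L5 (Cz mem_Cz comm_conj comm_of_conj conj_mul_conj conj_eq_of_comm comm_of_conj_eq isConj_of_eq)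

namespace G1

variable {G : Type*} [Group G] {ι : Type*} {t : ι → ι → G}

theorem inv_u {u v : G} (hu : u * u = 1) (hv : v * v = 1) (k : ℕ) : u * (u * v) ^ k * u⁻¹ = ((u * v) ^ k)⁻¹ := by
  rw [← conj_pow, ← inv_pow, mul_inv_rev, inv_eq_of_mul_eq_one_right hu, inv_eq_of_mul_eq_one_right hv, ← mul_assoc, hu,
    one_mul]

theorem inv_v {u v : G} (hu : u * u = 1) (hv : v * v = 1) (k : ℕ) : v * (u * v) ^ k * v⁻¹ = ((u * v) ^ k)⁻¹ := by
  rw [← conj_pow, ← inv_pow, mul_inv_rev, inv_eq_of_mul_eq_one_right hu, inv_eq_of_mul_eq_one_right hv, mul_assoc,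
    mul_assoc, hv, mul_one]

theorem comm_j {u v : G} (hu : u * u = 1) (hv : v * v = 1) {k : ℕ} (h : (u * v) ^ k * (u * v) ^ k = 1) :
    Commute ((u * v) ^ k) u ∧ Commute ((u * v) ^ k) v :=
  ⟨(comm_of_conj_eq (by rw [inv_u hu hv, inv_eq_of_mul_eq_one_right h])).symm,
    (comm_of_conj_eq (by rw [inv_v hu hv, inv_eq_of_mul_eq_one_right h])).symm⟩

theorem pg2 {x : G} (h : x * x = 1) : IsPGroup 2 (zpowers x) := isPGroup_zpowers (k := 1) (by rw [pow_one, pow_two, h])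

theorem ord2 {x : G} (h1 : x ≠ 1) (h : x * x = 1) : orderOf x = 2 :=
  haveI : Fact (Nat.Prime 2) := ⟨Nat.prime_two⟩; orderOf_eq_prime (by rw [pow_two, h]) h1

theorem pg_cen [Finite G] {P : Subgroup G} (hP : IsPGroup 2 P) {y : G} (h : y * y = 1) (c : P ≤ Cz y) :
    IsPGroup 2 (P ⊔ zpowers y : Subgroup G) :=
  haveI : Fact (Nat.Prime 2) := ⟨Nat.prime_two⟩
  IsPGroup.to_sup_of_normal_left' hP (pg2 h) (zpowers_le.2 (centralizer_le_normalizer _ fun _ hx => (mem_Cz.1 (c hx)).eq))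

/-- the dihedral reduction. -/
theorem red [Finite G] {u v : G} (hu : u * u = 1) (hv : v * v = 1) : ∃ w : G, (∀ y, Commute u y → Commute v y → Commute w y) ∧
    IsPGroup 2 (closure {w * u * w⁻¹, v} : Subgroup G) ∧ (w * u * w⁻¹ = v ∨ ∃ n : ℕ, orderOf ((w * u * w⁻¹ * v) ^ n) = 2 ∧
      Commute ((w * u * w⁻¹ * v) ^ n) u ∧ Commute ((w * u * w⁻¹ * v) ^ n) v) := by
  have : Fact (Nat.Prime 2) := ⟨Nat.prime_two⟩
  obtain ⟨_, k, ⟨i, rfl⟩, e⟩ := CL.Four.exists_odd_pow (u * v)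
  have k3 : (u * v) ^ i * u * ((u * v) ^ i)⁻¹ * v = (u * v) ^ (2 * i + 1) := by
    rw [← inv_u hu hv, pow_succ, two_mul, pow_add, inv_eq_of_mul_eq_one_right hu]
    simp only [← mul_assoc]
    rw [mul_assoc _ u u, hu, mul_one]
  refine ⟨(u * v) ^ i, fun y a b => (a.mul_left b).pow_left i, ?_, ?_⟩
  · refine (IsPGroup.to_sup_of_normal_left' (isPGroup_zpowers e) (pg2 hv) (zpowers_le.2 (mem_normalizer_fintype ?_))).to_le
      ((closure_le _).2 ?_)
    · rintro _ ⟨n, rfl⟩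
      exact ⟨-n, by simp only [← conj_zpow, inv_v hu hv, zpow_neg, inv_zpow]⟩
    · rintro _ (rfl | rfl)
      · have := mul_mem_sup (mem_zpowers ((u * v) ^ (2 * i + 1))) (mem_zpowers v)
        rw [show (u * v) ^ i * u * ((u * v) ^ i)⁻¹ = (u * v) ^ (2 * i + 1) * v by rw [← k3, mul_assoc _ v v, hv, mul_one]]
        exact this
      · exact mem_sup_right (mem_zpowers _)
  · by_cases c : (u * v) ^ (2 * i + 1) = 1
    · exact .inl ((eq_inv_of_mul_eq_one_left (k3.trans c)).trans (inv_eq_of_mul_eq_one_right hv))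
    · obtain ⟨n, h1, h2⟩ := exists_pow_inv c e
      rw [k3]
      exact .inr ⟨n, ord2 h1 h2, by rw [← pow_mul] at h2 ⊢; exact comm_j hu hv h2⟩

theorem w_conj {x : G} (h : W2 t x) (g : G) : W2 t (g * x * g⁻¹) :=
  let ⟨i, j, e, c⟩ := h; ⟨i, j, e, c.trans (isConj_of_eq rfl)⟩

theorem w_t {i j : ι} (e : i ≠ j) : W2 t (t i j) := ⟨i, j, e, IsConj.refl _⟩

/-- the components of the commuting graph. -/
def E (t : ι → ι → G) : G → G → Prop := Relation.ReflTransGen fun x y => W2 t x ∧ W2 t y ∧ Commute x y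

theorem E.symm {x y : G} (h : E t x y) : E t y x := by
  induction h with
  | refl => exact .refl
  | tail _ k ih => exact .head ⟨k.2.1, k.1, k.2.2.symm⟩ ih

theorem E.conj {x y : G} (h : E t x y) (g : G) : E t (g * x * g⁻¹) (g * y * g⁻¹) := by
  induction h with
  | refl => exact .refl
  | tail _ k ih => exact .tail ih ⟨w_conj k.1 g, w_conj k.2.1 g, comm_conj k.2.2 g⟩

theorem E.one {x y : G} (a : W2 t x) (b : W2 t y) (c : Commute x y) : E t x y := .single ⟨a, b, c⟩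

theorem E.two {x y j : G} (a : W2 t x) (b : W2 t y) (c : W2 t j) (d : Commute j x) (e : Commute j y) : E t x y :=
  .trans (E.one a c d.symm) (E.one c b e)

/-- the stabiliser of a component. -/
def PP (t : ι → ι → G) (z : G) : Subgroup G where
  carrier := {g | E t (g * z * g⁻¹) z}
  one_mem' := by simpa using .refl
  mul_mem' {g h} a b := .trans (show E t _ _ by simpa only [mul_assoc, mul_inv_rev] using E.conj b g) a
  inv_mem' {g} a := E.symm (by simpa [mul_assoc] using E.conj a g⁻¹)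

theorem memP {z d g : G} (h : E t d z) : g ∈ PP t z ↔ E t (g * d * g⁻¹) z :=
  ⟨fun k => .trans (h.conj g) k, fun k => .trans (h.conj g).symm k⟩

variable (h : Fm t)
include h

theorem w_sq {x : G} (w : W2 t x) : x * x = 1 := by
  obtain ⟨i, j, -, c⟩ := w
  obtain ⟨g, rfl⟩ := isConj_iff.1 c
  rw [conj_mul_conj, h.sq, mul_one, mul_inv_cancel]

theorem w_ne : ¬ W2 t 1 := fun ⟨i, j, e, c⟩ => h.ne i j e (isConj_one_left.1 c)

theorem w_rep {x : G} (w : W2 t x) {a b : ι} (e : a ≠ b) : ∃ g, g * t a b * g⁻¹ = x := by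
  obtain ⟨i, j, e', c⟩ := w
  obtain ⟨σ, rfl, rfl⟩ := exists_perm2 e e'
  obtain ⟨g, hg⟩ := h.perm σ
  exact isConj_iff.1 ((isConj_of_eq (hg a b)).trans c)

theorem tE {i j a b : ι} (e : i ≠ j) (e' : a ≠ b) : E t (t i j) (t a b) := E.one (w_t e) (w_t e') (h.comm _ _ _ _)

variable [Finite G] [Finite ι] (m : Mg t) (h5 : 5 ≤ Nat.card ι)
include m h5

theorem B0 {i j k l : ι} (D : D4 i j k l) {c : G} (hc : Commute c (t i j * t k l)) : E t (c * t i j * c⁻¹) (t i j) := by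
  obtain ⟨n, hn⟩ := exists_new [i, j, k, l] (by simp; omega)
  simp only [List.mem_cons, List.not_mem_nil, or_false, not_or] at hn
  have ct : ∀ a b, Commute (t a b) (t i j * t k l) := fun a b => (h.comm _ _ _ _).mul_right (h.comm _ _ _ _)
  have y2 := h.AA_sq (mul_mem (t_mem i j) (t_mem k l))
  have wu := w_conj (w_t (t := t) D.1) c
  have wv := w_t (t := t) (Ne.symm hn.1)
  have cu : Commute (c * t i j * c⁻¹) (t i j * t k l) := (hc.mul_left (ct i j)).mul_left hc.inv_left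
  refine .trans ?_ (tE h (Ne.symm hn.1) D.1)
  obtain ⟨w, h1, h2, h3⟩ := red (w_sq h wu) (h.sq i n)
  have cw := h1 _ cu (ct i n)
  have pg : ∀ u, Commute u (t i j * t k l) → IsPGroup 2 (closure {u, t i n} : Subgroup G) →
      IsPGroup 2 (closure {u, t i n, t i j * t k l} : Subgroup G) := fun u a b =>
    (pg_cen b y2 ((closure_le _).2 (by rintro _ (rfl | rfl); exacts [mem_Cz.2 a, mem_Cz.2 (ct i n)]))).to_le
      ((closure_le _).2 (by
        rintro _ (rfl | rfl | rfl)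
        exacts [mem_sup_left (subset_closure (.inl rfl)), mem_sup_left (subset_closure (.inr rfl)),
          mem_sup_right (mem_zpowers _)]))
  rcases h3 with e | ⟨r, o, c1, c2⟩
  · obtain ⟨σ, s1, s2, s3, s4⟩ := exists_perm4 D D.symm
    obtain ⟨g, hg⟩ := h.perm σ
    have cg : Commute g (t i j * t k l) := comm_of_conj_eq (by rw [← conj_mul_conj, hg, hg, s1, s2, s3, s4, h.comm])
    have e1 : t i n * (t i j * t k l) = w * c * g * t i j * (w * c * g)⁻¹ := by
      rw [← e, ← conj_eq_of_comm (cw.mul_left hc), show w * c * g * t i j * (w * c * g)⁻¹ =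
        w * c * (g * t i j * g⁻¹) * (w * c)⁻¹ by group, hg, s1, s2, show w * (c * t i j * c⁻¹) * w⁻¹ =
        w * c * t i j * (w * c)⁻¹ by group, conj_mul_conj, ← mul_assoc (t i j), h.sq, one_mul]
    have e2 : t i n * (t i j * t k l) * t i n = t i j * t k l := by rw [(ct i n).eq, mul_assoc, h.sq, mul_one]
    have := m.g3 i j k l n D hn.1 hn.2.1 hn.2.2.1 hn.2.2.2 _ 1 _ (t i n) ((cw.mul_left hc).mul_left cg) (.one_left _) e1
      (by simp) (pg _ ((ct i n).mul_left (.refl _)) (h.AA_pg.to_le ((closure_le _).2 (by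
        rintro _ (rfl | rfl)
        exacts [mul_mem (t_mem _ _) (mul_mem (t_mem _ _) (t_mem _ _)), t_mem _ _])))) 1 (by
        rw [pow_one, e2]
        exact ord2 (fun e => h.ne4 i j k l D ((eq_inv_of_mul_eq_one_left e).trans (h.inv k l))) y2)
    rw [pow_one, e2, y2] at this
    exact E.two wu wv (this.resolve_right (w_ne h)) cu.symm (ct i n).symm
  · rcases m.g3 i j k l n D hn.1 hn.2.1 hn.2.2.1 hn.2.2.2 (w * c) 1 _ (t i n) (cw.mul_left hc) (.one_left _) (by group)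
      (by simp) (pg _ ((cw.mul_left cu).mul_left cw.inv_left) h2) r o with k | k
    exacts [E.two wu wv k c1 c2, E.two wu wv k (c1.mul_left cu.symm) (c2.mul_left (ct i n).symm)]

theorem B {y e e' : G} (hy : W4 t y) (a : W2 t e) (b : W2 t e') (c : Commute e y) (d : Commute e' y) : E t e e' := by
  obtain ⟨i, j, k, l, D, c⟩ := hy
  obtain ⟨g, rfl⟩ := isConj_iff.1 c
  have key : ∀ e, W2 t e → Commute e (g * (t i j * t k l) * g⁻¹) → E t e (g * t i j * g⁻¹) := fun e a c => by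
    obtain ⟨x, hx, r, s, e1⟩ := m.g4 _ (mul_mem (t_mem i j) (t_mem k l)) _ (w_conj a g⁻¹)
      (by simpa [mul_assoc] using comm_conj c g⁻¹)
    have n : r ≠ s := fun e2 => w_ne h (by subst e2; rw [← h.self r, ← e1]; exact w_conj (w_conj a _) _)
    have := (memP (tE h n D.1)).1 (B0 h m h5 D hx.inv_left : x⁻¹ ∈ PP t (t i j))
    rw [← e1] at this
    simpa [mul_assoc] using this.conj g
  exact .trans (key e a ‹_›) (key e' b d).symm

theorem J {d d' e e' : G} (a : W2 t d) (b : W2 t d') (pg : IsPGroup 2 (closure {d, d'} : Subgroup G)) {n : ℕ}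
    (o : orderOf ((d * d') ^ n) = 2) (a' : W2 t e) (b' : W2 t e') (c1 : Commute ((d * d') ^ n) e)
    (c2 : Commute ((d * d') ^ n) e') : E t e e' :=
  (m.g2 d d' a b pg n o).elim (fun k => E.two a' b' k c1 c2) fun k => B h m h5 k a' b' c1.symm c2.symm

theorem F {z r : G} (wz : W2 t z) (r2 : r * r = 1) (hr : r ∈ PP t z) : ∃ e, W2 t e ∧ E t e z ∧ Commute e r := by
  have : Fact (Nat.Prime 2) := ⟨Nat.prime_two⟩
  obtain ⟨Q, hQ, le⟩ := exists_sylIn_ge (pg2 r2) (zpowers_le.2 hr)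
  obtain ⟨x, hx, l⟩ := hQ.exists_conj_le (pg2 (w_sq h wz)) (zpowers_le.2 (show E t (z * z * z⁻¹) z by simpa using .refl))
  have m1 := l (conj_mem_cj (mem_zpowers z))
  have m2 := le (mem_zpowers r)
  have wd := w_conj wz x
  change E t _ _ at hx
  clear l
  generalize x * z * x⁻¹ = d at m1 wd hx
  have d2 := w_sq h wd
  have m3 : r * d * r⁻¹ ∈ Q := mul_mem (mul_mem m2 m1) (inv_mem m2)
  by_cases c : d * (r * d * r⁻¹) = 1
  · exact ⟨d, wd, hx, (comm_of_conj_eq ((eq_inv_of_mul_eq_one_right c).trans (inv_eq_of_mul_eq_one_right d2))).symm⟩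
  obtain ⟨k, hk⟩ := hQ.pgroup ⟨_, mul_mem m1 m3⟩
  obtain ⟨n, h1, h2⟩ := exists_pow_inv c (congrArg Subtype.val hk :)
  have e : (d * (r * d * r⁻¹)) ^ n = (d * r) ^ (2 * n) := by
    rw [pow_mul, pow_two, inv_eq_of_mul_eq_one_right r2, mul_assoc, mul_assoc]
  obtain ⟨c1, c2⟩ := comm_j d2 r2 (e ▸ h2)
  rw [← e] at c1 c2
  rcases m.g2 _ _ wd (w_conj wd r) (hQ.pgroup.to_le ((closure_le _).2 (by rintro _ (rfl | rfl); exacts [m1, m3]))) n
    (ord2 h1 h2) with k | k
  · exact ⟨_, k, .trans (E.one k wd c1) hx, c2⟩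
  · obtain ⟨e, a, b, c⟩ := m.g5 _ r k r2 c2.symm
    exact ⟨e, a, .trans (B h m h5 k a wd c c1.symm) hx, b⟩

theorem U {a b : ι} (ab : a ≠ b) {x : G} (x2 : x * x = 1) {e : G} (we : W2 t e) (ce : Commute e x)
    (u : ∀ e', W2 t e' → Commute e' x → E t e' e) : ∃! ω : G ⧸ PP t (t a b), x • ω = ω := by
  obtain ⟨g, rfl⟩ := w_rep h we ab
  have k : ∀ g : G, x • (g : G ⧸ PP t (t a b)) = g ↔ g⁻¹ * x * g⁻¹⁻¹ ∈ PP t (t a b) := fun g => by
    rw [MulAction.Quotient.smul_coe, eq_comm, QuotientGroup.eq, smul_eq_mul, inv_inv, mul_assoc]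
  refine ⟨g, (k g).2 ?_, fun ω hω => ?_⟩
  · change E t _ _
    rw [conj_eq_of_comm (by simpa [mul_assoc] using comm_conj ce.symm g⁻¹)]
    exact .refl
  · obtain ⟨y, rfl⟩ := QuotientGroup.mk_surjective ω
    obtain ⟨e, a1, a2, a3⟩ := F h m h5 (w_t ab) (by rw [conj_mul_conj, x2, mul_one, mul_inv_cancel]) ((k y).1 hω)
    have := (u _ (w_conj a1 y) (by simpa [mul_assoc] using comm_conj a3 y)).conj g⁻¹
    exact (QuotientGroup.eq.2 ((memP a2).2 (by simpa [mul_assoc] using this))).symm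

end G1

open G1

/-- see the header. -/
theorem exists_P {G : Type*} [Group G] [Finite G] {ι : Type*} [Finite ι] {t : ι → ι → G} (h : Fm t) (m : Mg t)
    (h5 : 5 ≤ Nat.card ι) : ∃ P : Subgroup G,
      (∀ a b c d, D4 a b c d → ∀ M : Subgroup G, Cz (t a b) ≤ M → (∃ g ∈ M, g * t a b * g⁻¹ = t c d) →
        (∃ g ∈ M, g * t a b * g⁻¹ = t b c) → P ≤ M) ∧ (∀ g σ, Ind t g σ → g ∈ P) ∧
      (∀ x, W2 t x ∨ W4 t x → ∃! ω : G ⧸ P, x • ω = ω) ∧ ∃ r : G, IsTwoCentralInvolution r ∧ ∃! ω : G ⧸ P, r • ω = ω := by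
  classical
  obtain ⟨a₀, b₀, n₀⟩ := (Finite.one_lt_card_iff_nontrivial.1 (h5.trans_lt' (by norm_num))).exists_pair_ne
  refine ⟨PP t (t a₀ b₀), fun a b c d D M hM ⟨g₁, m₁, e₁⟩ ⟨g₂, m₂, e₂⟩ g hg => ?_, fun g σ hg => ?_, ?_, ?_⟩
  · have tr : ∀ {i j k l : ι} (σ : Equiv.Perm ι), (σ a = a ∧ σ b = b) ∨ (σ a = b ∧ σ b = a) → σ i = k → σ j = l →
        (∃ g ∈ M, g * t a b * g⁻¹ = t i j) → ∃ g ∈ M, g * t a b * g⁻¹ = t k l := by
      rintro i j _ _ σ e rfl rfl ⟨g, hg, e1⟩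
      obtain ⟨w, hw⟩ := h.perm σ
      refine ⟨w * g, mul_mem (hM (mem_Cz.2 (comm_of_conj_eq ?_))) hg, by rw [← hw, ← e1]; group⟩
      rcases e with ⟨e2, e3⟩ | ⟨e2, e3⟩ <;> rw [hw, e2, e3]
      exact h.symm _ _
    have k1 : ∀ j, j ≠ a → j ≠ b → ∃ g ∈ M, g * t a b * g⁻¹ = t b j := fun j h1 h2 =>
      tr (Equiv.swap c j) (.inl ⟨Equiv.swap_apply_of_ne_of_ne D.2.1 h1.symm, Equiv.swap_apply_of_ne_of_ne D.2.2.2.1 h2.symm⟩)
        (Equiv.swap_apply_of_ne_of_ne D.2.2.2.1 h2.symm) (Equiv.swap_apply_left _ _) ⟨g₂, m₂, e₂⟩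
    have k2 : ∀ i j, i = a ∨ i = b → i ≠ j → ∃ g ∈ M, g * t a b * g⁻¹ = t i j := by
      rintro i j (rfl | rfl) n
      · by_cases e : j = b
        · exact ⟨1, one_mem _, by simp [e]⟩
        · exact tr (Equiv.swap i b) (.inr ⟨Equiv.swap_apply_left _ _, Equiv.swap_apply_right _ _⟩) (Equiv.swap_apply_right _ _)
            (Equiv.swap_apply_of_ne_of_ne n.symm e) (k1 j n.symm e)
      · by_cases e : j = a
        · exact ⟨1, one_mem _, by simp [e, h.symm i]⟩
        · exact k1 j e n.symm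
    have k3 : ∀ i j, i ≠ j → ∃ g ∈ M, g * t a b * g⁻¹ = t i j := fun i j n => by
      by_cases e : i = a ∨ i = b
      · exact k2 i j e n
      by_cases e' : j = a ∨ j = b
      · exact h.symm j i ▸ k2 j i e' n.symm
      push Not at e e'
      obtain ⟨σ, s1, s2, s3, s4⟩ := exists_perm4 D ⟨D.1, e.1.symm, e'.1.symm, e.2.symm, e'.2.symm, n⟩
      exact tr σ (.inl ⟨s1, s2⟩) s3 s4 ⟨g₁, m₁, e₁⟩
    have k4 : ∀ x, E t (t a b) x → ∃ g ∈ M, g * t a b * g⁻¹ = x := fun x hx => by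
      induction hx with
      | refl => exact ⟨1, one_mem _, by simp⟩
      | @tail x y _ k ih =>
        obtain ⟨g, hg, rfl⟩ := ih
        obtain ⟨c, hc, i, j, e⟩ := m.g4 _ (t_mem a b) _ (w_conj k.2.1 g⁻¹) (by simpa [mul_assoc] using comm_conj k.2.2.symm g⁻¹)
        obtain ⟨w, hw, e1⟩ := k3 i j fun e2 =>
          w_ne h (by subst e2; rw [← h.self i, ← e]; exact w_conj (w_conj k.2.1 _) _)
        refine ⟨g * c⁻¹ * w, mul_mem (mul_mem hg (inv_mem (hM (mem_Cz.2 hc)))) hw, ?_⟩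
        rw [show g * c⁻¹ * w * t a b * (g * c⁻¹ * w)⁻¹ = g * c⁻¹ * (w * t a b * w⁻¹) * (g * c⁻¹)⁻¹ by group, e1, ← e]
        group
    obtain ⟨w, hw, e⟩ := k4 _ (E.symm (.trans ((memP (tE h D.1 n₀)).1 hg) (tE h n₀ D.1)))
    have : w⁻¹ * g ∈ M := hM (mem_Cz.2 (comm_of_conj_eq (by
      rw [show w⁻¹ * g * t a b * (w⁻¹ * g)⁻¹ = w⁻¹ * (g * t a b * g⁻¹) * w by group, ← e]; group)))
    simpa using mul_mem hw this
  · exact show E t _ _ from hg a₀ b₀ ▸ tE h (σ.injective.ne n₀) n₀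
  · rintro x (w | w)
    · exact U h m h5 n₀ (w_sq h w) w (.refl _) fun e a b => E.one a w b
    · have w' := w
      obtain ⟨i, j, k, l, D, c⟩ := w'
      obtain ⟨g, rfl⟩ := isConj_iff.1 c
      have c := comm_conj ((Commute.refl _).mul_right (h.comm i j k l)) g
      exact U h m h5 n₀ (by rw [conj_mul_conj, h.AA_sq (mul_mem (t_mem _ _) (t_mem _ _)), mul_one, mul_inv_cancel])
        (w_conj (w_t D.1) g) c fun e a b => B h m h5 w a (w_conj (w_t D.1) g) b c
  · obtain ⟨r, d, d', hr, a, b, c1, c2, c3, nc⟩ := m.g6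
    refine ⟨r, hr, U h m h5 n₀ (by rw [← pow_two, ← hr.1, pow_orderOf_eq_one]) a c1 fun e we ce => ?_⟩
    have key : ∀ d, W2 t d → Commute d r → E t e d ∨ IsConj (e * r) (d * r) := fun d a c => by
      obtain ⟨w, h1, h2, h3 | ⟨n, o, c1, c2⟩⟩ := red (w_sq h we) (w_sq h a)
      · exact .inr (isConj_of_eq (g := w) (by rw [← conj_mul_conj, h3, conj_eq_of_comm (h1 r ce c)]))
      · exact .inl (J h m h5 (w_conj we w) a h2 o we a c1 c2)
    rcases key d a c1 with k | k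
    · exact k
    rcases key d' b c2 with k' | k'
    exacts [.trans k' (E.one b a c3.symm), absurd (k.symm.trans k') nc]

end CL.Lm
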