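import Cfsg.Agent.FUS.Lm.Co
import Cfsg.Agent.FUS.Lm.Gen1

/-! # Transfer of frames and of `Mg` along `Sim` -/

set_option autoImplicit false

namespace CL.Lm

open Subgroup Cfsg CL.Ln G1
open CL.L5 (Cz mem_Cz conj_eq_of_comm comm_of_conj_eq)

variable {T G H : Type*} [Group T] [Group G] [Group H] [Finite G] [Finite H] {f : T →* G} {f' : T →* H} {ι : Type*}

theorem Fm.sim (S : Sim f f') {s : ι → ι → T} (h : Fm fun i j => f' (s i j)) : Fm fun i j => f (s i j) where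
  mul i j k := by rw [← map_mul, S.2.1.1 ((map_mul ..).trans (h.mul i j k))]
  symm i j := by rw [S.2.1.1 (h.symm i j)]
  perm σ := let ⟨g, k⟩ := h.perm σ
    ((co_self f' f fun p : ι × ι => s p.1 p.2).fu S.symm (co_self f' f fun p => s (σ p.1) (σ p.2))
      ⟨g, fun p => (k p.1 p.2).symm⟩).imp fun _ e i j => (e (i, j)).symm
  ne i j e n := h.ne i j e (by rw [(map_eq_one_iff f S.1.1).1 n, map_one])
  ne4 i j k l D n := h.ne4 i j k l D (congrArg f' (S.1.1 n))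

namespace GT

variable {α β : Type*} {x : α → G} {y : α → H} {s : ι → ι → T}

omit [Finite G] [Finite H] in
theorem w2 (S : Sim f f') (c : Co f f' x y) (a : α) :
    W2 (fun i j => f (s i j)) (x a) ↔ W2 (fun i j => f' (s i j)) (y a) :=
  exists₂_congr fun i j => and_congr_right' ((co_self f f' fun _ => s i j).isConj S c a a)

omit [Finite G] [Finite H] in
theorem w4 (S : Sim f f') (c : Co f f' x y) (a : α) :
    W4 (fun i j => f (s i j)) (x a) ↔ W4 (fun i j => f' (s i j)) (y a) :=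
  exists₄_congr fun i j k l => and_congr_right' (by
    simpa only [map_mul] using (co_self f f' fun _ => s i j * s k l).isConj S c a a)

omit [Finite G] [Finite H] in
theorem fu2 (S : Sim f f') (c : Co f f' x y) {x' : β → G} {y' : β → H} (c' : Co f f' x' y') {a b : α} {a' b' : β}
    {g : G} (e1 : x' a' = g * x a * g⁻¹) (e2 : x' b' = g * x b * g⁻¹) :
    ∃ h, y' a' = h * y a * h⁻¹ ∧ y' b' = h * y b * h⁻¹ :=
  ((c.comp fun t : Bool => cond t a b).fu S (c'.comp fun t : Bool => cond t a' b')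
    ⟨g, fun | true => e1 | false => e2⟩).imp fun _ k => ⟨k true, k false⟩

omit [Finite G] [Finite H] in
theorem pgc {P : Subgroup G} (hP : IsPGroup 2 P) (ψ : P →* H) {A : Set H} (h : A ⊆ Set.range ψ) :
    IsPGroup 2 (closure A) :=
  (hP.of_surjective _ ψ.rangeRestrict_surjective).to_le ((closure_le _).2 h)

omit [Finite G] [Finite H] in
theorem ordc {P : Subgroup G} {ψ : P →* H} (i : Function.Injective ψ) (u : P) : orderOf (ψ u) = orderOf (u : G) := by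
  rw [orderOf_injective _ i, orderOf_coe]

omit [Finite G] [Finite H] in
theorem cmap {P : Subgroup G} (ψ : P →* H) (u v : P) (c : Commute (u : G) v) : Commute (ψ u) (ψ v) :=
  Commute.map (Subtype.ext c : Commute u v) ψ

omit [Finite G] in
theorem back (S : Sim f f') {P : Subgroup G} (hP : IsPGroup 2 P) {ψ : P →* H} (c : Co f f' (fun u : P => (u : G)) ψ)
    (u v : P) {x' : H} (x2 : x' * x' = 1) (c1 : Commute x' (ψ u)) (c2 : Commute x' (ψ v)) :
    ∃ x, Co f f' (fun _ : Unit => x) (fun _ => x') ∧ Commute x u ∧ Commute x v := by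
  obtain ⟨χ, -, e, k⟩ := (c.symm.comp fun t : Bool => cond t u v).ext S.symm (closure {ψ u, ψ v} ⊔ zpowers x')
    (pg_cen (pgc hP ψ (by rintro _ (rfl | rfl) <;> exact ⟨_, rfl⟩)) x2 ((closure_le _).2 (by
      rintro _ (rfl | rfl)
      exacts [mem_Cz.2 c1.symm, mem_Cz.2 c2.symm])))
    fun | true => mem_sup_left (subset_closure (.inl rfl)) | false => mem_sup_left (subset_closure (.inr rfl))
  refine ⟨χ ⟨x', mem_sup_right (mem_zpowers _)⟩, (k.comp fun _ => ⟨x', _⟩).symm, ?_, ?_⟩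
  · exact (e true : _ = (u : G)) ▸ cmap χ _ _ c1
  · exact (e false : _ = (v : G)) ▸ cmap χ _ _ c2

omit [Finite G] in
theorem mp (φ : T →* G) : AA (fun i j => φ (s i j)) = (AA s).map φ := by
  rw [AA, AA, MonoidHom.map_closure]
  congr 1
  ext x
  exact ⟨fun ⟨i, j, e⟩ => ⟨_, ⟨i, j, rfl⟩, e.symm⟩, by rintro ⟨_, ⟨i, j, rfl⟩, rfl⟩; exact ⟨i, j, rfl⟩⟩

end GT

open GT in
theorem Mg.sim (S : Sim f f') {s : ι → ι → T} (h : Fm fun i j => f' (s i j)) (m : Mg fun i j => f' (s i j)) :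
    Mg fun i j => f (s i j) where
  g1 d d' w w' hP := by
    obtain ⟨ψ, -, c⟩ := exists_co S _ hP
    let u : closure {d, d'} := ⟨d, subset_closure (.inl rfl)⟩
    let v : closure {d, d'} := ⟨d', subset_closure (.inr rfl)⟩
    obtain ⟨x', w, c1, c2⟩ := m.g1 _ _ ((w2 S c u).1 w) ((w2 S c v).1 w')
      (pgc hP ψ (by rintro _ (rfl | rfl) <;> exact ⟨_, rfl⟩))
    obtain ⟨x, k, e⟩ := back S hP c u v (w_sq h w) c1 c2
    exact ⟨x, (w2 S k ()).2 w, e⟩
  g2 d d' w w' hP k o := by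
    obtain ⟨ψ, i, c⟩ := exists_co S _ hP
    let u : closure {d, d'} := ⟨d, subset_closure (.inl rfl)⟩
    let v : closure {d, d'} := ⟨d', subset_closure (.inr rfl)⟩
    have := m.g2 _ _ ((w2 S c u).1 w) ((w2 S c v).1 w') (pgc hP ψ (by rintro _ (rfl | rfl) <;> exact ⟨_, rfl⟩)) k
    rw [← map_mul, ← map_pow] at this
    exact (this ((ordc i _).trans o)).imp (w2 S c _).2 (w4 S c _).2
  g3 i j k l n D n1 n2 n3 n4 a b u v ha hb e1 e2 hP q o := by
    have := m.g3 i j k l n D n1 n2 n3 n4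
    rw [← map_mul] at this ha hb hP ⊢
    generalize s i j * s k l = Y at this ha hb hP ⊢
    have hY : f Y ∈ closure {u, v, f Y} := subset_closure (.inr (.inr rfl))
    obtain ⟨ψ, i', e, c⟩ := (co_self f f' fun _ : Unit => Y).ext S _ hP fun _ => hY
    let U : closure {u, v, f Y} := ⟨u, subset_closure (.inl rfl)⟩
    let V : closure {u, v, f Y} := ⟨v, subset_closure (.inr (.inl rfl))⟩
    obtain ⟨a', a1, a2⟩ := fu2 S (co_self f f' id) c (a' := U) (b' := ⟨_, hY⟩) e1 (conj_eq_of_comm ha).symm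
    obtain ⟨b', b1, b2⟩ := fu2 S (co_self f f' id) c (a' := V) (b' := ⟨_, hY⟩) e2 (conj_eq_of_comm hb).symm
    rw [e ()] at a2 b2
    have := this a' b' _ _ (comm_of_conj_eq a2.symm) (comm_of_conj_eq b2.symm) a1 b1
      (pgc hP ψ (by rintro _ (rfl | rfl | rfl); exacts [⟨_, rfl⟩, ⟨_, rfl⟩, ⟨_, e ()⟩])) q
    rw [← e (), ← map_mul, ← map_pow, ← map_mul] at this
    exact (this ((ordc i' _).trans o)).imp (w2 S c _).2 (w2 S c _).2
  g4 y hy d w cm := by
    have hP := pg_cen (pg2 (w_sq (h.sim S) w)) ((h.sim S).AA_sq hy) (zpowers_le.2 (mem_Cz.2 cm))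
    obtain ⟨Y, hY, rfl⟩ := (mp f).le hy
    obtain ⟨ψ, -, e, c⟩ := (co_self f f' fun _ : Unit => Y).ext S _ hP fun _ => mem_sup_right (mem_zpowers _)
    let u : ↥(zpowers d ⊔ zpowers (f Y)) := ⟨d, mem_sup_left (mem_zpowers _)⟩
    let v : ↥(zpowers d ⊔ zpowers (f Y)) := ⟨f Y, mem_sup_right (mem_zpowers _)⟩
    obtain ⟨a, a1, i, j, a2⟩ := m.g4 _ ((mp f').ge ⟨Y, hY, rfl⟩) _ ((w2 S c u).1 w) (e () ▸ cmap ψ u v cm)
    obtain ⟨b, b1, b2⟩ := fu2 S.symm c.symm (co_self f' f id) (a := u) (b := v) (a' := s i j) (b' := Y) a2.symm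
      (by rw [e (), conj_eq_of_comm a1]; rfl)
    exact ⟨b, comm_of_conj_eq b2.symm, i, j, b1.symm⟩
  g5 y r w r2 cm := by
    have y2 : y * y = 1 := by
      obtain ⟨i, j, k, l, -, e⟩ := w
      obtain ⟨g, rfl⟩ := isConj_iff.1 e
      rw [CL.L5.conj_mul_conj, (h.sim S).AA_sq (mul_mem (t_mem i j) (t_mem k l)), mul_one, mul_inv_cancel]
    have hP := pg_cen (pg2 r2) y2 (zpowers_le.2 (mem_Cz.2 cm))
    obtain ⟨ψ, -, c⟩ := exists_co S _ hP
    let u : ↥(zpowers r ⊔ zpowers y) := ⟨r, mem_sup_left (mem_zpowers _)⟩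
    let v : ↥(zpowers r ⊔ zpowers y) := ⟨y, mem_sup_right (mem_zpowers _)⟩
    obtain ⟨x', w, c1, c2⟩ := m.g5 _ (ψ u) ((w4 S c v).1 w) (by rw [← map_mul, show u * u = 1 from Subtype.ext r2, map_one])
      (cmap ψ u v cm)
    obtain ⟨x, k, e⟩ := back S hP c u v (w_sq h w) c1 c2
    exact ⟨x, (w2 S k ()).2 w, e⟩
  g6 := by
    have : Fact (Nat.Prime 2) := ⟨Nat.prime_two⟩
    obtain ⟨r, d, d', ⟨o, P, rP, rc⟩, w, w', c1, c2, c3, n⟩ := m.g6
    obtain ⟨φ, i, c⟩ := exists_co S.symm _ P.2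
    obtain ⟨Q, hQ⟩ := (emb_of_card i (by rw [← S.1.card, S.2.1.card, P.card_eq_multiplicity])).2
    obtain ⟨χ, -, e, k⟩ := (c.comp fun _ : Unit => ⟨r, rP⟩).ext S.symm ((zpowers d ⊔ zpowers d') ⊔ zpowers r)
      (pg_cen (pg_cen (pg2 (w_sq h w)) (w_sq h w') (zpowers_le.2 (mem_Cz.2 c3))) (by rw [← pow_two, ← o, pow_orderOf_eq_one])
        (sup_le (zpowers_le.2 (mem_Cz.2 c1)) (zpowers_le.2 (mem_Cz.2 c2)))) fun _ => mem_sup_right (mem_zpowers _)
    let R : ↥((zpowers d ⊔ zpowers d') ⊔ zpowers r) := ⟨r, mem_sup_right (mem_zpowers _)⟩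
    let u : ↥((zpowers d ⊔ zpowers d') ⊔ zpowers r) := ⟨d, mem_sup_left (mem_sup_left (mem_zpowers _))⟩
    let v : ↥((zpowers d ⊔ zpowers d') ⊔ zpowers r) := ⟨d', mem_sup_left (mem_sup_right (mem_zpowers _))⟩
    refine ⟨χ R, χ u, χ v, (e ()).symm ▸ ⟨(ordc i _).trans o, Q, hQ.ge ⟨_, rfl⟩, fun x hx => ?_⟩, (w2 S k.symm u).2 w,
      (w2 S k.symm v).2 w', cmap χ u R c1, cmap χ v R c2, cmap χ u v c3, fun a => n ?_⟩
    · obtain ⟨x, rfl⟩ := hQ.le hx
      exact cmap φ x _ (rc x x.2)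
    · rw [← map_mul, ← map_mul] at a
      exact (k.isConj S.symm k _ _).2 a
  rig P g hg o x hx := by
    obtain ⟨e, l⟩ := S.1.exists_equiv (emb_subtype P)
    have S' := l.symm.trans (S.comp e)
    generalize f'.comp e.toMonoidHom = φ at S'
    have n : ∀ u : P, ∃ v : P, (v : G) = g * u * g⁻¹ := fun u => ⟨⟨_, (mem_normalizer_iff.1 hg u).1 u.2⟩, rfl⟩
    obtain ⟨a, o', k⟩ := exists_odd_act S' ⊤ o fun u _ => (n u).imp fun _ e => ⟨trivial, e⟩
    obtain ⟨Q, hQ⟩ := S'.2.1.2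
    obtain ⟨v, hv⟩ := n ⟨x, hx⟩
    have := k ⟨x, hx⟩ trivial v hv
    rw [conj_eq_of_comm (m.rig Q a (mem_normalizer_fintype fun z hz => by
      obtain ⟨u, rfl⟩ := hQ.le hz
      obtain ⟨v, hv⟩ := n u
      exact hQ.ge ⟨v, k u trivial v hv⟩) o' _ (hQ.ge ⟨_, rfl⟩))] at this
    rw [S'.2.1.1 this] at hv
    exact comm_of_conj_eq hv.symm

end CL.Lm
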