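import Cfsg.Agent.FUS.Lm.Def
import Cfsg.Agent.S3800

/-! # The local facts for the signalizer functor

`z = t a b`, `X = C(z)/O`, `b k = bb k`, `K i j = KK p L (b i * b j)`, `β i = π (t b i)`; `π (t i j) = β i * β j`, `β a`, `β b`
are central.  For `w = t k l`, `N_w = π (Oc w ⊓ C(z))` has odd order, centralises `π w` and is normalised by `C_X(π w)`. -/

set_option autoImplicit false
set_option linter.unusedSectionVars false
set_option maxHeartbeats 400000

namespace CL.Lm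

open Subgroup Cfsg CL.MSS CL.PComp
open CL.L5 (Cz Oc mem_Cz conj_eq_of_comm comm_conj fix_coset eq_one_of_odd_of_two comm_of_mem_Oc conj_mem_Oc)

namespace Lo

theorem pig {ι : Type*} {c d f x y : ι} (cd : c ≠ d) (df : d ≠ f) (cf : c ≠ f) (n1 : c ≠ x → c ≠ y → False)
    (n2 : d ≠ x → d ≠ y → False) (n3 : f ≠ x → f ≠ y → False) : False := by
  by_cases h1 : c = x <;> by_cases h2 : d = x <;> by_cases h3 : f = x <;> grind

/-- an odd order normal subgroup of `C(y)`. -/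
structure Nw {X : Type*} [Group X] (y : X) (N : Subgroup X) : Prop where
  odd : Odd (Nat.card N)
  le : N ≤ Cz y
  nrm : ∀ g, Commute g y → ∀ x ∈ N, g * x * g⁻¹ ∈ N

variable {X : Type*} [Group X] [Finite X] {κ : Type*} [Finite κ] [DecidableEq κ] {p e : ℕ} {L N : Subgroup X}
  {b : κ → X} {y : X}

theorem Nw.inf (h : Nw y N) {K : Subgroup X} {g : X} (hg : Commute g y) (n : g ∈ normalizer (K : Set X)) :
    g ∈ normalizer ((N ⊓ K : Subgroup X) : Set X) :=
  mem_normalizer_fintype fun x hx => ⟨h.nrm g hg x hx.1, (mem_normalizer_iff.1 n x).1 hx.2⟩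

theorem Nw.oddi (h : Nw y N) (K : Subgroup X) : Odd (Nat.card (N ⊓ K : Subgroup X)) :=
  h.odd.of_dvd_nat (card_dvd_of_le inf_le_left)

theorem Nw.Z (h : Nw y N) (nL : L.Normal) (core : oddCore X = ⊥) (hy : y ∈ L) {x : X} (hx : x ∈ N)
    (c : L ≤ Cz x) : x = 1 := by
  have : N ⊓ centralizer (L : Set X) ≤ ⊥ := by
    rw [← core, oddCore, ← opOf_top]
    exact (le_opOf inf_le_right (fun g hg => h.inf (hg y hy).symm (le_normalizer hg))
      (Nat.coprime_two_right.2 (h.oddi _))).trans (opOf_le_opOf_of_normal_in le_top (by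
        rw [normalizer_eq_top])) 
  exact this ⟨hx, fun l hl => mem_Cz.1 (c hl)⟩

theorem bc (S : St p e L b) (i j : κ) : Commute (b i) (b j) := S.fm.symm i j

theorem bL (S : St p e L b) (i j : κ) : b i * b j ∈ L := by
  by_cases h : i = j
  · rw [h, S.sq]; exact one_mem _
  · exact (KK_le p L _ (S.mem i j h)).1

theorem Nw.two (h : Nw y N) (S : St p e L b) (nL : L.Normal) (hy : ∀ k, Commute (b k) y)
    (A : ∀ x ∈ N ⊓ L, ∀ i j, Commute x (b i * b j)) {x : X} (hx : x ∈ N) (i j : κ) : Commute x (b i * b j) := by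
  have s2 := S.fm.sq i j
  have hs := (hy i).mul_left (hy j)
  have sL := bL S i j
  have A' := fun x hx => A x hx i j
  generalize b i * b j = s at *
  have m : s * x * s⁻¹ * x⁻¹ ∈ N ⊓ L := mem_inf.2 ⟨mul_mem (h.nrm s hs x hx) (inv_mem hx), by
    simpa [mul_assoc] using mul_mem sL (nL.conj_mem _ (inv_mem sL) x)⟩
  have c := conj_eq_of_comm (A' _ m).symm
  have : s * x * s⁻¹ * x⁻¹ = 1 := eq_one_of_odd_of_two (h.odd.of_dvd_nat (N.orderOf_dvd_natCard m.1)) (k := 1) (by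
    rw [pow_one, pow_two]
    nth_rw 1 [← c]
    calc _ = s * s * x * (s * s)⁻¹ * x⁻¹ := by group
      _ = 1 := by rw [s2]; group)
  exact (mul_inv_eq_iff_eq_mul.1 (mul_inv_eq_one.1 this)).symm

/-- type I -/
theorem Nw.one (S : St p e L b) (nL : L.Normal) (core : oddCore X = ⊥) {i j : κ} (ij : i ≠ j)
    (h : Nw (b i * b j) N) {x : X} (hx : x ∈ N) (k : κ) : Commute x (b k) := by
  have hy : ∀ k, Commute (b k) (b i * b j) := fun k => (bc S k i).mul_right (bc S k j)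
  have t := h.two S nL hy (S.al i j ij (N ⊓ L) (fun x hx => ⟨hx.2, h.le hx.1⟩)
    (fun g hg => h.inf (mem_Cz.1 hg.2) (le_normalizer hg.1)) (h.oddi L)) hx
  have iv : ∀ k, (b k)⁻¹ = b k := fun k => inv_eq_of_mul_eq_one_right (S.sq k)
  have m : x * b k * x⁻¹ * b k ∈ N := by
    simpa [mul_assoc, iv] using mul_mem hx (h.nrm _ (hy k) _ (inv_mem hx))
  have := h.Z nL core (bL S i j) m (S.gen _ fun u v uv y hy => by
    obtain ⟨l, hl⟩ := exists_new [u, v] (by have := S.four; simp; omega)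
    simp only [List.mem_cons, List.not_mem_nil, or_false, not_or] at hl
    have e : x * b k * x⁻¹ * b k = x * b l * x⁻¹ * b l := by
      have h1 := (t k l).eq
      have h2 : b k = b k * b l * b l := by rw [mul_assoc, S.sq, mul_one]
      have h3 := (bc S k l).eq
      calc _ = x * (b k * b l) * b l * x⁻¹ * b k := by rw [mul_assoc x (b k * b l), ← h2]
        _ = x * b l * (b k * b l * x⁻¹) * b k := by
          rw [mul_assoc x, ← ((bc S l k).mul_right (bc S l l)).eq]; group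
        _ = x * b l * x⁻¹ * (b k * (b l * b k)) := by rw [← (t k l).inv_left.eq]; group
        _ = _ := by rw [← h3, ← mul_assoc (b k), S.sq, one_mul]
    have n := mem_normalizer_KK (p := p) (show x⁻¹ ∈ normalizer (L : Set X) by simp [normalizer_eq_top])
      (t u v).inv_left
    have := comm_conj (S.cen u v l uv hl.1 hl.2 _ ((mem_normalizer_iff.1 n y).1 hy)) x
    rw [show x * (x⁻¹ * y * x⁻¹⁻¹) * x⁻¹ = y by group] at this
    rw [e]
    exact mem_Cz.2 (this.mul_right (S.cen u v l uv hl.1 hl.2 y hy)))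
  rw [← iv k, mul_inv_eq_one, iv] at this
  exact mul_inv_eq_iff_eq_mul.1 this

/-- type II -/
theorem Nw.one' (S : St p e L b) (nL : L.Normal) {i : κ} {c : X} (hc : c ∈ center X)
    (h : Nw (c * b i) N) {x : X} (hx : x ∈ N) (k : κ) : Commute x (b k) := by
  have cc : ∀ g, Commute g c := fun g => mem_center_iff.1 hc g
  have i1 : ∀ g, Commute g (c * b i) → Commute g (b i) := fun g h => by
    simpa using (cc g).inv_right.mul_right h
  have t := h.two S nL (fun k => (cc _).mul_right (bc S k i)) (S.alr i (N ⊓ L)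
    (fun x hx => ⟨hx.2, mem_Cz.2 (i1 x (mem_Cz.1 (h.le hx.1)))⟩)
    (fun g hg => h.inf ((cc g).mul_right (mem_Cz.1 hg.2)) (le_normalizer hg.1)) (h.oddi L)) hx i k
  simpa using (i1 x (mem_Cz.1 (h.le hx))).inv_right.mul_right t

variable {G : Type*} [Group G] [Finite G] {ι : Type*} {t : ι → ι → G} {a a' : ι}
  {ε : κ → ι} {π : Cz (t a a') →* X} (B : Lb p e t a a' ε π L b)

/-- an element of the frame as an element of `C(z)`. -/
def el (h : Fm t) (a a' i j : ι) : Cz (t a a') := ⟨t i j, mem_Cz.2 (h.comm i j a a')⟩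

include B

theorem π_el (i j : ι) : π (el B.fm a a' i j) = π (el B.fm a a' a' i) * π (el B.fm a a' a' j) := by
  rw [← map_mul]
  exact congrArg π (Subtype.ext (by change _ = t a' i * t a' j; rw [B.fm.symm a' i, B.fm.mul]; rfl))

theorem β_ε (k : κ) : π (el B.fm a a' a' (ε k)) = b k := B.bb_eq k _

theorem β_cases (i : ι) : ((i = a ∨ i = a') ∧ π (el B.fm a a' a' i) ∈ center X) ∨ ∃ k, i = ε k := by
  by_cases h : i ≠ a ∧ i ≠ a'
  · obtain ⟨k, rfl⟩ := (B.rng i).2 h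
    exact .inr ⟨k, rfl⟩
  refine .inl ⟨by tauto, mem_center_iff.2 fun g => ?_⟩
  obtain ⟨g, rfl⟩ := B.surj g
  refine Commute.map (Subtype.ext ?_) π
  change (g : G) * t a' i = t a' i * g
  obtain rfl | rfl : i = a ∨ i = a' := by tauto
  · rw [B.fm.symm a' i]; exact mem_Cz.1 g.2
  · rw [B.fm.self]; simp

theorem ker_odd : (Nat.card π.ker).Coprime 2 := by
  rw [show π.ker = (Oc (t a a')).subgroupOf _ from Subgroup.ext B.ker]
  exact Nat.Coprime.coprime_dvd_left (card_comap_dvd_of_injective _ _ (subtype_injective _)) (opOf_coprime 2 _)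

theorem lift (y : X) : ∃ g, π g = y ∧ ∀ i j, Commute (π (el B.fm a a' i j)) y → Commute (g : G) (t i j) := by
  obtain ⟨x, rfl⟩ := B.surj y
  obtain ⟨d, hd, h⟩ := fix_coset (p := 2) (E := (AA t).subgroupOf _ ⊓ (Cz (π x)).comap π) (D := π.ker)
    ((B.fm.AA_pg.comap_subtype).to_inf_left) (by simp [normalizer_eq_top])
    (coprime_card_iff_not_dvd.1 (ker_odd B)) (x := x) fun u hu => by
      rw [MonoidHom.mem_ker, map_mul, map_mul, map_mul, (mem_Cz.1 hu.2).eq]; simp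
  exact ⟨x * d, by rw [map_mul, hd, mul_one], fun i j c =>
    ((h (el B.fm a a' i j) ⟨t_mem i j, mem_Cz.2 c⟩).map (Cz (t a a')).subtype).symm⟩

theorem nw (i j : ι) : Nw (π (el B.fm a a' i j)) (((Oc (t i j)).subgroupOf _).map π) where
  odd := Nat.coprime_two_right.1 (coprime_card_map π (Nat.Coprime.coprime_dvd_left
    (card_comap_dvd_of_injective _ _ (subtype_injective _)) (opOf_coprime 2 _)))
  le := by
    rintro _ ⟨x, hx, rfl⟩
    exact mem_Cz.2 (Commute.map (Subtype.ext (comm_of_mem_Oc hx).eq) π)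
  nrm := by
    rintro g hg _ ⟨x, hx, rfl⟩
    obtain ⟨g, rfl, c⟩ := lift B g
    exact ⟨g * x * g⁻¹, conj_mem_Oc (c i j hg.symm) hx, by simp⟩

theorem cor {k l : ι} (kl : k ≠ l) {x : Cz (t a a')} (hx : (x : G) ∈ Oc (t k l)) (i : ι) :
    Commute (π x) (π (el B.fm a a' a' i)) := by
  rcases β_cases B i with ⟨-, c⟩ | ⟨i, rfl⟩
  · exact mem_center_iff.1 c _
  rw [β_ε B]
  have n := nw B k l
  rw [π_el B] at n
  have m : π x ∈ ((Oc (t k l)).subgroupOf _).map π := ⟨x, hx, rfl⟩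
  rcases β_cases B k with ⟨k1, c⟩ | ⟨k, rfl⟩ <;> rcases β_cases B l with ⟨l1, c'⟩ | ⟨l, rfl⟩
  · have : t k l = t a a' := by
      rcases k1 with rfl | rfl <;> rcases l1 with rfl | rfl
      exacts [absurd rfl kl, rfl, B.fm.symm _ _, absurd rfl kl]
    rw [(B.ker x).2 (by rwa [this] at hx)]; exact Commute.one_left _
  · rw [β_ε B] at n; exact n.one' B.st B.nL c m i
  · rw [β_ε B, mem_center_iff.1 c'] at n; exact n.one' B.st B.nL c' m i
  · rw [β_ε B, β_ε B] at n; exact n.one B.st B.nL B.core (fun e => kl (congrArg ε e)) m i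

theorem Kc {i j : κ} (ij : i ≠ j) {y : X} (hy : y ∈ KK p L (b i * b j)) {u : ι} (h1 : u ≠ ε i) (h2 : u ≠ ε j) :
    Commute y (π (el B.fm a a' a' u)) := by
  rcases β_cases B u with ⟨-, c⟩ | ⟨k, rfl⟩
  · exact mem_center_iff.1 c _
  · rw [β_ε B]; exact B.st.cen i j k ij (fun e => h1 (congrArg ε e)) (fun e => h2 (congrArg ε e)) y hy

end Lo

open Lo in
/-- see the header; model: `INV/L5/Loc`. -/
theorem Lb.lc {G : Type*} [Group G] [Finite G] {ι κ : Type*} [Finite κ] [DecidableEq κ] {p e : ℕ} {t : ι → ι → G} {a b : ι}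
    {ε : κ → ι} {X : Type*} [Group X] {π : Cz (t a b) →* X} {L : Subgroup X} {bb : κ → X} (B : Lb p e t a b ε π L bb) :
    Lc t a b := by
  classical
  have : Finite X := Finite.of_surjective π B.surj
  refine ⟨fun k l kl x hx xz i j => ?_, fun k l m kl lm km x hx xz => ?_, fun c d f h1 h2 cf M hO m1 m2 m3 m4 => ?_⟩
  · have c := (cor B kl (x := ⟨x, mem_Cz.2 xz⟩) hx i).mul_right (cor B kl (x := ⟨x, mem_Cz.2 xz⟩) hx j)
    rw [← π_el B] at c
    have := (B.ker (⟨x, mem_Cz.2 xz⟩ * el B.fm a b i j * ⟨x, mem_Cz.2 xz⟩⁻¹ * (el B.fm a b i j)⁻¹)).1 (by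
      simp only [map_mul, map_inv, c.eq]; group)
    change x * t i j * x⁻¹ * (t i j)⁻¹ ∈ _ at this
    rwa [B.fm.inv] at this
  · by_contra n
    set x' : Cz (t a b) := ⟨x, mem_Cz.2 xz⟩
    have c := fun i => β_ε B i ▸ cor B kl (x := x') hx.1.1 (ε i)
    have k1 : ∀ i j, i ≠ j → ∀ u v, x ∈ Oc (t u v) → (∀ y ∈ KK p L (bb i * bb j), Commute y (π (el B.fm a b u v))) →
        KK p L (bb i * bb j) ≤ Cz (π x') := fun i j ij u v hx h y hy => by
      have w := nw B u v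
      have m : π x' ∈ ((Oc (t u v)).subgroupOf _).map π := ⟨x', hx, rfl⟩
      have nK := mem_normalizer_KK (p := p) (show π x' ∈ normalizer (L : Set X) by
        have := B.nL; simp [normalizer_eq_top]) ((c i).mul_right (c j))
      have := B.st.oK i j ij _ inf_le_right (fun g hg => w.inf (h g hg) (le_normalizer hg)) (w.oddi _)
      have := this.le (x := y * π x' * y⁻¹ * (π x')⁻¹) (mem_inf.2 ⟨mul_mem (w.nrm y (h y hy) _ m) (inv_mem m), by
        simpa [mul_assoc] using mul_mem hy ((mem_normalizer_iff.1 nK _).1 (inv_mem hy))⟩)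
      exact mem_Cz.2 (mul_inv_eq_iff_eq_mul.1 (mul_inv_eq_one.1 this))
    have LC : L ≤ Cz (π x') := B.st.gen _ fun i j ij => by
      have k2 : ∀ u v, x ∈ Oc (t u v) → (u ≠ ε i ∧ u ≠ ε j ∧ v ≠ ε i ∧ v ≠ ε j) ∨ (u = ε i ∧ v = ε j) ∨
          (u = ε j ∧ v = ε i) → KK p L (bb i * bb j) ≤ Cz (π x') := fun u v hx h => k1 i j ij u v hx fun y hy => by
        rw [π_el B]
        rcases h with h | ⟨rfl, rfl⟩ | ⟨rfl, rfl⟩
        · exact (Kc B ij hy h.1 h.2.1).mul_right (Kc B ij hy h.2.2.1 h.2.2.2)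
        · rw [β_ε B, β_ε B]; exact mem_Cz.1 (KK_le p L _ hy).2
        · rw [β_ε B, β_ε B, (bc B.st j i).eq]; exact mem_Cz.1 (KK_le p L _ hy).2
      by_contra n
      have n1 := mt (k2 k l hx.1.1) n
      have n2 := mt (k2 l m hx.1.2) n
      have n3 := mt (k2 k m hx.2) n
      grind
    have k3 : ∀ u v, u ≠ v → x ∈ Oc (t u v) → u = a ∨ u = b ∨ v = a ∨ v = b := fun u v uv hx => by
      by_contra! h
      obtain ⟨i, rfl⟩ := (B.rng u).2 ⟨h.1, h.2.1⟩
      obtain ⟨j, rfl⟩ := (B.rng v).2 h.2.2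
      have w := nw B (ε i) (ε j)
      rw [π_el B, β_ε B, β_ε B] at w
      exact n ((B.ker x').1 (w.Z B.nL B.core (bL B.st i j) ⟨x', hx, rfl⟩ LC))
    have k4 : ∀ u v, x ∈ Oc (t u v) → ¬ (u = a ∧ v = b) ∧ ¬ (u = b ∧ v = a) := fun u v hx =>
      ⟨fun e => n (e.1 ▸ e.2 ▸ hx), fun e => n (B.fm.symm a b ▸ e.1 ▸ e.2 ▸ hx)⟩
    have := k3 k l kl hx.1.1
    have := k3 l m lm hx.1.2
    have := k3 k m km hx.2
    have := k4 k l hx.1.1
    have := k4 l m hx.1.2
    have := k4 k m hx.2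
    grind
  · have LM : L ≤ (M.subgroupOf _).map π := B.st.gen _ fun i j ij y hy => by
      obtain ⟨g, rfl, cc⟩ := lift B y
      have k : ∀ u, Cz (t a b) ⊓ Cz (t b u) ≤ M → u ≠ ε i → u ≠ ε j → π g ∈ (M.subgroupOf _).map π :=
        fun u h h1 h2 => ⟨g, h ⟨g.2, mem_Cz.2 (cc b u (Kc B ij hy h1 h2).symm)⟩, rfl⟩
      by_contra n
      exact pig h1.2.2.2.2.2 h2.2.2.2.2.2 cf (fun h h' => n (k c m1 h h')) (fun h h' => n (k d m2 h h'))
        fun h h' => n (k f m3 h h')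
    intro g hg
    obtain ⟨l, hl, h⟩ := B.fr (π ⟨g, hg⟩)
    obtain ⟨u, hu, c1⟩ := lift B (l⁻¹ * π ⟨g, hg⟩)
    have c2 : ∀ i j, (i ≠ a ∧ i ≠ b) → (j ≠ a ∧ j ≠ b) → (u : G) ∈ Cz (t i j) := fun i j hi hj => by
      obtain ⟨i, rfl⟩ := (B.rng i).2 hi
      obtain ⟨j, rfl⟩ := (B.rng j).2 hj
      refine mem_Cz.2 (c1 _ _ (L5.comm_of_conj_eq ?_).symm)
      rw [π_el B, β_ε B, β_ε B, show ∀ s, l⁻¹ * π ⟨g, hg⟩ * s * (l⁻¹ * π ⟨g, hg⟩)⁻¹ =
        l⁻¹ * (π ⟨g, hg⟩ * s * (π ⟨g, hg⟩)⁻¹) * l from fun s => by group, h]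
      group
    obtain ⟨v, hv, rfl⟩ := LM hl
    have uM := m4 ⟨c2 c d ⟨h1.2.1.symm, h1.2.2.2.1.symm⟩ ⟨h1.2.2.1.symm, h1.2.2.2.2.1.symm⟩,
      c2 d f ⟨h1.2.2.1.symm, h1.2.2.2.2.1.symm⟩ ⟨h2.2.2.1.symm, h2.2.2.2.2.1.symm⟩⟩
    have := hO ((B.ker ((v * u)⁻¹ * ⟨g, hg⟩)).1 (by rw [map_mul, map_inv, map_mul, hu]; group))
    exact (mul_mem_cancel_left (inv_mem (mul_mem (mem_subgroupOf.1 hv) uM))).1 this

end CL.Lm
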