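import Cfsg.Agent.FUS.Lm.Map
import Cfsg.Agent.FUS.Lm.Loc
import Cfsg.Agent.INV.L5.Cover

/-! # The fundamental subgroups of `G`

`z = t a b`, `O = Oc z`, `L₁ = LL t z`, `L(c d) = LL t (t c d)`, `K i j = KK p (L(c d)) (t i j)` for any `c, d` disjoint from `i, j`.
Model: `INV/L5/KC`. -/

set_option autoImplicit false
set_option linter.unusedSectionVars false
set_option maxHeartbeats 400000

namespace CL.Lm

open Subgroup Cfsg CL.MSS CL.PComp
open CL.L5 (Cz Oc mem_Cz conj_eq_of_comm comm_conj comm_of_conj comm_of_conj_eq eq_one_of_odd_of_two conj_mem_Oc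
  conj_mem_Oc_conj odd_of_mem_Oc)

universe u

namespace Kc

open Lo

variable {G : Type u} [Group G] [Finite G] {ι κ : Type*} [Finite κ] [DecidableEq κ] [DecidableEq ι] {p e : ℕ}
  {t : ι → ι → G} {a b : ι} {ε : κ → ι} {X : Type u} [Group X] [Finite X] {π : Cz (t a b) →* X} {L : Subgroup X}
  {bb : κ → X}

theorem zp2 {z x : G} (h : z * z = 1) (hx : x ∈ zpowers z) : x = 1 ∨ x = z := by
  obtain ⟨k, rfl⟩ := hx
  have : ∀ n : ℤ, z ^ (n + n) = 1 := fun n => by rw [zpow_add, ← (Commute.refl z).mul_zpow, h, one_zpow]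
  obtain ⟨n, rfl | rfl⟩ := Int.even_or_odd' k
  · exact .inl (two_mul n ▸ this n)
  · exact .inr (by simp only [zpow_add_one, two_mul, this, one_mul])

theorem cjK {g : G} {σ : Equiv.Perm ι} (h : Ind t g σ) (c d i j : ι) :
    g •ᶜ KK p (LL t (t c d)) (t i j) = KK p (LL t (t (σ c) (σ d))) (t (σ i) (σ j)) := by
  rw [cj_KK, cj_LL, h, h]

/-- the fundamental subgroups. -/
def K (p : ℕ) (t : ι → ι → G) (i j : ι) : Subgroup G := ⨆ (c) (d) (_ : D4 i j c d), KK p (LL t (t c d)) (t i j)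

theorem le_K {i j c d : ι} (h : D4 i j c d) : KK p (LL t (t c d)) (t i j) ≤ K p t i j :=
  le_iSup₂_of_le c d (le_iSup_of_le h le_rfl)

theorem cj_K {g : G} {σ : Equiv.Perm ι} (h : Ind t g σ) (i j : ι) : g •ᶜ K p t i j = K p t (σ i) (σ j) := by
  have k : ∀ {g σ}, Ind t g σ → ∀ i j, g •ᶜ K p t i j ≤ K p t (σ i) (σ j) := fun h i j => by
    rw [map_le_iff_le_comap]
    refine iSup_le fun c => iSup_le fun d => iSup_le fun D => map_le_iff_le_comap.1 ?_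
    rw [cjK h]
    exact le_K (D.map (Equiv.injective _))
  refine le_antisymm (k h i j) fun x hx => mem_cj.2 ?_
  simpa using k h.inv _ _ (conj_mem_cj hx)

variable (B : Lb p e t a b ε π L bb)
include B

theorem d4 {i j : κ} (h : i ≠ j) : D4 a b (ε i) (ε j) :=
  have k := fun i => (B.rng _).1 ⟨i, rfl⟩
  ⟨B.ab, (k i).1.symm, (k j).1.symm, (k i).2.symm, (k j).2.symm, B.inj.ne h⟩

theorem two : ∃ i j : κ, i ≠ j := by
  have := B.st.four
  obtain ⟨i, -⟩ := exists_new (ι := κ) [] (by simp; omega)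
  obtain ⟨j, h⟩ := exists_new [i] (by simp; omega)
  exact ⟨j, i, by simpa using h⟩

theorem of_d4 {c d : ι} (h : D4 a b c d) : ∃ i j, i ≠ j ∧ ε i = c ∧ ε j = d := by
  obtain ⟨i, rfl⟩ := (B.rng c).2 ⟨h.2.1.symm, h.2.2.2.1.symm⟩
  obtain ⟨j, rfl⟩ := (B.rng d).2 ⟨h.2.2.1.symm, h.2.2.2.2.1.symm⟩
  exact ⟨i, j, fun e => h.2.2.2.2.2 (congrArg ε e), rfl, rfl⟩

theorem rep {c d : ι} (h : c ≠ d) : ∃ g σ, Ind t g σ ∧ σ a = c ∧ σ b = d := by
  obtain ⟨σ, h1, h2⟩ := exists_perm2 B.ab h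
  obtain ⟨g, hg⟩ := B.fm.perm σ
  exact ⟨g, σ, hg, h1, h2⟩

theorem rep4 {c d k l : ι} (h : D4 c d k l) {i j : κ} (ij : i ≠ j) :
    ∃ g σ, Ind t g σ ∧ σ a = c ∧ σ b = d ∧ σ (ε i) = k ∧ σ (ε j) = l := by
  obtain ⟨σ, h1⟩ := exists_perm4 (d4 B ij) h
  obtain ⟨g, hg⟩ := B.fm.perm σ
  exact ⟨g, σ, hg, h1⟩

theorem ex_l {x : X} (hx : x ∈ L) : ∃ l : Cz (t a b), (l : G) ∈ LL t (t a b) ∧ π l = x := B.map.ge hx

theorem π_ε (i j : κ) : π (el B.fm a b (ε i) (ε j)) = bb i * bb j := by rw [π_el B, β_ε B, β_ε B]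

variable (sg : ∀ x ∈ Oc (t a b), ∀ i j, Commute x (t i j))
include sg

theorem sg' {c d : ι} (h : c ≠ d) {x : G} (hx : x ∈ Oc (t c d)) (i j : ι) : Commute x (t i j) := by
  obtain ⟨g, σ, hg, rfl, rfl⟩ := rep B h
  have := conj_mem_Oc_conj g⁻¹ hx
  rw [hg.inv, Equiv.Perm.coe_inv, Equiv.symm_apply_apply, Equiv.symm_apply_apply] at this
  exact comm_of_conj (g := g⁻¹) (hg.inv i j ▸ sg _ this _ _)

theorem OL {c d : ι} (h : c ≠ d) {x : G} (hx : x ∈ Oc (t c d)) : LL t (t c d) ≤ Cz x := (closure_le _).2 (by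
  rintro _ ⟨g, i, j, k, l, D, e, rfl⟩
  have := conj_mem_Oc_conj g⁻¹ hx
  rw [← e, show g⁻¹ * (g * t i j * g⁻¹) * g⁻¹⁻¹ = t i j by group] at this
  exact mem_Cz.2 (comm_of_conj (g := g⁻¹) (by simpa [mul_assoc] using (sg' B sg D.1 this k l).symm)))

theorem rig {u : Cz (t a b)} (u2 : u * u = 1) {i j : ι} (h : π u = π (el B.fm a b i j)) : (u : G) = t i j := by
  have m := (B.ker (u * (el B.fm a b i j)⁻¹)).1 (by rw [map_mul, map_inv, h, mul_inv_cancel])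
  change (u : G) * (t i j)⁻¹ ∈ _ at m
  have c := sg _ m i j
  refine mul_inv_eq_one.1 (eq_one_of_odd_of_two (odd_of_mem_Oc m) (k := 1) ?_)
  have := c.mul_pow 2
  rw [inv_mul_cancel_right, pow_two, pow_two (t i j), B.fm.sq, mul_one, ← coe_mul, u2] at this
  exact this.symm

theorem rig' {u : Cz (t a b)} {i j k l : ι} (h : π u * π (el B.fm a b i j) * (π u)⁻¹ = π (el B.fm a b k l)) :
    (u : G) * t i j * (u : G)⁻¹ = t k l :=
  rig B sg (u := u * el B.fm a b i j * u⁻¹) (Subtype.ext (by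
    change (u : G) * t i j * (u : G)⁻¹ * (u * t i j * (u : G)⁻¹) = 1
    rw [L5.conj_mul_conj, B.fm.sq]; group)) (by simpa using h)

theorem sw0 {i j : κ} (ij : i ≠ j) {w : Cz (t a b)} (hw : π w ∈ KK p L (bb i * bb j))
    (h : Ind (fun i j => bb i * bb j) (π w) (Equiv.swap i j)) : Ind t w (Equiv.swap (ε i) (ε j)) := by
  have k : ∀ u, π w * π (el B.fm a b b u) * (π w)⁻¹ = π (el B.fm a b b (Equiv.swap (ε i) (ε j) u)) := fun u => by
    rcases β_cases B u with ⟨h1, c⟩ | ⟨k, rfl⟩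
    · have D := d4 B ij
      rw [Equiv.swap_apply_of_ne_of_ne, conj_eq_of_comm (mem_center_iff.1 c _)] <;> rcases h1 with rfl | rfl
      exacts [D.2.1, D.2.2.2.1, D.2.2.1, D.2.2.2.2.1]
    obtain ⟨l, hl⟩ := exists_new [i, j] (by have := B.st.four; simp; omega)
    simp only [List.mem_cons, List.not_mem_nil, or_false, not_or] at hl
    have := h l k
    rw [← L5.conj_mul_conj, conj_eq_of_comm (B.st.cen i j l ij hl.1 hl.2 _ hw),
      Equiv.swap_apply_of_ne_of_ne hl.1 hl.2] at this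
    rw [B.inj.swap_apply, β_ε B, β_ε B, mul_left_cancel this]
  exact fun u v => rig' B sg (by rw [π_el B u v, π_el B _ (Equiv.swap _ _ v), ← L5.conj_mul_conj, k, k])

theorem sw {c d k l : ι} (D : D4 c d k l) : ∃ w ∈ LL t (t c d), Ind t w (Equiv.swap k l) := by
  obtain ⟨i, j, ij⟩ := two B
  obtain ⟨g, σ, hg, rfl, rfl, rfl, rfl⟩ := rep4 B D ij
  obtain ⟨w, hw, h⟩ := B.st.sw i j ij
  obtain ⟨w, m, rfl⟩ := ex_l B (KK_le p L _ hw).1
  exact ⟨_, hg a b ▸ conj_mem_LL g m, Equiv.swap_apply_apply σ _ _ ▸ (hg.mul (sw0 B sg ij hw h)).mul hg.inv⟩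

theorem gen [IsSimpleGroup G] (gn : Gn t) {c d : ι} (D : D4 a b c d) : LL t (t a b) ⊔ LL t (t c d) = ⊤ := by
  have : Finite ι := Finite.of_surjective (fun x : κ ⊕ Bool => x.elim ε fun s => if s then a else b) fun u => by
    rcases β_cases B u with ⟨rfl | rfl, -⟩ | ⟨k, rfl⟩
    exacts [⟨.inr true, rfl⟩, ⟨.inr false, rfl⟩, ⟨.inl k, rfl⟩]
  obtain ⟨i, j, ij, rfl, rfl⟩ := of_d4 B D
  obtain ⟨l, hl⟩ := exists_new [i, j] (by have := B.st.four; simp; omega)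
  simp only [List.mem_cons, List.not_mem_nil, or_false, not_or] at hl
  have h1 : indS t (LL t (t a b) ⊔ LL t (t (ε i) (ε j))) = ⊤ := eq_top_of_star (ε l) fun k hk => by
    rcases β_cases B k with ⟨h, -⟩ | ⟨k, rfl⟩
    · obtain ⟨w, hw, h⟩ := sw B sg (c := ε i) (d := ε j) (k := ε l) (l := k) ⟨D.2.2.2.2.2, B.inj.ne (Ne.symm hl.1),
        by rcases h with rfl | rfl; exacts [D.2.1.symm, D.2.2.2.1.symm], B.inj.ne (Ne.symm hl.2),
        by rcases h with rfl | rfl; exacts [D.2.2.1.symm, D.2.2.2.2.1.symm], hk.symm⟩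
      exact ⟨w, mem_sup_right hw, h⟩
    · obtain ⟨w, hw, h⟩ := sw B sg (d4 B fun e => hk (congrArg ε e).symm)
      exact ⟨w, mem_sup_left hw, h⟩
  have h2 : ∀ c d, c ≠ d → ∃ g ∈ normalizer ((LL t (t a b) ⊔ LL t (t (ε i) (ε j)) : Subgroup G) : Set G),
      g * t a b * g⁻¹ = t c d := fun c d h => by
    obtain ⟨σ, rfl, rfl⟩ := exists_perm2 B.ab h
    obtain ⟨g, hg, k⟩ := h1.ge (mem_top σ)
    exact ⟨g, le_normalizer hg, k a b⟩
  have h3 := gn a b _ _ D _ (fun g hg => by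
    obtain ⟨l, hl, h⟩ := B.fr (π ⟨g, hg⟩)
    obtain ⟨l, m, rfl⟩ := ex_l B hl
    have := rig' B sg (u := l⁻¹ * ⟨g, hg⟩) (i := ε i) (j := ε j) (k := ε i) (l := ε j) (by
      rw [π_ε B, map_mul, map_inv, show ∀ s, (π l)⁻¹ * π ⟨g, hg⟩ * s * ((π l)⁻¹ * π ⟨g, hg⟩)⁻¹ =
        (π l)⁻¹ * (π ⟨g, hg⟩ * s * (π ⟨g, hg⟩)⁻¹) * π l from fun s => by group, h]
      group)
    have := mul_mem (le_normalizer (mem_sup_left m)) (normalizer_inf_normalizer_le_normalizer_sup _ _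
      ⟨Cz_le_normalizer_LL (t := t) _ (l⁻¹ * ⟨g, hg⟩).2, Cz_le_normalizer_LL (t := t) _ (mem_Cz.2 (comm_of_conj_eq this))⟩)
    simpa using this) (h2 _ _ D.2.2.2.2.2) (h2 _ _ D.2.2.2.1)
  exact (normalizer_eq_top_iff.1 h3).eq_bot_or_eq_top.resolve_left fun e =>
    B.fm.ne _ _ D.2.2.2.2.2 (e.le (mem_sup_left (mem_LL D)))

theorem O_bot [IsSimpleGroup G] (gn : Gn t) {n : ℕ} (he : e = 2 ^ n) : Oc (t a b) = ⊥ := by
  obtain ⟨i, j, ij⟩ := two B
  have D := d4 B ij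
  obtain ⟨g, σ, hg, σa, σb⟩ := rep B D.2.2.2.2.2
  by_contra n
  obtain ⟨r, hr, d⟩ := Nat.exists_prime_and_dvd (mt card_eq_one.1 n)
  have := Fact.mk hr
  obtain ⟨y₀, yo⟩ := exists_prime_orderOf_dvd_card' r d
  have hy := conj_mem_Oc_conj g y₀.2
  have yo' : orderOf (g * y₀ * g⁻¹) = r := by rw [← yo, ← orderOf_coe]; exact (MulAut.conj g).orderOf_eq _
  rw [hg, σa, σb] at hy
  generalize g * y₀ * g⁻¹ = y at hy yo'
  have c := sg' B sg D.2.2.2.2.2 hy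
  set y' : Cz (t a b) := ⟨y, mem_Cz.2 (c a b)⟩
  have w := nw B (ε i) (ε j)
  rw [π_ε B] at w
  have m : π y' ∈ ((Oc (t (ε i) (ε j))).subgroupOf _).map π := ⟨y', hy, rfl⟩
  have nL : π y' ∈ normalizer (L : Set X) := by have := B.nL; simp [normalizer_eq_top]
  have yt : ∀ i j, Commute (π y') (bb i * bb j) := fun i j =>
    π_ε B i j ▸ Commute.map (Subtype.ext (c _ _).eq) π
  have h1 := B.st.toS0.trick hr (k := 1) (he ▸ ((Nat.coprime_two_right.2 (yo' ▸ odd_of_mem_Oc hy)).pow_right _)) nL (by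
    rw [pow_one, ← map_pow, ← map_one π]; exact congrArg π (Subtype.ext (yo' ▸ pow_orderOf_eq_one y))) yt ij
    fun x hx => by
      have k := fun g (hg : g ∈ KK p L (bb i * bb j)) => mem_Cz.1 (KK_le p L _ hg).2
      have := B.st.oK i j ij _ inf_le_right (fun g hg => w.inf (k g hg) (le_normalizer hg)) (w.oddi _)
      have := this.le (x := x * π y' * x⁻¹ * (π y')⁻¹) (mem_inf.2 ⟨mul_mem (w.nrm x (k x hx) _ m) (inv_mem m), by
        simpa [mul_assoc] using mul_mem hx ((mem_normalizer_iff.1 (mem_normalizer_KK nL (yt i j)) _).1 (inv_mem hx))⟩)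
      exact (mul_inv_eq_iff_eq_mul.1 (mul_inv_eq_one.1 this) : x * _ = _ * x).symm
  have h2 := (B.ker y').1 (w.Z B.nL B.core (bL B.st i j) m fun x hx => mem_Cz.2 (h1 x hx).symm)
  have h3 := (gen B sg gn D).ge.trans (sup_le (OL B sg B.ab h2) (OL B sg D.2.2.2.2.2 hy))
  rcases (center G).normal_of_characteristic.eq_bot_or_eq_top with k | k
  · have : y = 1 := k.le (mem_center_iff.2 fun x => mem_Cz.1 (h3 (mem_top x)))
    rw [this, orderOf_one] at yo'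
    exact hr.one_lt.ne yo'
  · exact B.fm.ne4 _ _ _ _ D (by
      rw [← σa, ← σb, ← hg, mem_center_iff.1 (k.ge (mem_top (t a b))) g, mul_inv_cancel_right])

theorem exists_f [IsSimpleGroup G] (gn : Gn t) {Γ : Type*} [Group Γ] [Finite Γ] {τ : κ → κ → Γ} (M : Gm.{u} p e τ)
    (fh : Γ →* X) (r : fh.range = L) (e1 : ∀ i j, fh (τ i j) = bb i * bb j) :
    ∃ f : Γ →* Cz (t a b), π.comp f = fh ∧ ((Cz (t a b)).subtype.comp f).range = LL t (t a b) ∧
      ∀ i j, (f (τ i j) : G) = t (ε i) (ε j) := by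
  let ι₁ := inclusion (B.fm.LL_le (t a b))
  let π₁ : LL t (t a b) →* L := (π.comp ι₁).codRestrict L fun x => B.map.le ⟨ι₁ x, x.2, rfl⟩
  have s : Function.Surjective π₁ := fun x => by
    obtain ⟨l, m, h⟩ := ex_l B x.2
    exact ⟨⟨l, m⟩, Subtype.ext h⟩
  have k : ∀ x ∈ π₁.ker, (x : G) ∈ Oc (t a b) := fun x hx => (B.ker (ι₁ x)).1 (congrArg Subtype.val hx)
  have kc : π₁.ker ≤ center _ := fun x hx => mem_center_iff.2 fun y => Subtype.ext (mem_Cz.1 (OL B sg B.ab (k x hx) y.2))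
  have pf : commutator (LL t (t a b)) = ⊤ := by
    have h1 : (commutator (LL t (t a b))).map π₁ = ⊤ := by
      rw [commutator_def, map_commutator, map_top_of_surjective _ s, ← commutator_def]
      exact map_injective L.subtype_injective (by rw [map_subtype_commutator, B.perf, ← MonoidHom.range_eq_map,
        range_subtype])
    refine map_injective (LL t (t a b)).subtype_injective (le_antisymm (map_mono le_top) ?_)
    rw [← MonoidHom.range_eq_map, range_subtype]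
    refine (closure_le _).2 fun d hd => ?_
    obtain ⟨c, hc, h⟩ := h1.ge (mem_top (π₁ ⟨d, subset_closure hd⟩))
    have m : c⁻¹ * ⟨d, subset_closure hd⟩ ∈ π₁.ker := by rw [MonoidHom.mem_ker, map_mul, map_inv, h, inv_mul_cancel]
    obtain ⟨n, hn⟩ := odd_of_mem_Oc (k _ m)
    refine ⟨c ^ (2 * n + 1), pow_mem hc _, ?_⟩
    have d2 : d ^ 2 = 1 := by
      obtain ⟨g, i, j, k, l, -, -, rfl⟩ := hd
      rw [conj_pow, pow_two, B.fm.sq]; group
    have := (show Commute c _ from mem_center_iff.1 (kc m) c).mul_pow (2 * n + 1)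
    rw [mul_inv_cancel_left, orderOf_coe] at *
    rw [← hn, pow_orderOf_eq_one, mul_one, hn] at this
    rw [← this, coe_subtype, coe_pow, pow_succ, pow_mul, d2, one_pow, one_mul]
  obtain ⟨η, h⟩ : ∃ η : Γ →* LL t (t a b), π₁.comp η = fh.codRestrict L fun x => r.le ⟨x, rfl⟩ := by
    rcases M.lift with h | ⟨j, h⟩
    · exact h _ _ π₁ s kc trivial _
    · exact M.lift2 _ _ π₁ s kc ⟨0, card_eq_one.2 (eq_bot_iff.2 fun x hx =>
        Subtype.ext ((O_bot B sg gn h).le (k x hx)))⟩ _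
  have h1 := (L5.cover_gen _ (fun x => by obtain ⟨y, hy⟩ := r.ge x.2; exact ⟨y, Subtype.ext hy⟩) pf π₁ s kc η h).1
  have h2 : π.comp (ι₁.comp η) = fh := MonoidHom.ext fun x => congrArg Subtype.val (DFunLike.congr_fun h x)
  refine ⟨ι₁.comp η, h2, le_antisymm (by rintro _ ⟨x, rfl⟩; exact (η x).2) fun x hx => ?_, fun i j =>
    rig B sg (by rw [← map_mul, M.s0.fm.sq, map_one]) ((DFunLike.congr_fun h2 _).trans ((e1 i j).trans (π_ε B i j).symm))⟩
  obtain ⟨y, hy⟩ := h1 ⟨x, hx⟩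
  exact ⟨y, congrArg Subtype.val hy⟩

variable (S : ∀ σ : Equiv.Perm ι, S0 p e (LL t (t (σ a) (σ b))) fun i j => t (σ (ε i)) (σ (ε j)))
include S

theorem kc0 {c d : ι} (D : D4 a b c d) : ∀ l ∈ LL t (t a b), KK p (LL t (t c d)) (t a b) ≤ Cz l := by
  obtain ⟨i, j, ij, rfl, rfl⟩ := of_d4 B D
  obtain ⟨g, σ, -, σa, σb, σi, σj⟩ := rep4 B D.symm ij
  have kl := KK_le p (LL t (t (ε i) (ε j))) (t a b)
  have nL := (kl.trans inf_le_right).trans (Cz_le_normalizer_LL (t := t) _)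
  have h1 := (S σ).nK i j ij
  simp only [σa, σb, σi, σj] at h1
  have h2 := (h1 _ inf_le_left (le_normalizer_inf le_normalizer nL)).resolve_right fun ⟨u, hu, v, hv, h2, h3⟩ =>
    B.n7 _ _ D u ⟨hu.2, (kl hu.1).1⟩ v ⟨hv.2, (kl hv.1).1⟩ h2 h3
  have S1 := S 1
  simp only [Equiv.Perm.coe_one, id] at S1
  refine fun l hl => (closure_le _).2 fun y hy => mem_Cz.2 ?_
  have hy' : y ∈ KK p (LL t (t (ε i) (ε j))) (t a b) := subset_closure hy
  obtain ⟨-, yz, ⟨k, hk⟩, -⟩ := hy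
  have key : ∀ x ∈ LL t (t a b), Commute x (t (ε i) (ε j)) → Commute y x := fun x hx c => by
    have n := mem_normalizer_KK (p := p) (Cz_le_normalizer_LL (t := t) _ (mem_Cz.2 c)) (mem_Cz.1 (B.fm.LL_le _ hx))
    have := h2 (x := x * y * x⁻¹ * y⁻¹) (mem_inf.2 ⟨mul_mem ((mem_normalizer_iff.1 n y).1 hy') (inv_mem hy'), by
      simpa [mul_assoc] using mul_mem hx (conj_mem_of_normalizes nL hy' (inv_mem hx))⟩)
    rcases zp2 (B.fm.sq a b) this with e | e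
    · exact (mul_inv_eq_iff_eq_mul.1 (mul_inv_eq_one.1 e) : x * y = y * x).symm
    obtain ⟨n, hn⟩ := (S1.prime.odd_of_ne_two S1.odd).pow (n := k)
    have := congrArg (· ^ p ^ k) (mul_inv_eq_iff_eq_mul.1 e)
    simp only [conj_pow, yz.symm.mul_pow, hk, mul_one, mul_inv_cancel] at this
    rw [hn, pow_succ, pow_mul, pow_two, B.fm.sq, one_pow, one_mul] at this
    exact absurd this.symm (B.fm.ne _ _ B.ab)
  refine S1.trick S1.prime S1.cop (nL hy') hk (fun u v => key _ ?_ (B.fm.comm _ _ _ _)) ij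
    (fun x hx => key x (KK_le p _ _ hx).1 (mem_Cz.1 (KK_le p _ _ hx).2)) l hl
  by_cases h : u = v
  · rw [h, B.fm.self]; exact one_mem _
  · exact mem_LL (d4 B h)

theorem kc {i j c d : ι} (D : D4 i j c d) : ∀ l ∈ LL t (t i j), KK p (LL t (t c d)) (t i j) ≤ Cz l := by
  obtain ⟨g, σ, hg, rfl, rfl⟩ := rep B D.1
  obtain ⟨c, rfl⟩ := σ.surjective c
  obtain ⟨d, rfl⟩ := σ.surjective d
  rw [← cjK hg, ← hg, ← cj_LL]
  rintro _ ⟨l, hl, rfl⟩ _ ⟨y, hy, rfl⟩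
  exact mem_Cz.2 (comm_conj (mem_Cz.1 (kc0 B sg S (by simpa using D.map σ.symm.injective) l hl hy)) g)

theorem indep {i j c d d' : ι} (D : D4 i j c d) (D' : D4 i j c d') :
    KK p (LL t (t c d)) (t i j) = KK p (LL t (t c d')) (t i j) := by
  by_cases e : d = d'
  · rw [e]
  obtain ⟨w, hw, h⟩ := sw B sg (c := i) (d := j) (k := d) (l := d')
    ⟨D.1, D.2.2.1, D'.2.2.1, D.2.2.2.2.1, D'.2.2.2.2.1, e⟩
  have := cjK (p := p) h c d i j
  rwa [cj_eq_of_mem_centralizer (mem_centralizer_iff.2 fun y hy => mem_Cz.1 (kc B sg S D w hw hy)),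
    Equiv.swap_apply_left, Equiv.swap_apply_of_ne_of_ne D.2.2.2.2.2 D'.2.2.2.2.2,
    Equiv.swap_apply_of_ne_of_ne D.2.2.1 D'.2.2.1, Equiv.swap_apply_of_ne_of_ne D.2.2.2.2.1 D'.2.2.2.2.1] at this

theorem K_eq {i j c d : ι} (D : D4 i j c d) : K p t i j = KK p (LL t (t c d)) (t i j) :=
  le_antisymm (iSup_le fun c' => iSup_le fun d' => iSup_le fun D' => by
    have s : ∀ {c d}, D4 i j c d → D4 i j d c := fun ⟨a, b, c, d, e, f⟩ => ⟨a, c, b, e, d, f.symm⟩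
    by_cases e : c = d'
    · subst e; rw [B.fm.symm c' c]; exact (indep B sg S (s D') D).le
    · have D₁ : D4 i j d' c := ⟨D.1, D'.2.2.1, D.2.1, D'.2.2.2.2.1, D.2.2.2.1, Ne.symm e⟩
      rw [B.fm.symm c' d', indep B sg S (s D') D₁, B.fm.symm d' c]
      exact (indep B sg S (s D₁) D).le) (le_K D)

end Kc

open Kc in
/-- see the header. -/
theorem Lb.out {G : Type u} [Group G] [Finite G] [IsSimpleGroup G] {ι κ : Type*} [Finite κ] [DecidableEq κ] [DecidableEq ι] {p e : ℕ}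
    {t : ι → ι → G} {a b : ι} {ε : κ → ι} {X : Type u} [Group X] {π : Cz (t a b) →* X} {L : Subgroup X} {bb : κ → X}
    (B : Lb p e t a b ε π L bb) {Γ : Type*} [Group Γ] [Finite Γ] {τ : κ → κ → Γ} (M : Gm.{u} p e τ)
    (sg : ∀ x ∈ Oc (t a b), ∀ i j, Commute x (t i j)) (g : Gn t) (fh : Γ →* X) (r : fh.range = L) (c : fh.ker ≤ center Γ)
    (o : Odd (Nat.card fh.ker)) (e1 : ∀ i j, fh (τ i j) = bb i * bb j) : ∃ K, Out p τ t K := by
  have : Finite X := Finite.of_surjective π B.surj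
  obtain ⟨f, f1, f2, f3⟩ := exists_f B sg g M fh r e1
  have E : ∀ σ : Equiv.Perm ι, ∃ F : Γ →* G, F.ker ≤ fh.ker ∧ F.range = LL t (t (σ a) (σ b)) ∧
      ∀ i j, F (τ i j) = t (σ (ε i)) (σ (ε j)) := fun σ => by
    obtain ⟨g, hg⟩ := B.fm.perm σ
    refine ⟨(MulAut.conj g).toMonoidHom.comp ((Cz (t a b)).subtype.comp f), fun x hx => ?_,
      by rw [MonoidHom.range_comp, f2, cj_LL, hg], fun i j => by rw [← hg, ← f3]; rfl⟩
    have : f x = 1 := by simpa using hx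
    rw [← f1, MonoidHom.mem_ker, MonoidHom.comp_apply, this, map_one]
  have S : ∀ σ : Equiv.Perm ι, S0 p e (LL t (t (σ a) (σ b))) fun i j => t (σ (ε i)) (σ (ε j)) := fun σ => by
    obtain ⟨F, h1, h2, h3⟩ := E σ
    have := M.s0.map F (h1.trans c) (o.of_dvd_nat (card_dvd_of_le h1))
    simpa only [h2, h3] using this
  have KE : ∀ (σ : Equiv.Perm ι) i j, i ≠ j → K p t (σ (ε i)) (σ (ε j)) =
      KK p (LL t (t (σ a) (σ b))) (t (σ (ε i)) (σ (ε j))) := fun σ i j ij =>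
    K_eq B sg S ((d4 B ij).symm.map σ.injective)
  obtain ⟨i₀, j₀, ij⟩ := two B
  refine ⟨K p t, B.fm, fun ε' h => ?_, fun i j k l D x hx y hy => ?_, fun N h => ?_, fun i j h => ?_,
    fun g σ h => cj_K h⟩
  · obtain ⟨σ, hσ⟩ := Equiv.Perm.exists_extending_pair ε ε' B.inj h
    obtain ⟨F, h1, h2, h3⟩ := E σ
    refine ⟨F, h1.trans c, fun i j => ⟨by rw [h3, hσ, hσ], fun ij => ?_⟩⟩
    rw [M.s0.map_KK F (h1.trans c) (o.of_dvd_nat (card_dvd_of_le h1)) (M.s0.fm.sq i j), h2, h3, ← KE σ i j ij, hσ, hσ]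
  · rw [K_eq B sg S D] at hx
    rw [K_eq B sg S D.symm] at hy
    exact mem_Cz.1 (kc B sg S D y (KK_le p _ _ hy).1 hx)
  · have k : ∀ c d, c ≠ d → LL t (t c d) ≤ N := fun c d cd => by
      obtain ⟨-, σ, -, rfl, rfl⟩ := rep B cd
      exact (S σ).gen N fun i j ij => (KE σ i j ij).ge.trans (h _ _ (σ.injective.ne (B.inj.ne ij)))
    exact eq_top_iff.2 ((gen B sg g (d4 B ij)).ge.trans (sup_le (k _ _ B.ab) (k _ _ (B.inj.ne ij))))
  · obtain ⟨σ, rfl, rfl⟩ := exists_perm2 (B.inj.ne ij) h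
    obtain ⟨g, hg⟩ := B.fm.perm σ
    obtain ⟨w, hw, k⟩ := M.s0.sw i₀ j₀ ij
    have πf : ∀ x, π (f x) = fh x := DFunLike.congr_fun f1
    have h1 := sw0 B sg ij (w := f w) (by
      rw [πf, ← r, ← e1, ← M.s0.map_KK fh c o (M.s0.fm.sq _ _)]; exact mem_map_of_mem _ hw) fun u v => by
      simp only [πf, ← e1, ← k u v, map_mul, map_inv]
    have kf : ((Cz (t a b)).subtype.comp f).ker ≤ fh.ker := fun x hx => by
      have : f x = 1 := by simpa using hx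
      rw [MonoidHom.mem_ker, ← πf, this, map_one]
    refine ⟨_, cj_K hg _ _ ▸ conj_mem_cj (le_K (d4 B ij).symm ?_),
      Equiv.swap_apply_apply σ _ _ ▸ (hg.mul h1).mul hg.inv⟩
    have := M.s0.map_KK _ (kf.trans c) (o.of_dvd_nat (card_dvd_of_le kf)) (M.s0.fm.sq i₀ j₀)
    rw [f2, MonoidHom.comp_apply, coe_subtype, f3] at this
    exact this.le (mem_map_of_mem _ hw)

end CL.Lm
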