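import Cfsg.Agent.FUS.Lm.Def
import Cfsg.Agent.INV.L5.Sig

/-! # The signalizer functor argument

This is `INV/L5/Sig` (read its header) for a frame `t i j` on `≥ 5` indices.  Steps 1–3 (`exists_odd`) are done for five indices
(`C5`), steps 4, 5 with the full `A = AA t`. -/

set_option autoImplicit false
set_option linter.unusedSectionVars false
set_option maxHeartbeats 400000

namespace CL.L5.S5

open Subgroup Cfsg CL.MSS CL.PComp CL.L5.Sg
open scoped commutatorElement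

variable {G : Type*} [Group G] [Finite G] {t : Fin 5 → G}

/-- the part of `Cf` which is used. -/
structure C5 (t : Fin 5 → G) : Prop where
  sq : ∀ k, t k * t k = 1
  comm : ∀ k l, Commute (t k) (t l)
  prod : t 0 * t 1 * t 2 * t 3 * t 4 = 1
  ne2 : ∀ {k l}, k ≠ l → t k * t l ≠ 1
  ne0 : t 0 ≠ 1
  perm : ∀ σ : Equiv.Perm (Fin 5), ∃ g, Ind t g σ

namespace C5

variable (h : C5 t)
include h

theorem inv (k : Fin 5) : (t k)⁻¹ = t k := inv_eq_of_mul_eq_one_right (h.sq k)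

theorem c (k l : Fin 5) : t k * t l = t l * t k := (h.comm k l).eq

theorem lc (k l : Fin 5) (x : G) : t k * (t l * x) = t l * (t k * x) := (h.comm k l).left_comm x

theorem cancel (k : Fin 5) (x : G) : t k * (t k * x) = x := by rw [← mul_assoc, h.sq, one_mul]

theorem sq2 (k l : Fin 5) : t k * t l * (t k * t l) = 1 := by
  rw [mul_assoc, h.lc l k, h.cancel, h.sq]

theorem comm1 (k l m : Fin 5) : Commute (t k) (t l * t m) := (h.comm k l).mul_right (h.comm k m)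

theorem comm2 (k l m o : Fin 5) : Commute (t k * t l) (t m * t o) :=
  (h.comm1 k m o).mul_left (h.comm1 l m o)

/-- `t k t l · t l t m = t k t m`. -/
theorem tri (k l m : Fin 5) : t k * t l * (t l * t m) = t k * t m := by rw [mul_assoc, h.cancel]

theorem prod5 {a b c d e : Fin 5} (i : Function.Injective ![a, b, c, d, e]) :
    t a * t b * t c * t d * t e = 1 := by
  obtain ⟨σ, rfl, rfl, rfl, rfl, rfl⟩ := exists_perm5 i
  obtain ⟨g, hg⟩ := h.perm σ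
  rw [← hg, ← hg, ← hg, ← hg, ← hg, conj_mul_conj, conj_mul_conj, conj_mul_conj, conj_mul_conj, h.prod]
  group

/-- the product of two disjoint involutions of weight 2 has weight 4. -/
theorem prod4 {a b c d e : Fin 5} (i : Function.Injective ![a, b, c, d, e]) :
    t a * t b * (t d * t e) = t c := by
  have := h.prod5 i
  rw [mul_assoc (t a * t b * t c), mul_assoc (t a * t b), h.comm1 c d e, ← mul_assoc] at this
  rw [eq_inv_of_mul_eq_one_left this, h.inv]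

theorem prod3 {a b c d e : Fin 5} (i : Function.Injective ![a, b, c, d, e]) :
    t a * t b * t c = t d * t e := by
  rw [← h.prod4 i, ← mul_assoc, h.sq2, one_mul]

theorem conj1 (k l : Fin 5) : IsConj (t k) (t l) := by
  obtain ⟨g, hg⟩ := h.perm (Equiv.swap k l)
  exact isConj_of_eq (by rw [hg, Equiv.swap_apply_left])

theorem inj : Function.Injective t := fun k l e => by
  by_contra c
  exact h.ne2 c (by rw [e, h.sq])

theorem ne1 (k : Fin 5) : t k ≠ 1 := fun c => h.ne0 (isConj_one_right.1 (c ▸ h.conj1 k 0))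

theorem ne21 {k l : Fin 5} (e : k ≠ l) (m : Fin 5) : t k * t l ≠ t m := fun c => by
  by_cases e1 : m = k
  · exact h.ne1 l (mul_left_cancel (c.trans (by rw [e1, mul_one])))
  by_cases e2 : m = l
  · exact h.ne1 k (mul_right_cancel (c.trans (by rw [e2, one_mul])))
  obtain ⟨d, f, i, e3⟩ : ∃ d f, Function.Injective ![k, l, m, d, f] ∧ d ≠ f := by
    clear c; revert k l m; decide
  exact h.ne2 e3 (by rw [← h.prod3 i, c, h.sq])

theorem mem_AA {x : G} : x ∈ AA t ↔ x = 1 ∨ (∃ k, x = t k) ∨ ∃ k l, k ≠ l ∧ x = t k * t l := by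
  refine ⟨fun hx => ?_, ?_⟩
  · have key : ∀ m y, (y = 1 ∨ (∃ k, y = t k) ∨ ∃ k l, k ≠ l ∧ y = t k * t l) →
        (y * t m = 1 ∨ (∃ k, y * t m = t k) ∨ ∃ k l, k ≠ l ∧ y * t m = t k * t l) := by
      rintro m y (rfl | ⟨k, rfl⟩ | ⟨k, l, e, rfl⟩)
      · exact Or.inr (Or.inl ⟨m, one_mul _⟩)
      · by_cases e : k = m
        · subst e; exact Or.inl (h.sq k)
        · exact Or.inr (Or.inr ⟨k, m, e, rfl⟩)
      · by_cases e1 : l = m
        · subst e1; exact Or.inr (Or.inl ⟨k, by rw [mul_assoc, h.sq, mul_one]⟩)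
        by_cases e2 : k = m
        · subst e2; exact Or.inr (Or.inl ⟨l, by rw [h.c k, mul_assoc, h.sq, mul_one]⟩)
        obtain ⟨d, f, i, e3⟩ : ∃ d f, Function.Injective ![k, l, m, d, f] ∧ d ≠ f := by
          revert k l m; decide
        exact Or.inr (Or.inr ⟨d, f, e3, h.prod3 i⟩)
    induction hx using closure_induction_right with
    | one => exact Or.inl rfl
    | mul_right x _ y hy ih => obtain ⟨m, rfl⟩ := hy; exact key m x ih
    | mul_inv_cancel x _ y hy ih => obtain ⟨m, rfl⟩ := hy; rw [h.inv]; exact key m x ih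
  · rintro (rfl | ⟨k, rfl⟩ | ⟨k, l, -, rfl⟩)
    exacts [one_mem _, t_mem k, mul_mem (t_mem k) (t_mem l)]

theorem comm_AA {x y : G} (hx : ∀ k, Commute x (t k)) (hy : y ∈ AA t) : Commute x y := by
  rcases h.mem_AA.1 hy with rfl | ⟨k, rfl⟩ | ⟨k, l, -, rfl⟩
  exacts [Commute.one_right _, hx k, (hx k).mul_right (hx l)]

theorem AA_comm {x y : G} (hx : x ∈ AA t) (hy : y ∈ AA t) : Commute x y :=
  h.comm_AA (fun k => (h.comm_AA (h.comm k) hx).symm) hy

theorem AA_sq {x : G} (hx : x ∈ AA t) : x * x = 1 := by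
  rcases h.mem_AA.1 hx with rfl | ⟨k, rfl⟩ | ⟨k, l, -, rfl⟩
  exacts [one_mul _, h.sq k, h.sq2 k l]

theorem AA_pg : IsPGroup 2 (AA t) := fun x => ⟨1, Subtype.ext (by simpa [pow_two] using h.AA_sq x.2)⟩

theorem swap_comm {g : G} {k l : Fin 5} (a : Ind t g (Equiv.swap k l)) : Commute g (t k * t l) :=
  comm_of_conj_eq (by rw [a.two, Equiv.swap_apply_left, Equiv.swap_apply_right, h.c])

end C5

variable (h : C5 t)
include h

theorem A_le {a : G} (ha : a ∈ AA t) : AA t ≤ Cz a := fun _ hx => mem_Cz.2 (h.AA_comm hx ha)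

theorem A_le_CA : AA t ≤ centralizer (AA t : Set G) := fun _ hx _ hy => h.AA_comm hy hx

theorem W2ne {a : G} (ha : W2 t a) : a ≠ 1 := by
  obtain ⟨k, l, e, rfl⟩ := ha
  exact h.ne2 e

theorem th_inv {a : G} (ha : a ∈ AA t) : AA t ≤ normalizer (th t a : Set G) :=
  MSS.le_normalizer_sup (nOc (A_le h ha)) ((A_le_CA h).trans (le_normalizer_opOf 2 _))

theorem eight {E : Subgroup G} (hE : E ≤ AA t) (f : Fin 5 → G) (hf : Function.Injective f) (hm : ∀ k, f k ∈ E) :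
    IsElementaryAbelian 2 E ∧ 2 ^ 3 ≤ Nat.card E := by
  refine ⟨⟨⟨⟨fun a b => Subtype.ext (h.AA_comm (hE a.2) (hE b.2))⟩⟩,
    fun a ha => by rw [pow_two, h.AA_sq (hE ha)]⟩, ?_⟩
  obtain ⟨m, e⟩ := IsPGroup.iff_card.1 (h.AA_pg.to_le hE)
  have h1 := Nat.card_le_card_of_injective (fun k => (⟨f k, hm k⟩ : E)) fun a b e => hf (congrArg Subtype.val e)
  rw [Nat.card_fin, e] at h1
  rw [e]
  refine Nat.pow_le_pow_right (by norm_num) (Nat.lt_of_not_le fun h2 => ?_)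
  have := Nat.pow_le_pow_right (n := 2) (by norm_num) h2
  omega

variable (l : ∀ {a b : G}, W2 t a → W2 t b → ⁅Oc b ⊓ Cz a, AA t⁆ ≤ Oc a)
include l

theorem bal {a b : G} (ha : W2 t a) (hb : W2 t b) : th t a ⊓ Cz b ≤ th t b := by
  intro x hx
  obtain ⟨o, ho, c, hc, rfl⟩ := (mem_sup_of_normalizes_left
    (nOc ((opOf_le 2 _).trans (CA_le ha.mem)))).1 (mem_inf.1 hx).1
  have h1 : o ∈ Cz b := by
    simpa using mul_mem (mem_inf.1 hx).2 (inv_mem (CA_le hb.mem (opOf_le 2 _ hc)))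
  obtain ⟨s, hs, c', hc', rfl⟩ := dec h.AA_pg (K := Oc a ⊓ Cz b)
    (MSS.le_normalizer_inf (nOc (A_le h ha.mem)) (nCz (A_le h hb.mem)))
    (coprime_card_of_le inf_le_left (opOf_coprime 2 _)) ⟨ho, h1⟩
  exact mul_mem (mul_mem_sup (l hb ha hs)
    (inf_le_opOf (nOc (CA_le ha.mem)) (opOf_coprime 2 _) ⟨hc'.1.1, hc'.2⟩)) (mem_sup_right hc)

theorem th'_eq {a : G} (ha : W2 t a) : th' t a = th t a :=
  le_antisymm (iSup_le fun b => bal h l b.2 ha) ((le_inf le_rfl (th_le ha.mem)).trans (le_th' ha a))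

theorem th'_four (k : Fin 5) :
    (Nat.card (th' t (t k))).Coprime 2 ∧ ∀ a, W2 t a → th' t (t k) ⊓ Cz a ≤ th t a := by
  obtain ⟨d, hd⟩ := exists_ne k
  obtain ⟨g, hg⟩ := h.perm (Equiv.swap k d)
  have g1 : ∀ j, j ≠ k → j ≠ d → Commute (t j) g := fun j h1 h2 =>
    (hg.comm (Equiv.swap_apply_of_ne_of_ne h1 h2)).symm
  have g2 : Commute (t k * t d) g := (h.swap_comm hg).symm
  have hk : t k ∉ AA t ⊓ Cz g := fun hm => hd (h.inj (by
    rw [← conj_eq_of_comm (mem_Cz.1 hm.2).symm, hg, Equiv.swap_apply_left]))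
  have kk : ∀ x, x * t k * t k = x := fun x => by rw [mul_assoc, h.sq, mul_one]
  obtain ⟨hE, h8⟩ := eight h (E := AA t ⊓ Cz g) inf_le_left
    (fun j => if j = k then 1 else if j = d then t k * t d else t j) (fun a b e => by
      simp only at e
      split_ifs at e with a1 b1 b2 a2 b1 b2 b1 b2
      exacts [a1.trans b1.symm, absurd e.symm (h.ne2 hd.symm), absurd e.symm (h.ne1 b),
        absurd e (h.ne2 hd.symm), a2.trans b2.symm, absurd e (h.ne21 hd.symm b), absurd e (h.ne1 a),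
        absurd e.symm (h.ne21 hd.symm a), h.inj e]) (fun j => by
      split_ifs with a1 a2
      exacts [one_mem _, ⟨mul_mem (t_mem k) (t_mem d), mem_Cz.2 g2⟩,
        ⟨t_mem j, mem_Cz.2 (g1 j a1 a2)⟩])
  set θ : G → Subgroup G := fun x => ⨆ a : {a // W2 t a ∧ (a = x ∨ a = x * t k)}, th t a ⊓ Cz (t k) with hθ
  have c1 : ∀ {a x y : G}, a = x ∨ a = x * t k → Commute y (t k) → (Commute y a ↔ Commute y x) := by
    rintro a x y (rfl | rfl) hy
    exacts [Iff.rfl, ⟨fun c => kk x ▸ c.mul_right hy, fun c => c.mul_right hy⟩]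
  have e1 : ∀ {a x : G}, W2 t a → a = x ∨ a = x * t k → θ x = th t a ⊓ Cz (t k) := fun {a x} ha e =>
    le_antisymm (iSup_le fun b y hy => ⟨bal h l b.2.1 ha ⟨hy.1, mem_Cz.2 ((c1 e (mem_Cz.1 hy.2)).2
      ((c1 b.2.2 (mem_Cz.1 hy.2)).1 (mem_Cz.1 (th_le b.2.1.mem hy.1))))⟩, hy.2⟩)
      (le_iSup (fun a : {a // W2 t a ∧ (a = x ∨ a = x * t k)} => th t a ⊓ Cz (t k)) ⟨a, ha, e⟩)
  have r1 : ∀ x ∈ AA t ⊓ Cz g, x ≠ 1 → ∃ a, W2 t a ∧ (a = x ∨ a = x * t k) := fun x hx h1 => by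
    rcases h.mem_AA.1 hx.1 with e | ⟨j, rfl⟩ | e
    · exact absurd e h1
    · exact ⟨_, ⟨j, k, fun e => hk (e ▸ hx), rfl⟩, Or.inr rfl⟩
    · exact ⟨x, e, Or.inl rfl⟩
  have r2 : ∀ a, W2 t a → ∃ x ∈ AA t ⊓ Cz g, x ≠ 1 ∧ (a = x ∨ a = x * t k) := fun a ha => by
    have key : Commute a g ∨ Commute (a * t k) g := by
      obtain ⟨i, j, e, rfl⟩ := ha
      have k1 : ∀ i j, j ≠ k → j ≠ d → Commute (t i * t j) g ∨ Commute (t i * t j * t k) g := fun i j a b => by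
        by_cases a1 : i = k
        · right; rw [a1, h.c k j, kk]; exact g1 j a b
        by_cases a2 : i = d
        · right; rw [a2, h.c d j, mul_assoc, h.c d k]; exact (g1 j a b).mul_left g2
        · exact Or.inl ((g1 i a1 a2).mul_left (g1 j a b))
      by_cases b1 : j ≠ k ∧ j ≠ d
      · exact k1 i j b1.1 b1.2
      by_cases b2 : i ≠ k ∧ i ≠ d
      · rw [h.c i j]; exact k1 j i b2.1 b2.2
      have : (i = k ∧ j = d) ∨ (i = d ∧ j = k) := by omega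
      rcases this with ⟨rfl, rfl⟩ | ⟨rfl, rfl⟩
      exacts [Or.inl g2, Or.inl (h.c _ _ ▸ g2)]
    rcases key with c | c
    · exact ⟨a, ⟨ha.mem, mem_Cz.2 c⟩, W2ne h ha, Or.inl rfl⟩
    · refine ⟨_, ⟨mul_mem ha.mem (t_mem k), mem_Cz.2 c⟩, fun e => ?_, Or.inr (kk a).symm⟩
      obtain ⟨i, j, e', rfl⟩ := ha
      exact h.ne21 e' k (by rw [← kk (t i * t j), e, one_mul])
  obtain ⟨o, b⟩ := CL.NS.nsft_two hE h8 (θ := θ) ⟨fun x hx h1 => by
      obtain ⟨a, ha, e⟩ := r1 x hx h1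
      rw [e1 ha e]
      exact fun y hy => mem_Cz.2 ((c1 e (mem_Cz.1 hy.2)).1 (mem_Cz.1 (th_le ha.mem hy.1))),
    fun x hx h1 => by
      obtain ⟨a, ha, e⟩ := r1 x hx h1
      rw [e1 ha e]
      exact coprime_card_iff_not_dvd.1 (coprime_card_of_le inf_le_left (th_odd ha.mem)),
    fun x hx h1 y hy => by
      obtain ⟨a, ha, e⟩ := r1 x hx h1
      rw [e1 ha e]
      exact fun w hw => conj_mem_of_normalizes
        (MSS.le_normalizer_inf (th_inv h ha.mem) (nCz (A_le h (t_mem k)))) hy.1 hw,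
    fun x hx h1 y hy h2 => by
      obtain ⟨a, ha, e⟩ := r1 x hx h1
      obtain ⟨b, hb, e'⟩ := r1 y hy h2
      rw [e1 ha e, e1 hb e']
      exact fun w hw => ⟨bal h l ha hb ⟨hw.1.1, mem_Cz.2 ((c1 e' (mem_Cz.1 hw.1.2)).2 (mem_Cz.1 hw.2))⟩,
        hw.1.2⟩⟩
  have hle : th' t (t k) ≤ signalizerClosure (AA t ⊓ Cz g) θ := iSup_le fun a => by
    obtain ⟨x, hx, h1, e⟩ := r2 a a.2
    rw [← e1 a.2 e]
    exact le_iSup (fun a : {a // a ∈ AA t ⊓ Cz g ∧ a ≠ 1} => θ a) ⟨x, hx, h1⟩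
  refine ⟨coprime_card_of_le hle (coprime_card_iff_not_dvd.2 o), fun a ha y hy => ?_⟩
  obtain ⟨x, hx, h1, e⟩ := r2 a ha
  have : y ∈ θ x := b x hx h1 ▸
    mem_inf.2 ⟨hle hy.1, mem_Cz.2 ((c1 e (mem_Cz.1 (th'_le _ hy.1))).1 (mem_Cz.1 hy.2))⟩
  rw [e1 ha e] at this
  exact this.1

theorem exists_odd : ∃ X : Subgroup G, ¬ 2 ∣ Nat.card X ∧ ∀ a, W2 t a → Oc a ≤ X := by
  obtain ⟨hE, h8⟩ := eight h le_rfl t h.inj t_mem
  have inv : ∀ x ∈ AA t, AA t ≤ normalizer (th' t x : Set G) := fun x hx => le_normalizer_of_cj_le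
    fun y hy => by
      rw [th', cj_iSup]
      exact iSup_mono fun a => (cj_eq_of_mem_normalizer
        (MSS.le_normalizer_inf (th_inv h a.2.mem) (nCz (A_le h hx)) hy)).le
  obtain ⟨o, -⟩ := CL.NS.nsft_two hE h8 (θ := th' t) ⟨fun x _ _ => th'_le x, fun x hx h1 => by
      rcases h.mem_AA.1 hx with e | ⟨k, rfl⟩ | e
      · exact absurd e h1
      · exact coprime_card_iff_not_dvd.1 (th'_four h l k).1
      · rw [th'_eq h l e]; exact coprime_card_iff_not_dvd.1 (th_odd hx),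
    fun x hx _ y hy w hw => conj_mem_of_normalizes (inv x hx) hy hw, fun x hx h1 y hy h2 => by
      rcases h.mem_AA.1 hx with e | ⟨k, rfl⟩ | e
      · exact absurd e h1
      · rcases h.mem_AA.1 hy with e | ⟨j, rfl⟩ | e
        · exact absurd e h2
        · by_cases e : k = j
          · rw [e]; exact inf_le_left
          · exact fun w hw => le_th' ⟨k, j, e, rfl⟩ _ ⟨(th'_four h l k).2 _ ⟨k, j, e, rfl⟩ ⟨hw.1,
              mem_Cz.2 ((mem_Cz.1 (th'_le _ hw.1)).mul_right (mem_Cz.1 hw.2))⟩, hw.2⟩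
        · rw [th'_eq h l e]; exact (th'_four h l k).2 y e
      · rw [th'_eq h l e]; exact le_th' e y⟩
  refine ⟨_, o, fun a ha => le_trans ?_
    (le_iSup (fun a : {a // a ∈ AA t ∧ a ≠ 1} => th' t a) ⟨a, ha.mem, W2ne h ha⟩)⟩
  change _ ≤ th' t a
  rw [th'_eq h l ha]; exact le_sup_left

end CL.L5.S5

namespace CL.Lm

open Subgroup Cfsg CL.MSS CL.PComp
open CL.L5 (Cz Oc mem_Cz conj_mem_Oc conj_mem_Oc_conj)
open CL.L5.Sg (nOc nCz back back' dec)
open scoped commutatorElement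

namespace Sg

variable {G : Type*} [Group G] [Finite G] {ι : Type*} {t : ι → ι → G}

theorem cg {A : Type*} [CommGroup A] (w a b c d e : A) : w * a * (w * b) * (w * c) * (w * d) * (w * e) =
    w * w * (w * w) * (w * (a * b * c * d * e)) := by ac_rfl

/-- weight 2 in the frame. -/
def V2 (t : ι → ι → G) (a : G) : Prop := ∃ k l, k ≠ l ∧ a = t k l

theorem V2.mem {a : G} (h : V2 t a) : a ∈ AA t := by
  obtain ⟨k, l, -, rfl⟩ := h
  exact t_mem k l

theorem CA_le {a : G} (ha : a ∈ AA t) : centralizer (AA t : Set G) ≤ Cz a :=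
  centralizer_le (Set.singleton_subset_iff.2 ha)

/-- the four-group of a triangle. -/
def BB (t : ι → ι → G) (k l m : ι) : Subgroup G := zpowers (t k l) ⊔ zpowers (t l m)

/-- `Θ(B)`. -/
def TB (t : ι → ι → G) (k l m : ι) : Subgroup G :=
  (⁅Oc (t k l), BB t k l m⁆ ⊔ ⁅Oc (t l m), BB t k l m⁆ ⊔ ⁅Oc (t k m), BB t k l m⁆) ⊔
    (Oc (t k l) ⊓ Oc (t l m) ⊓ Oc (t k m))

/-- `Θ`. -/
def TA (t : ι → ι → G) : Subgroup G :=
  (⨆ a : {a // V2 t a}, ⁅Oc (a : G), AA t⁆) ⊔ ⨅ a : {a // V2 t a}, Oc (a : G)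

theorem BB_le (k l m : ι) : BB t k l m ≤ AA t := sup_le (zpowers_le.2 (t_mem k l)) (zpowers_le.2 (t_mem l m))

theorem le_TA {a : G} (ha : V2 t a) : ⁅Oc a, AA t⁆ ≤ TA t :=
  (le_iSup (fun a : {a // V2 t a} => ⁅Oc (a : G), AA t⁆) ⟨a, ha⟩).trans le_sup_left

variable (h : Fm t)
include h

theorem A_le {a : G} (ha : a ∈ AA t) : AA t ≤ Cz a := fun _ hx => mem_Cz.2 (h.AA_comm hx ha)

theorem exists_c5 (u : Fin 5 → ι) (hu : Function.Injective u) :
    ∃ s : Fin 5 → G, L5.S5.C5 s ∧ (∀ k, s k ∈ AA t) ∧ ∀ k l, s k * s l = t (u k) (u l) := by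
  letI : CommGroup (AA t) := { (inferInstance : Group (AA t)) with
    mul_comm := fun a b => Subtype.ext (h.AA_comm a.2 b.2) }
  let r : ι → AA t := fun i => ⟨t (u 0) i, t_mem _ _⟩
  have rr : ∀ i j, t i j = (r i * r j : AA t) := fun i j => by
    change _ = t (u 0) i * t (u 0) j
    rw [h.symm (u 0) i, h.mul]
  have sq : ∀ x : AA t, x * x = 1 := fun x => Subtype.ext (h.AA_sq x.2)
  have r0 : r (u 0) = 1 := Subtype.ext (h.self _)
  set w := ∏ k, r (u k) with hw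
  have w5 := hw.trans (Fin.prod_univ_five _)
  have ss : ∀ k l, ((w * r (u k) : AA t) : G) * (w * r (u l) : AA t) = t (u k) (u l) := fun k l => by
    rw [rr, ← coe_mul, mul_mul_mul_comm, sq, one_mul]
  refine ⟨fun k => (w * r (u k) : AA t), ⟨fun k => h.AA_sq (w * r (u k)).2,
    fun k l => h.AA_comm (w * r (u k)).2 (w * r (u l)).2, ?_, fun {k l} e => ss k l ▸ h.ne _ _ (hu.ne e), fun e => ?_,
    fun σ => ?_⟩, fun k => (w * r (u k)).2, ss⟩
  · simp only [← coe_mul, OneMemClass.coe_eq_one]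
    rw [cg, ← w5, sq, sq, one_mul]
  · refine h.ne4 (u 1) (u 2) (u 3) (u 4) (D4.map (by simp [D4]) hu) ?_
    rw [r0, mul_one, w5, r0, one_mul, mul_assoc, coe_mul, ← rr, ← rr] at e
    rw [eq_inv_of_mul_eq_one_left e, h.inv]
  · obtain ⟨ρ, hρ⟩ := Equiv.Perm.exists_extending_pair u (u ∘ σ) hu (hu.comp σ.injective)
    obtain ⟨g, hg⟩ := h.perm ρ
    refine ⟨g, fun k => ?_⟩
    have e1 : ∀ (f : Fin 5 → ι) k, ((∏ k, r (f k)) * r (f k) : AA t) =
        t (f 0) (f 1) * t (f 2) (f 3) * t (f 4) (f k) := fun f k => by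
      rw [rr, rr, rr, ← coe_mul, ← coe_mul, Fin.prod_univ_five]; simp only [mul_assoc]
    have e2 := e1 (u ∘ σ) k
    simp only [Function.comp_apply] at e2 hρ
    rw [Equiv.prod_comp σ fun k => r (u k)] at e2
    simp only [hw]
    rw [e1 u k, e2, ← L5.conj_mul_conj, ← L5.conj_mul_conj, hg, hg, hg, hρ, hρ, hρ, hρ, hρ, hρ]

theorem CB_le (k l m : ι) : Cz (t k l) ⊓ Cz (t l m) ≤ centralizer (BB t k l m : Set G) := by
  rw [le_centralizer_iff]
  exact sup_le (zpowers_le.2 fun x hx => mem_Cz.1 hx.1) (zpowers_le.2 fun x hx => mem_Cz.1 hx.2)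

theorem nTB (k l m : ι) : Cz (t k l) ⊓ Cz (t l m) ≤ normalizer (TB t k l m : Set G) := by
  have h3 : Cz (t k l) ⊓ Cz (t l m) ≤ Cz (t k m) := fun x hx =>
    mem_Cz.2 (h.mul k l m ▸ (mem_Cz.1 hx.1).mul_right (mem_Cz.1 hx.2))
  have hB := (CB_le h k l m).trans (centralizer_le_normalizer _)
  exact MSS.le_normalizer_sup (MSS.le_normalizer_sup (MSS.le_normalizer_sup
    (MSS.le_normalizer_commutator (nOc inf_le_left) hB) (MSS.le_normalizer_commutator (nOc inf_le_right) hB))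
    (MSS.le_normalizer_commutator (nOc h3) hB))
    (MSS.le_normalizer_inf (MSS.le_normalizer_inf (nOc inf_le_left) (nOc inf_le_right)) (nOc h3))

variable {a₀ b₀ : ι} (ab : a₀ ≠ b₀) (l : Lc t a₀ b₀)
include ab

theorem V2.rep {a : G} (ha : V2 t a) : ∃ g σ, Ind t g σ ∧ a = g * t a₀ b₀ * g⁻¹ := by
  obtain ⟨k, l, e, rfl⟩ := ha
  obtain ⟨σ, rfl, rfl⟩ := exists_perm2 ab e
  obtain ⟨g, hg⟩ := h.perm σ
  exact ⟨g, σ, hg, (hg _ _).symm⟩

include l

theorem L1 {a b : G} (ha : V2 t a) (hb : V2 t b) {x : G} (hx : x ∈ Oc b) (hc : Commute x a) {y : G}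
    (hy : y ∈ AA t) : ⁅x, y⁆ ∈ Oc a := by
  have key : ∀ m n, ⁅x, t m n⁆ ∈ Oc a := fun m n => by
    obtain ⟨g, σ, hg, rfl⟩ := ha.rep h ab
    obtain ⟨k, k', e, rfl⟩ := hb
    have h1 := l.l1 (σ⁻¹ k) (σ⁻¹ k') (fun e' => e (σ⁻¹.injective e')) _
      (hg.inv k k' ▸ conj_mem_Oc_conj g⁻¹ hx) (back' hc) (σ⁻¹ m) (σ⁻¹ n)
    refine back ?_
    rw [← hg.inv m n] at h1
    rw [commutatorElement_def, h.inv]
    convert h1 using 1; group
  have st : ∀ y m n, ⁅x, y⁆ ∈ Oc a → y ∈ AA t → ⁅x, y * t m n⁆ ∈ Oc a := fun y m n h1 h2 => by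
    have := mul_mem h1 (conj_mem_Oc (h.AA_comm h2 ha.mem) (key m n))
    simp only [commutatorElement_def] at this ⊢
    convert this using 1; group
  induction hy using closure_induction_right with
  | one => simp
  | mul_right y hy _ hm ih => obtain ⟨m, n, rfl⟩ := hm; exact st y m n ih hy
  | mul_inv_cancel y hy _ hm ih => obtain ⟨m, n, rfl⟩ := hm; rw [h.inv]; exact st y m n ih hy

theorem L1' {a b : G} (ha : V2 t a) (hb : V2 t b) : ⁅Oc b ⊓ Cz a, AA t⁆ ≤ Oc a :=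
  commutator_le.2 fun _ hx _ hy => L1 h ab l ha hb hx.1 (mem_Cz.1 hx.2) hy

theorem L2 {a : G} (ha : V2 t a) {k k' m : ι} (e1 : k ≠ k') (e2 : k' ≠ m) (e3 : k ≠ m) {x : G}
    (hx : x ∈ Oc (t k k') ⊓ Oc (t k' m) ⊓ Oc (t k m)) (hc : Commute x a) : x ∈ Oc a := by
  obtain ⟨g, σ, hg, rfl⟩ := ha.rep h ab
  exact back (l.l2 (σ⁻¹ k) (σ⁻¹ k') (σ⁻¹ m) (fun e' => e1 (σ⁻¹.injective e'))
    (fun e' => e2 (σ⁻¹.injective e')) (fun e' => e3 (σ⁻¹.injective e')) _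
    ⟨⟨hg.inv k k' ▸ conj_mem_Oc_conj g⁻¹ hx.1.1, hg.inv k' m ▸ conj_mem_Oc_conj g⁻¹ hx.1.2⟩,
      hg.inv k m ▸ conj_mem_Oc_conj g⁻¹ hx.2⟩ (back' hc))

theorem TA_eq {k j m : ι} (e1 : k ≠ j) (e2 : j ≠ m) (e3 : k ≠ m) : TA t = TB t k j m := by
  have w1 : V2 t (t k j) := ⟨k, j, e1, rfl⟩
  have w2 : V2 t (t j m) := ⟨j, m, e2, rfl⟩
  have w3 : V2 t (t k m) := ⟨k, m, e3, rfl⟩
  have m1 : t k j ∈ BB t k j m := mem_sup_left (mem_zpowers _)
  have m2 : t j m ∈ BB t k j m := mem_sup_right (mem_zpowers _)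
  have m3 : t k m ∈ BB t k j m := h.mul k j m ▸ mul_mem m1 m2
  have nA : AA t ≤ normalizer (TB t k j m : Set G) :=
    (le_inf (A_le h w1.mem) (A_le h w2.mem)).trans (nTB h k j m)
  have nC : centralizer (AA t : Set G) ≤ normalizer (TB t k j m : Set G) :=
    (le_inf (CA_le w1.mem) (CA_le w2.mem)).trans (nTB h k j m)
  have s1 : ∀ b, V2 t b → ⁅Oc b, BB t k j m⁆ ≤ TB t k j m → ⁅Oc b, AA t⁆ ≤ TB t k j m := fun b hb hle =>
    commutator_le.2 fun x hx y hy => by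
      obtain ⟨s, hs, c, hc, rfl⟩ := dec (h.AA_pg.to_le (BB_le k j m)) ((BB_le k j m).trans (nOc (A_le h hb.mem)))
        (opOf_coprime 2 _) hx
      have k1 : ∀ a, V2 t a → a ∈ BB t k j m → ⁅c, y⁆ ∈ Oc a := fun a ha hm =>
        L1 h ab l ha hb hc.1 (Eq.symm (hc.2 a hm)) hy
      have := mul_mem (mul_mem (hle hs) (mem_sup_right (S := _) ⟨⟨k1 _ w1 m1, k1 _ w2 m2⟩, k1 _ w3 m3⟩))
        (conj_mem_of_normalizes nA hy (inv_mem (hle hs)))
      simp only [commutatorElement_def] at this ⊢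
      convert this using 1; group
  have s2 : ∀ a, V2 t a → ∀ b, V2 t b → ⁅Oc b, BB t k j m⁆ ≤ TB t k j m →
      Oc a ⊓ Cz b ≤ TB t k j m ⊔ centralizer (AA t : Set G) := fun a ha b hb hle x hx => by
    have n1 := MSS.le_normalizer_inf (nOc (A_le h ha.mem)) (nCz (A_le h hb.mem))
    have o1 : (Nat.card ↥(Oc a ⊓ Cz b)).Coprime 2 := coprime_card_of_le inf_le_left (opOf_coprime 2 _)
    obtain ⟨s, hs, c, hc, rfl⟩ := dec h.AA_pg n1 o1 hx
    refine mul_mem_sup (s1 b hb hle ?_) hc.2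
    refine (CL.commutator_le_of_mul_centralizer (fun y hy => ?_)).trans
      (commutator_mono (L1' h ab l hb ha) le_rfl) hs
    obtain ⟨s, hs, c, hc, e⟩ := dec h.AA_pg n1 o1 hy
    exact ⟨s, hs, c, hc.2, e⟩
  have l1 : ⁅Oc (t k j), BB t k j m⁆ ≤ TB t k j m := (le_sup_left.trans le_sup_left).trans le_sup_left
  have l2 : ⁅Oc (t j m), BB t k j m⁆ ≤ TB t k j m := (le_sup_right.trans le_sup_left).trans le_sup_left
  have l3 : ⁅Oc (t k m), BB t k j m⁆ ≤ TB t k j m := le_sup_right.trans le_sup_left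
  have l4 : ∀ {b}, V2 t b → ⨅ a : {a // V2 t a}, Oc (a : G) ≤ Oc b := fun hb =>
    iInf_le (fun a : {a // V2 t a} => Oc (a : G)) ⟨_, hb⟩
  refine le_antisymm (sup_le (iSup_le fun a => ?_) (le_sup_of_le_right (le_inf (le_inf
    (l4 w1) (l4 w2)) (l4 w3)))) (sup_le (sup_le (sup_le
    ((commutator_mono le_rfl (BB_le k j m)).trans (le_TA w1))
    ((commutator_mono le_rfl (BB_le k j m)).trans (le_TA w2)))
    ((commutator_mono le_rfl (BB_le k j m)).trans (le_TA w3))) fun x hx => ?_)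
  · have n := nOc (A_le h a.2.mem)
    have h1 := CL.Std.le_of_four_cent (h.ord e2) (h.ord e1) (h.comm k j j m)
      (fun e => h.ne k m e3 (by rw [← h.mul k j m, e, h.sq])) (opOf_coprime 2 _) (n w2.mem) (n w1.mem)
      (s2 a a.2 _ w1 l1) (s2 a a.2 _ w2 l2) (by rw [h.mul]; exact s2 a a.2 _ w3 l3)
    refine (CL.commutator_le_of_mul_centralizer (S := TB t k j m) (fun y hy => ?_)).trans
      (commutator_le_left_of_normalizes nA)
    obtain ⟨s, hs, c, hc, e⟩ := (mem_sup_of_normalizes_left nC).1 (h1 hy)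
    exact ⟨s, hs, c, hc, e.symm⟩
  · obtain ⟨s, hs, c, hc, rfl⟩ := dec h.AA_pg (MSS.le_normalizer_inf (MSS.le_normalizer_inf
      (nOc (A_le h w1.mem)) (nOc (A_le h w2.mem))) (nOc (A_le h w3.mem)))
      (coprime_card_of_le inf_le_right (opOf_coprime 2 _)) hx
    exact mul_mem (le_TA w3 (commutator_mono inf_le_right le_rfl hs)) (mem_sup_right (mem_iInf.2 fun a =>
      L2 h ab l a.2 e1 e2 e3 hc.1 (mem_Cz.1 (CA_le a.2.mem hc.2))))

end Sg

open Sg in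
/-- see the header. -/
theorem sig {G : Type*} [Group G] [Finite G] [IsSimpleGroup G] {ι : Type*} [Finite ι] {t : ι → ι → G} (h : Fm t)
    (h5 : 5 ≤ Nat.card ι) {a b : ι} (hab : a ≠ b) (l : Lc t a b) (g : Gn t) : ∀ x ∈ Oc (t a b), ∀ i j, Commute x (t i j) := by
  classical
  obtain ⟨c, hc⟩ := exists_new [a, b] (by simp; omega)
  obtain ⟨d, hd⟩ := exists_new [a, b, c] (by simp; omega)
  obtain ⟨f, hf⟩ := exists_new [a, b, c, d] (by simp; omega)
  simp only [List.mem_cons, List.not_mem_nil, or_false, not_or] at hc hd hf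
  obtain ⟨ca, cb⟩ := hc
  obtain ⟨da, db, dc⟩ := hd
  obtain ⟨fa, fb, fc, fd⟩ := hf
  have w1 : V2 t (t a b) := ⟨a, b, hab, rfl⟩
  have hB : ∀ k j m, k ≠ j → j ≠ m → k ≠ m → Cz (t k j) ⊓ Cz (t j m) ≤ normalizer (TA t : Set G) :=
    fun k j m e1 e2 e3 => by rw [TA_eq h hab l e1 e2 e3]; exact nTB h k j m
  have h1 : Oc (t a b) ≤ normalizer (TA t : Set G) := fun x hx => by
    obtain ⟨s, hs, c', hc, rfl⟩ := dec h.AA_pg (nOc (A_le h w1.mem)) (opOf_coprime 2 _) hx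
    exact mul_mem (le_normalizer (le_TA w1 hs)) (hB a b c hab (Ne.symm cb) (Ne.symm ca)
      ⟨CA_le w1.mem hc.2, CA_le (t_mem b c) hc.2⟩)
  have D : D4 a b c d := ⟨hab, Ne.symm ca, Ne.symm da, Ne.symm cb, Ne.symm db, Ne.symm dc⟩
  obtain ⟨g₁, h₁⟩ := h.perm (Equiv.swap a c)
  obtain ⟨g₂, h₂⟩ := h.perm (Equiv.swap b d)
  have s := @Equiv.swap_apply_of_ne_of_ne ι _
  have m₁ := hB b d f (Ne.symm db) (Ne.symm fd) (Ne.symm fb) ⟨mem_Cz.2 (h₁.comm (s hab.symm (Ne.symm cb)) (s da dc)),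
    mem_Cz.2 (h₁.comm (s da dc) (s fa fc))⟩
  have m₂ := hB a c f (Ne.symm ca) (Ne.symm fc) (Ne.symm fa) ⟨mem_Cz.2 (h₂.comm (s hab (Ne.symm da)) (s cb (Ne.symm dc))),
    mem_Cz.2 (h₂.comm (s cb (Ne.symm dc)) (s fb fd))⟩
  have e₁ : g₁ * t a b * g₁⁻¹ = t c b := by rw [h₁, Equiv.swap_apply_left, s hab.symm (Ne.symm cb)]
  have h2 := g a b c d D _ (l.l3 c d f D ⟨hab, Ne.symm da, Ne.symm fa, Ne.symm db, Ne.symm fb, Ne.symm fd⟩ (Ne.symm fc) _ h1
    (hB a b c hab (Ne.symm cb) (Ne.symm ca)) (hB a b d hab (Ne.symm db) (Ne.symm da))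
    (hB a b f hab (Ne.symm fb) (Ne.symm fa)) (hB c d f (Ne.symm dc) (Ne.symm fd) (Ne.symm fc)))
    ⟨g₂ * g₁, mul_mem m₂ m₁, by
      rw [show g₂ * g₁ * t a b * (g₂ * g₁)⁻¹ = g₂ * (g₁ * t a b * g₁⁻¹) * g₂⁻¹ by group, e₁, h₂,
        Equiv.swap_apply_left, s cb (Ne.symm dc)]⟩ ⟨g₁, m₁, e₁.trans (h.symm _ _)⟩
  have hu : Function.Injective ![a, b, c, d, f] := fun x y => by
    fin_cases x <;> fin_cases y <;> simp [*, Ne.symm]
  obtain ⟨r, c5, rm, rr⟩ := exists_c5 h _ hu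
  have v : ∀ {x}, L5.Sg.W2 r x → V2 t x := fun ⟨k, l, e, e'⟩ => ⟨_, _, hu.ne e, e'.trans (rr k l)⟩
  obtain ⟨X, o, hX⟩ := L5.S5.exists_odd c5 fun ha hb => (commutator_mono le_rfl ((closure_le _).2 (by
    rintro _ ⟨k, rfl⟩; exact rm k))).trans (L1' h hab l (v ha) (v hb))
  have x1 : Oc (t a b) ≤ X := hX _ ⟨0, 1, by decide, (rr 0 1).symm⟩
  have x2 : Oc (t b c) ≤ X := hX _ ⟨1, 2, by decide, (rr 1 2).symm⟩
  have x3 : Oc (t a c) ≤ X := hX _ ⟨0, 2, by decide, (rr 0 2).symm⟩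
  have n : ∀ i j, ⁅Oc (t i j), BB t a b c⁆ ≤ Oc (t i j) := fun i j =>
    commutator_le_left_of_normalizes ((BB_le a b c).trans (nOc (A_le h (t_mem i j))))
  have h3 : TA t ≤ X := by
    rw [TA_eq h hab l hab (Ne.symm cb) (Ne.symm ca)]
    exact sup_le (sup_le (sup_le ((n _ _).trans x1) ((n _ _).trans x2)) ((n _ _).trans x3)) (inf_le_right.trans x3)
  rcases (normalizer_eq_top_iff.1 h2).eq_bot_or_eq_top with e | e
  · intro x hx i j
    exact commutatorElement_eq_one_iff_commute.1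
      (mem_bot.1 (e ▸ le_TA w1 (commutator_mem_commutator hx (t_mem i j))))
  · exact absurd (h.ord hab ▸ orderOf_dvd_natCard _ (h3 (e ▸ mem_top (t a b)))) o

end CL.Lm
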