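import Cfsg.Agent.FUS.Lm.ClS0
import Cfsg.Agent.FUS.Lm.ClId
import Cfsg.Agent.FUS.Lm.Blk
import Cfsg.Agent.S0281
import Cfsg.Agent.INV.L5.Cover
import Cfsg.Agent.S2089

/-! # `SL_m(q)` and `SU_m(q)` -/

set_option autoImplicit false

namespace CL.Lm

open Subgroup Cfsg Matrix

universe u

variable {F : Type*} [Field F] [Fintype F] {m q : ℕ}

theorem range_two {N : ℕ} (g : Fin 2 ↪ Fin N) : Set.range g = {g 0, g 1} := by
  ext r
  exact ⟨by rintro ⟨i, rfl⟩; fin_cases i; exacts [.inl rfl, .inr rfl], by rintro (rfl | rfl); exacts [⟨0, rfl⟩, ⟨1, rfl⟩]⟩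

/-- `sw`: `eL g [[0, 1], [-1, 0]]`, `g = ![i, j]`; `gen`: the blocks contain the elementary transvections; `iso`: `range_eL`, `eL_inj`;
`tor`: `FiniteField.pow_card_sub_one_eq_one`; `adj`: `exists_sl`. -/
theorem cl_SL (hm : 2 ≤ m) : Cl (slToMat m F) (ts F) F (Fintype.card F - 1) := by
  have : Nonempty (Fin m) := ⟨⟨0, by omega⟩⟩
  have r : ∀ {i j : Fin m} (h : i ≠ j), (eL (K := F) (pr h)).range = blk (slToMat m F) {i, j} := fun h => by
    rw [range_eL, range_two]; rfl
  refine ⟨fun x y h => Subtype.ext h, fun x => x.2, fun _ _ => rfl, fun i j h => ?_, fun k x => ?_, fun M h => ?_,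
    fun i j h => ⟨(MonoidHom.ofInjective (eL_inj _)).trans (MulEquiv.subgroupCongr (r h))⟩, fun x d h => ?_, fun g _ => ?_⟩
  · exact ⟨_, (r h).le ⟨⟨!![0, 1; -1, 0], by simp⟩, rfl⟩, CL.Chev.Phan.embM_gg (pr h) _ 0 0, CL.Chev.Phan.embM_gg (pr h) _ 1 1⟩
  · exact ⟨⟨rf F k * x.1 * rf F k, by simp [det_rf]⟩, rfl⟩
  · refine CL.SL.eq_top_of_transvection_mem M fun i j ij c => h i j ij fun r hr s => ?_
    simp only [Set.mem_insert_iff, Set.mem_singleton_iff, not_or] at hr
    change Matrix.transvection i j c r s = _ ∧ Matrix.transvection i j c s r = _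
    simp [Matrix.transvection, Ne.symm hr.1, Ne.symm hr.2]
  · replace h : x.1 = diagonal d := h
    have := x.2
    rw [h, det_diagonal] at this
    refine Subtype.ext ((Matrix.SpecialLinearGroup.coe_pow _ _).trans ?_)
    rw [h, diagonal_pow, show d ^ (Fintype.card F - 1) = fun _ => 1 from funext fun i => FiniteField.pow_card_sub_one_eq_one _
      (Finset.prod_ne_zero_iff.1 (this ▸ one_ne_zero) i (Finset.mem_univ i)), diagonal_one]
    rfl
  · obtain ⟨y, d, -, e⟩ := exists_sl g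
    exact ⟨y, d, e⟩

theorem ct_diag (hF : Fintype.card F = q ^ 2) (d : Fin m → F) : CL.SpU.ct hF (diagonal d) = diagonal fun i => d i ^ q := by
  ext r c
  rw [CL.SpU.ct_apply, diagonal_apply, diagonal_apply]
  by_cases e : r = c
  · rw [if_pos e, if_pos e.symm, e]
  · rw [if_neg e, if_neg (Ne.symm e), CL.SqField.zero_pow_q hF]

theorem ct_rf (hF : Fintype.card F = q ^ 2) (i : Fin m) : CL.SpU.ct hF (rf F i) = rf F i := by
  rw [rf, ct_diag]
  congr 1
  ext x
  split_ifs <;> simp [CL.SqField.neg_pow_q hF]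

theorem range_emb (hF : Fintype.card F = q ^ 2) {k : ℕ} (g : Fin k ↪ Fin m) :
    (CL.Chev.Phan.emb hF g).range = blk (CL.Uni.suMat m F q) (Set.range g) :=
  Subgroup.ext fun x => ⟨by rintro ⟨A, rfl⟩; exact bk_embM g A.1.1, fun h =>
    (CL.Chev.Phan.mem_range_emb hF g).2 fun r hr => funext fun c => by
      rw [mulVec_single_one, col_apply, (h r hr c).2, one_apply, Pi.single_apply]⟩

/-- `blk {i, j} = (CL.Chev.Phan.emb hF g).range` (`Bk.eq_embM`, `mem_range_emb`); `gen`: `gen_three`, `gen_ind`; `iso`: `SU₂(q) ≅ SL₂(q)` (library,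
see `psu_two` in `FUS/Ln/Alt`); `tor`: `d ^ q * d = 1`; `adj`: `D = gᴴ g` commutes with all `r_i r_j` (both `μ x` and `r_i r_j` are unitary), so it is diagonal (`m ≥ 3`)
with entries in `F_q^×`, which are norms: `g diag(d)` is unitary; its determinant `δ` has norm 1, correct one `d_i` by `δ⁻¹`. -/
theorem cl_SU (hF : Fintype.card F = q ^ 2) (o : Odd q) (hm : 3 ≤ m) {F₀ : Type*} [Field F₀] [Fintype F₀]
    (h0 : Fintype.card F₀ = q) : Cl (CL.Uni.suMat m F q) (tu hF o) F₀ (q + 1) := by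
  have q2 := CL.SqField.two_le hF
  have q3 : 3 ≤ q := by obtain ⟨k, rfl⟩ := o; omega
  have n1 : (-1 : F) ≠ 1 := fun h => by
    have a := CL.SqField.cast_q hF
    obtain ⟨k, rfl⟩ := o
    push_cast at a
    exact one_ne_zero (show (1 : F) = 0 by linear_combination a + k * h)
  have r : ∀ {i j : Fin m} (h : i ≠ j), (CL.Chev.Phan.emb hF (pr h)).range = blk (CL.Uni.suMat m F q) {i, j} := fun h => by
    rw [range_emb, range_two]; rfl
  obtain ⟨e⟩ := Cfsg.Agent.S0281.result hF h0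
  refine ⟨CL.Uni.suMat_injective _ _ _, fun x => x.1.2, fun _ _ => rfl, fun i j h => ?_, fun k x => ?_, fun M h => ?_,
    fun i j h => ⟨e.symm.trans ((MonoidHom.ofInjective (CL.Chev.Phan.emb_inj hF _)).trans (MulEquiv.subgroupCongr (r h)))⟩,
    fun x d h => ?_, fun g h => ?_⟩
  · refine ⟨_, (r h).le ⟨CL.SpU.mkSU hF !![0, 1; -1, 0] ?_ (by simp), rfl⟩, CL.Chev.Phan.embM_gg (pr h) _ 0 0,
      CL.Chev.Phan.embM_gg (pr h) _ 1 1⟩
    ext i j
    fin_cases i <;> fin_cases j <;>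
      simp [mul_apply, CL.SpU.ct_apply, CL.SqField.neg_pow_q hF, CL.SqField.zero_pow_q hF]
  · refine ⟨CL.SpU.mkSU hF (rf F k * CL.Uni.suMat m F q x * rf F k) ?_
      (by simp [det_rf, CL.Chev.Phan.det_mat]), rfl⟩
    rw [CL.SpU.ct_mul, CL.SpU.ct_mul, ct_rf]
    simp only [mul_assoc]
    rw [← mul_assoc (rf F k) (rf F k), rf_sq, one_mul, ← mul_assoc (CL.SpU.ct hF _), CL.Chev.Phan.ct_mat, one_mul, rf_sq]
  · have k : ∀ (g : Fin 2 ↪ Fin m) A, CL.Chev.Phan.emb hF g A ∈ M := fun g A =>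
      h (g 0) (g 1) (g.injective.ne zero_ne_one) (by rw [← range_two, ← range_emb hF]; exact ⟨A, rfl⟩)
    exact eq_top_iff.2 fun A _ => CL.Chev.Phan.gen_ind hF (by omega) (fun i h A => k _ A) (fun i h A =>
      CL.Chev.Phan.gen_three hF q3 (K := M.comap (CL.Chev.Phan.emb hF (CL.Chev.Phan.off i h)))
        (fun A => by rw [mem_comap, CL.Chev.Phan.emb_emb]; exact k _ A)
        (fun A => by rw [mem_comap, CL.Chev.Phan.emb_emb]; exact k _ A) A) A
  · have := CL.Chev.Phan.ct_mat hF x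
    rw [h, ct_diag, diagonal_mul_diagonal, ← diagonal_one, diagonal_eq_diagonal_iff] at this
    refine CL.Uni.suMat_injective _ _ _ ?_
    rw [map_pow, map_one, h, diagonal_pow, show d ^ (q + 1) = fun _ => 1 from funext fun i => (pow_succ _ _).trans (this i),
      diagonal_one]
  · obtain ⟨s, hs⟩ : ∃ s, CL.SpU.ct hF g.1 * g.1 = diagonal s := by
      refine ⟨_, (IsDiag.diagonal_diag fun r c rc => ?_).symm⟩
      obtain ⟨t, ht⟩ := exists_new [r, c] (by simp; omega)
      simp only [List.mem_cons, List.not_mem_nil, or_false, not_or] at ht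
      obtain ⟨x, hx⟩ := h r t
      have a : rf F r * rf F t * (rf F r * rf F t) = 1 := congrArg Subtype.val ((fm_ts (K := F) (by simpa) fun e => n1 (by
        linear_combination -e)).sq r t)
      have b : CL.SpU.ct hF (g.1 * (rf F r * rf F t)) * (g.1 * (rf F r * rf F t)) = CL.SpU.ct hF g.1 * g.1 := by
        rw [← hx, CL.SpU.ct_mul, mul_assoc, ← mul_assoc _ _ g.1, CL.Chev.Phan.ct_mat, one_mul]
      rw [CL.SpU.ct_mul, CL.SpU.ct_mul, ct_rf, ct_rf, rf_comm t r] at b
      have k : CL.SpU.ct hF g.1 * g.1 * (rf F r * rf F t) = rf F r * rf F t * (CL.SpU.ct hF g.1 * g.1) := by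
        conv_rhs => rw [← b]
        rw [← mul_assoc (rf F r * rf F t), ← mul_assoc (rf F r * rf F t), a, one_mul, mul_assoc]
      rw [rf_mul] at k
      exact comm_diagonal.1 k r c (by simp [Ne.symm ht.1, Ne.symm ht.2, rc.symm, n1])
    have s1 : ∀ i, s i ^ q = s i := by
      have := congrArg (CL.SpU.ct hF) hs
      rw [CL.SpU.ct_mul, CL.SpU.ct_ct, hs, ct_diag, diagonal_eq_diagonal_iff] at this
      exact fun i => (this i).symm
    have s0 : ∀ i, s i ≠ 0 := fun i => by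
      have u : g.1.det ≠ 0 := ((isUnit_iff_isUnit_det _).1 g.isUnit).ne_zero
      have := congrArg det hs
      rw [det_mul, CL.SpU.det_ct, det_diagonal] at this
      exact Finset.prod_ne_zero_iff.1 (this ▸ mul_ne_zero (pow_ne_zero _ u) u) i (Finset.mem_univ i)
    choose c hc using fun i => CL.SqField.exists_mul_pow_q_eq hF (μ := (s i)⁻¹) (by rw [inv_pow, s1])
    have un : ∀ d : Fin m → F, (∀ i, d i * d i ^ q = (s i)⁻¹) →
        CL.SpU.ct hF (g.1 * diagonal d) * (g.1 * diagonal d) = 1 := fun d hd => by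
      rw [CL.SpU.ct_mul, mul_assoc, ← mul_assoc _ g.1, hs, ct_diag, diagonal_mul_diagonal, diagonal_mul_diagonal,
        ← diagonal_one, diagonal_eq_diagonal_iff]
      exact fun i => by rw [mul_comm (s i), ← mul_assoc, mul_comm _ (d i), hd, inv_mul_cancel₀ (s0 i)]
    have δ := CL.SpU.det_pow_eq_one_of_unitary hF (un c hc)
    have δ0 : (g.1 * diagonal c).det ≠ 0 := fun e => by simp [e] at δ
    let i₀ : Fin m := ⟨0, by omega⟩
    refine ⟨CL.SpU.mkSU hF _ (un (fun i => c i * if i = i₀ then (g.1 * diagonal c).det⁻¹ else 1) fun i => ?_) ?_, _, rfl⟩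
    · rw [mul_pow, mul_mul_mul_comm, hc, ← pow_succ']
      split_ifs
      · rw [inv_pow, δ, inv_one, mul_one]
      · rw [one_pow, mul_one]
    · rw [← diagonal_mul_diagonal, ← mul_assoc, det_mul _ (diagonal fun i => if i = i₀ then _ else 1), det_diagonal,
        Finset.prod_ite_eq', if_pos (Finset.mem_univ _), mul_inv_cancel₀ δ0]

theorem lift_of {Γ : Type*} [Group Γ] (h : HasCyclicSchurMultiplier Γ 1) (p : commutator Γ = ⊤) (P : ℕ → Prop) :
    Lift.{u} Γ P := fun _ _ _ _ _ _ s k _ σ => CL.Schur.exists_lift_of_trivial_of_perfect h ⟨p⟩ σ ⟨s, k⟩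

theorem char_ne (o : Odd (Fintype.card F)) : ringChar F ≠ 2 := fun h => by
  have := FiniteField.even_card_of_char_two h
  obtain ⟨k, hk⟩ := o
  omega

/-- `Cl.s0`, `Cl.exists_rf`, `Cl.idf`; `CL.Chev.Cl.trivial_SL`, `CL.Schur.exists_lift_of_trivial_of_perfect`. -/
theorem gm_SL (o : Odd (Fintype.card F)) (hm : 4 ≤ m) :
    Gm.{u} (ringChar F) (Fintype.card F - 1) (ts F : Fin m → Fin m → _) := by
  have : Fact (ringChar F).Prime := ⟨CharP.char_is_prime F _⟩
  have : Finite (SpecialLinearGroup (Fin m) F) := Subtype.finite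
  have C := cl_SL (F := F) (m := m) (by omega)
  have p := CL.SL.commutator_eq_top_of_three_le (ι := Fin m) (F := F) (by simp; omega)
  have t : HasCyclicSchurMultiplier (SpecialLinearGroup (Fin m) F) 1 := by
    obtain ⟨n, rfl⟩ := Nat.exists_eq_add_of_le' (show 1 ≤ m by omega)
    have hc : Nat.card F = Fintype.card F := Nat.card_eq_fintype_card
    obtain ⟨k, hk⟩ := o
    exact CL.Chev.Cl.trivial_SL (by omega) (by omega) (by omega)
  refine ⟨C.s0 (char_ne o) (by simpa) ?_, C.exists_rf (char_ne o) (by simpa), C.idf (Ring.two_ne_zero (char_ne o)) (by simpa), p,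
    lift_of t p _, .inl (lift_of t p _)⟩
  have d : ringChar F ∣ Fintype.card F := (ringChar.spec F _).1 (FiniteField.cast_card_eq_zero F)
  exact Nat.Coprime.coprime_dvd_left d ((Nat.coprime_self_sub_right Fintype.card_pos).2 (by simp))

/-- as `gm_SL` (`F₀ = GaloisField`, or the fixed field); trivial multiplier unless `(m, q) = (4, 3)` (see `S2089`); for `SU₄(3)`: `e = 4 = 2 ^ 2`, and `lift2` is
the proof of `CL.L5.cover_SU4` with an arbitrary `σ`. -/
theorem gm_SU (hF : Fintype.card F = q ^ 2) (o : Odd q) (hm : 4 ≤ m) :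
    Gm.{u} (ringChar F) (q + 1) (tu hF o : Fin m → Fin m → _) := by
  have : Fact (ringChar F).Prime := ⟨CharP.char_is_prime F _⟩
  have : Finite (SpecialLinearGroup (Fin m) F) := Subtype.finite
  have := Fintype.ofFinite (CL.SqField.fixedSubfield hF)
  have q2 := CL.SqField.two_le hF
  have q3 : 3 ≤ q := by obtain ⟨k, rfl⟩ := o; omega
  have c2 : ringChar F ≠ 2 := char_ne (hF ▸ o.pow)
  have C := cl_SU (m := m) hF o (by omega) (F₀ := CL.SqField.fixedSubfield hF) (by
    rw [← Nat.card_eq_fintype_card, CL.SqField.card_fixedSubfield])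
  have p := CL.Uni.commutator_SU hF (n := m) (by omega) (by omega)
  suffices Lift.{u} (SU m F q) (fun n => ∃ k, n = 2 ^ k) ∧ (Lift.{u} (SU m F q) (fun _ => True) ∨ ∃ j, q + 1 = 2 ^ j) from
    ⟨C.s0 c2 (by simpa) (Nat.Coprime.coprime_dvd_left ((ringChar.spec F _).1 (CL.SqField.cast_q hF)) (by simp)),
      C.exists_rf c2 (by simpa), C.idf (Ring.two_ne_zero c2) (by simpa), p, this.1, this.2⟩
  by_cases h4 : 4 ≤ q
  · have t := CL.SUMult.trivial_of_three hF h4 (N := m) (by omega) (CL.SUMult.trivial_three hF q3)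
    exact ⟨lift_of t p _, .inl (lift_of t p _)⟩
  obtain rfl : q = 3 := by omega
  have e : CL.F24.F9 ≃+* F := FiniteField.ringEquivOfCardEq (by rw [hF, CL.F24.card_F9])
  obtain rfl | h5 : m = 4 ∨ 5 ≤ m := by omega
  swap
  · have t := CL.SUMult.trivial_of_five hF (.inl ⟨le_rfl, h5⟩)
      (CL.Schur.hasSchurMultiplier_congr_left CL.SUMult.Five3.main (CL.Uni.suCongr e 5 3))
    exact ⟨lift_of t p _, .inl (lift_of t p _)⟩
  refine ⟨fun L N _ _ _ π s k ⟨j, hj⟩ σ => ?_, .inr ⟨2, rfl⟩⟩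
  have hp1 := (⟨s, k⟩ : CL.Schur.IsCentralExt π).pbFst σ
  have h9 := CL.Schur.card_stemKer_dvd
    (CL.Schur.hasSchurMultiplier_congr_left Cfsg.Agent.S2090.main.2 (CL.Uni.suCongr e 4 3)) hp1
  rw [Nat.card_congr Multiplicative.toAdd, Nat.card_prod, Nat.card_zmod] at h9
  have h2 := card_dvd_of_le (CL.Schur.stemKer_le_ker (CL.Schur.pbFst σ π))
  rw [Nat.card_congr (CL.Schur.pbKerEquiv σ π).toEquiv, hj] at h2
  obtain ⟨s, hs⟩ := CL.Schur.exists_section_of_coprime hp1 (card_eq_one.1 (Nat.eq_one_of_dvd_coprimes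
    (Nat.Coprime.pow_right j (by norm_num)) h9 h2)) (by
      rw [CL.Schur.card_abelianization_of_perfect ⟨p⟩]; exact Nat.coprime_one_right _)
  exact CL.Schur.exists_lift_of_section σ π s hs

end CL.Lm
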