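import Cfsg.Agent.FUS.Lm.Mat
import Cfsg.Agent.FUS.Lm.Diag
import Cfsg.Agent.FUS.PSLMon

/-! # Automorphisms of odd order normalising a Sylow 2-subgroup -/

set_option autoImplicit false

namespace CL.Lm

open Subgroup Cfsg Matrix CL.Ln

variable {F : Type*} [Field F] [Fintype F] {n : ℕ}

theorem fix_of_odd {G : Type*} [Group G] {α : MulAut G} (h : Odd (orderOf α)) {x w : G} (a : α x = x * w) (b : α w = w)
    {k : ℕ} (w2 : w ^ 2 ^ k = 1) : α x = x := by
  have e : ∀ n : ℕ, (α ^ n) x = x * w ^ n := fun n => by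
    induction n with
    | zero => simp
    | succ n ih => rw [pow_succ', MulAut.mul_apply, ih, map_mul, map_pow, a, b, pow_succ', mul_assoc]
  have := e (orderOf α)
  rw [pow_orderOf_eq_one, MulAut.one_apply, left_eq_mul] at this
  rw [a, CL.L5.eq_one_of_odd_of_two (h.of_dvd_nat (orderOf_dvd_of_pow_eq_one this)) w2, mul_one]

/-- `CL.MonAut.rigid_psl`: `α` (with inverse `α⁻¹`) is a `CL.Fus.Corr` from the group fusion system to itself (`α` maps the finite `S` onto `S` and
conjugation by `g` to conjugation by `α g`; look for a lemma producing `Corr` from a group isomorphism in `FUS/`), and `CopOn 2` with `n = orderOf α`. -/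
theorem rig_psl (o : Odd (Fintype.card F)) (hn : 3 ≤ n) (S : Sylow 2 (PL n F)) (α : MulAut (PL n F)) (h : Odd (orderOf α))
    (m : ∀ x ∈ S, α x ∈ S) : ∀ x ∈ S, α x = x := by
  have : Finite (SpecialLinearGroup (Fin n) F) := Subtype.finite
  have e : (S : Subgroup (PL n F)).map α.toMonoidHom = S :=
    eq_of_le_of_card_ge (by rintro _ ⟨x, hx, rfl⟩; exact m x hx) (card_map_of_injective α.injective).ge
  have c := CL.Fus.corr_group_mulEquiv α (S : Subgroup (PL n F))
  rw [e] at c
  exact CL.MonAut.rigid_psl o (by omega) (by omega) S _ _ c ⟨orderOf α, h.coprime_two_right, fun x _ => by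
    have e : ∀ k : ℕ, α^[k] x = (α ^ k) x := fun k => by
      induction k with
      | zero => rfl
      | succ k ih => rw [Function.iterate_succ_apply', ih, pow_succ', MulAut.mul_apply]
    rw [e, pow_orderOf_eq_one, MulAut.one_apply]⟩

/-- `rig_psl` with `α = MulAut.conj g`. -/
theorem rig_conj (o : Odd (Fintype.card F)) (hn : 3 ≤ n) (S : Sylow 2 (PL n F)) (g : PL n F)
    (hg : g ∈ normalizer ((S : Subgroup (PL n F)) : Set (PL n F))) (h : Odd (orderOf g)) : ∀ s ∈ S, Commute g s := by
  exact fun s hs => CL.L5.comm_of_conj_eq (rig_psl o hn S (MulAut.conj g) (h.of_dvd_nat (orderOf_map_dvd _ g))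
    (fun x hx => (mem_normalizer_iff.1 hg x).1 hx) s hs)

/-- `α` induces an automorphism of `PSL` of odd order normalising the image of `R` (`Sylow.mapSurjective`), so `α x = x z(x)` with
`z(x) ∈ Z ⊓ R`.  `Z ⊓ R` is a cyclic 2-group (scalars), its automorphism group is a 2-group, so `α` fixes it; hence `α ^ k x = x z(x) ^ k`, and
`k = orderOf α` is odd while `z(x)` is a 2-element. -/
theorem rig_sl (o : Odd (Fintype.card F)) (hn : 3 ≤ n) (R : Sylow 2 (SpecialLinearGroup (Fin n) F))
    (α : MulAut (SpecialLinearGroup (Fin n) F)) (h : Odd (orderOf α)) (m : ∀ x ∈ R, α x ∈ R) : ∀ x ∈ R, α x = x := by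
  have : Finite (SpecialLinearGroup (Fin n) F) := Subtype.finite
  have : Nonempty (Fin n) := ⟨⟨0, by omega⟩⟩
  have cz : ∀ z ∈ center (SpecialLinearGroup (Fin n) F), α z ∈ center _ := fun z hz =>
    mem_center_iff.2 (α.surjective.forall.2 fun g => by rw [← map_mul, mem_center_iff.1 hz, map_mul])
  have pm : ∀ z ∈ center (SpecialLinearGroup (Fin n) F), z * z = 1 → z ≠ 1 → z.1 = -1 := fun z hz a b =>
    (mk_eq_sign a (one_mul 1) ((QuotientGroup.eq_one_iff z).2 hz)).resolve_left fun e => b (Subtype.ext e)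
  have fz : ∀ k : ℕ, ∀ z ∈ center (SpecialLinearGroup (Fin n) F), z ^ 2 ^ k = 1 → α z = z := fun k => by
    induction k with
    | zero => intro z _ e; rw [pow_zero, pow_one] at e; rw [e, map_one]
    | succ k ih =>
      intro z hz e
      have a := ih (z * z) (mul_mem hz hz) (by rw [← sq, ← pow_mul, ← pow_succ', e])
      have hw := mul_mem (inv_mem hz) (cz z hz)
      have w2 : z⁻¹ * α z * (z⁻¹ * α z) = 1 := by
        rw [mul_assoc, ← mul_assoc (α z), mem_center_iff.1 (inv_mem hz) (α z), mul_assoc, ← map_mul, a]; group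
      refine fix_of_odd h (mul_inv_cancel_left z _).symm ?_ (k := 1) (by rw [pow_one, sq, w2])
      generalize z⁻¹ * α z = w at hw w2
      by_cases w1 : w = 1
      · rw [w1, map_one]
      · exact Subtype.ext ((pm _ (cz w hw) (by rw [← map_mul, w2, map_one]) fun e => w1 (α.map_eq_one_iff.1 e)).trans
          (pm w hw w2 w1).symm)
  let β : MulAut (PL n F) := QuotientGroup.congr _ _ α (characteristic_iff_map_eq.1 inferInstance α)
  have e : ∀ (k : ℕ) x, (β ^ k) (QuotientGroup.mk x) = QuotientGroup.mk ((α ^ k) x) := fun k x => by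
    induction k with
    | zero => rfl
    | succ k ih => rw [pow_succ', pow_succ', MulAut.mul_apply, MulAut.mul_apply, ih]; rfl
  have r := rig_psl o hn (R.mapSurjective (QuotientGroup.mk'_surjective _)) β (h.of_dvd_nat (orderOf_dvd_of_pow_eq_one
    (MulEquiv.ext fun x => by
      obtain ⟨x, rfl⟩ := QuotientGroup.mk_surjective x
      rw [e, pow_orderOf_eq_one]; rfl))) (by rintro _ ⟨x, hx, rfl⟩; exact ⟨α x, m x hx, rfl⟩)
  intro x hx
  obtain ⟨k, hk⟩ := R.2 ⟨_, mul_mem (inv_mem hx) (m x hx)⟩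
  replace hk : (x⁻¹ * α x) ^ 2 ^ k = 1 := congrArg Subtype.val hk
  exact fix_of_odd h (mul_inv_cancel_left x _).symm (fz k _ (QuotientGroup.eq.1 (r _ ⟨x, hx, rfl⟩).symm) hk) hk

end CL.Lm
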