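import Cfsg.Agent.FUS.Lm.SC1

/-! # Strongly closed subgroups of a Sylow 2-subgroup of `SL_m(q)`, `q` odd, `m ≥ 3` -/

set_option autoImplicit false

namespace CL.Lm

open Subgroup Cfsg Matrix

variable {F : Type*} [Field F] [Finite F] {ι : Type*} [Fintype ι] [DecidableEq ι]

namespace SC

/-- the closure properties of `𝒰`. -/
structure UU (𝒰 : Set (GL ι F)) : Prop where
  h3 : 3 ≤ Fintype.card ι
  h2 : (2 : F) ≠ 0
  cj : ∀ x ∈ 𝒰, ∀ g, g * x * g⁻¹ ∈ 𝒰
  ml : ∀ {Q : Subgroup (GL ι F)}, IsPGroup 2 Q → ∀ {x y}, x ∈ Q → y ∈ Q → x ∈ 𝒰 → y ∈ 𝒰 → x * y ∈ 𝒰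
  w2 : ∀ i j, i ≠ j → sG F {i, j} ∈ 𝒰

variable {𝒰 : Set (GL ι F)} {x y s h ρ g : GL ι F} {I J : Finset ι}

omit [Finite F] in
theorem eq_conj {c : GL ι F} (e : x.1 * g.1 = g.1 * c.1) : x = g * c * g⁻¹ :=
  eq_mul_inv_of_mul_eq (Units.ext e)

omit [Finite F] in
theorem det_mul' (x y : GL ι F) : (x * y).1.det = x.1.det * y.1.det := det_mul _ _

omit [Finite F] [DecidableEq ι] in
theorem exists_notMem (h : I.card < Fintype.card ι) : ∃ k, k ∉ I := by
  by_contra! a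
  exact h.not_ge (Finset.card_le_card fun k _ => a k)

omit [Finite F] in
theorem rk_cj' (g y : GL ι F) : rk (g * y * g⁻¹).1 = rk y.1 := rk_conj (g := g) (by simp)

omit [Finite F] in
theorem Su.comm' {e e' : Matrix ι ι F} (h : x ∈ Su e) (a : e * e' = 0) (b : e' * e = 0) : x.1 * e' = e' * x.1 := by
  have a' : (x.1 - 1) * e' = 0 := by rw [← h.1, mul_assoc, a, MulZeroClass.mul_zero]
  have b' : e' * (x.1 - 1) = 0 := by rw [← h.2, ← mul_assoc, b, zero_mul]
  linear_combination (norm := noncomm_ring) a' - b'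

omit [Finite F] in
theorem mem_of_sg (h2 : (2 : F) ≠ 0) (a : (x.1 - 1) * sg F I = -(x.1 - 1)) (b : sg F I * (x.1 - 1) = -(x.1 - 1)) :
    x ∈ Su (pj F I) := by
  rw [sg_eq] at a b
  rw [mul_sub, mul_one, mul_smul_comm] at a
  rw [sub_mul, one_mul, smul_mul_assoc] at b
  constructor <;> refine smul_right_injective _ h2 ?_
  · linear_combination (norm := module) -a
  · linear_combination (norm := module) -b

omit [Finite F] in
theorem sG_empty : sG F (∅ : Finset ι) = 1 := Units.ext (by simp [sG, sg])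

variable (F) in
/-- the sign matrices supported on `I`. -/
def sgs (I : Finset ι) : Subgroup (GL ι F) where
  carrier := {y | ∃ J ⊆ I, y = sG F J}
  one_mem' := ⟨∅, I.empty_subset, sG_empty.symm⟩
  mul_mem' := by
    rintro _ _ ⟨A, hA, rfl⟩ ⟨B, hB, rfl⟩
    exact ⟨_, Finset.symmDiff_subset_union.trans (Finset.union_subset hA hB), sG_mul A B⟩
  inv_mem' := by rintro _ ⟨A, hA, rfl⟩; exact ⟨A, hA, inv_eq_of_mul_eq_one_right (sG_sq A)⟩

namespace UU

variable (U : UU 𝒰)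
include U

omit [Finite F] in
theorem ml2 (a : x * x = 1) (b : y * y = 1) (c : x * y = y * x) (hx : x ∈ 𝒰) (hy : y ∈ 𝒰) : x * y ∈ 𝒰 :=
  U.ml (sup_cm (pg_inv a) (pg_inv b) (by rintro _ ⟨n, rfl⟩ _ ⟨m, rfl⟩; exact Commute.zpow_zpow c n m))
    (mem_sup_left (mem_zpowers _)) (mem_sup_right (mem_zpowers _)) hx hy

omit [Finite F] in
theorem sgn (I : Finset ι) (h : Even I.card) : sG F I ∈ 𝒰 := by
  induction hn : I.card using Nat.strong_induction_on generalizing I with | _ n ih =>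
  by_cases h0 : 1 < I.card
  · obtain ⟨i, hi, j, hj, hij⟩ := Finset.one_lt_card.1 h0
    have a : ({i, j} : Finset ι) ⊆ I := by simp [Finset.insert_subset_iff, hi, hj]
    have b := Finset.card_sdiff_add_card_eq_card a
    rw [Finset.card_pair hij] at b
    have := U.ml2 (sG_sq _) (sG_sq _) (sG_comm _ _) (U.w2 i j hij)
      (ih _ (by omega) (I \ {i, j}) (by rw [← b] at h; simpa [Nat.even_add] using h) rfl)
    rwa [sG_mul, show symmDiff {i, j} (I \ {i, j}) = I by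
      ext r; have := @a r; simp only [Finset.mem_symmDiff, Finset.mem_sdiff]; tauto] at this
  · obtain ⟨i, j, hij⟩ := Fintype.exists_pair_of_one_lt_card (show 1 < Fintype.card ι by have := U.h3; omega)
    have := U.ml2 (sG_sq _) (sG_sq _) rfl (U.w2 i j hij) (U.w2 i j hij)
    rwa [sG_mul, symmDiff_self, show (⊥ : Finset ι) = I from (Finset.card_eq_zero.1 (by
      obtain ⟨r, hr⟩ := h; omega)).symm] at this

omit [Finite F] in
theorem inv1 (a : x * x = 1) (d : x.1.det = 1) : x ∈ 𝒰 := by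
  obtain ⟨g, I, e⟩ := diag1 U.h2 (M := x.1) (congrArg Units.val a)
  obtain rfl := eq_conj (c := sG F I) e
  rw [det_conj] at d
  refine U.cj _ (U.sgn I ((neg_one_pow_eq_one_iff_even (R := F) fun h => U.h2 ?_).1 ((det_sg I).symm.trans d))) g
  linear_combination -h

omit [Finite F] in
theorem two {Q : Subgroup (GL ι F)} (hQ : IsPGroup 2 Q) (sQ : s ∈ Q) (hQ' : h ∈ Q) (s2 : s * s = 1) (h2 : h * h = 1)
    (r2 : ρ * ρ = 1) (ds : s.1.det = -1) (dh : h.1.det = -1) (dr : ρ.1.det = -1) (cs : s * ρ = ρ * s)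
    (ch : h * ρ = ρ * h) : s * h ∈ 𝒰 := by
  have p := sup_cm (hQ.to_inf_left (K := centralizer {ρ})) (pg_inv r2) (by
    rintro a ha _ ⟨n, rfl⟩
    exact Commute.zpow_right (mem_centralizer_singleton_iff.1 ha.2) n)
  have r : ρ ∈ Q ⊓ centralizer {ρ} ⊔ zpowers ρ := mem_sup_right (mem_zpowers _)
  have := U.ml p (mul_mem (mem_sup_left ⟨sQ, mem_centralizer_singleton_iff.2 cs⟩) r)
    (mul_mem r (mem_sup_left ⟨hQ', mem_centralizer_singleton_iff.2 ch⟩))
    (U.inv1 (by rw [mul_assoc, ← mul_assoc ρ, ← cs, mul_assoc, r2, mul_one, s2]) (by simp [ds, dr]))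
    (U.inv1 (by rw [mul_assoc, ← mul_assoc h, ch, mul_assoc, h2, mul_one, r2]) (by simp [dh, dr]))
  rwa [mul_assoc, ← mul_assoc ρ, r2, one_mul] at this

omit [Finite F] in
theorem refl {Q : Subgroup (GL ι F)} (hQ : IsPGroup 2 Q) (hQ' : h ∈ Q) (sQ : s ∈ Q) (h2 : h * h = 1) (s2 : s * s = 1)
    (dh : h.1.det = -1) (ds : s.1.det = -1) (r : rk h.1 = 1) (z : (h.1 - 1) * ((s * h * s).1 - 1) = 0) : h * s ∈ 𝒰 := by
  have si : s⁻¹ = s := inv_eq_of_mul_eq_one_right s2
  have hh : h.1 * h.1 = 1 := congrArg Units.val h2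
  have ss : s.1 * s.1 = 1 := congrArg Units.val s2
  have rr : rk (s * h * s).1 = 1 := by rw [← r, ← rk_cj' s h, si]
  have a : s.1 * (s * h * s).1 = h.1 * s.1 := by rw [Units.val_mul, Units.val_mul, ← mul_assoc, ← mul_assoc, ss, one_mul]
  have b : s.1 * h.1 = (s * h * s).1 * s.1 := by rw [Units.val_mul, Units.val_mul, mul_assoc, ss, mul_one]
  have kk : (s * h * s).1 * (s * h * s).1 = 1 := by
    rw [← Units.val_mul, mul_assoc, ← mul_assoc s, ← mul_assoc s, s2, one_mul, mul_assoc, ← mul_assoc h, h2, one_mul, s2,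
      Units.val_one]
  generalize (s * h * s).1 = k at *
  have z' : (k - 1) * (h.1 - 1) = 0 := by
    have : (k - 1) * (h.1 - 1) * s.1 = s.1 * ((h.1 - 1) * (k - 1)) := by
      simp only [mul_sub, sub_mul, mul_one, one_mul, mul_assoc, ← a]
      simp only [← mul_assoc, b]
    rwa [z, mul_zero, Units.mul_left_eq_zero] at this
  have c : k * h.1 = h.1 * k := by linear_combination (norm := noncomm_ring) z' - z
  obtain ⟨g, hg⟩ := diag U.h2 (fun b : Bool => cond b s.1 (h.1 * k)) (by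
    rintro (_ | _)
    · change h.1 * k * (h.1 * k) = 1
      rw [mul_assoc, ← mul_assoc k, c, mul_assoc, kk, mul_one, hh]
    · exact ss) (by
    have : s.1 * (h.1 * k) = h.1 * k * s.1 := by rw [← mul_assoc, b, mul_assoc, a, ← mul_assoc, c]
    rintro (_ | _) (_ | _) <;> first | rfl | exact this | exact this.symm)
  obtain ⟨A, hA⟩ := hg true
  obtain ⟨B, hB⟩ := hg false
  change h.1 * k * g.1 = _ at hB
  obtain ⟨m, hm⟩ := exists_notMem (I := B) (by
    have := U.h3; have := rk_mul_le h.1 k; have := rk_conj hB; have := rk_sg U.h2 B; omega)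
  have y : g⁻¹ * h * g⁻¹⁻¹ ∈ Su (pj F B) := by
    have t : sg F B = (g⁻¹).1 * (h.1 * k) * g.1 := by rw [mul_assoc, hB, Units.inv_mul_cancel_left]
    have t' : (g⁻¹ * h * g⁻¹⁻¹).1 - 1 = (g⁻¹).1 * (h.1 - 1) * g.1 := by simp [mul_sub, sub_mul]
    have v : ∀ M N : Matrix ι ι F, (g⁻¹).1 * M * g.1 * ((g⁻¹).1 * N * g.1) = (g⁻¹).1 * (M * N) * g.1 := fun M N => by
      simp only [mul_assoc, Units.mul_inv_cancel_left]
    refine mem_of_sg U.h2 ?_ ?_ <;> rw [t, t', v, ← neg_mul, ← mul_neg] <;> congr 2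
    · linear_combination (norm := noncomm_ring) hh * k - z
    · linear_combination (norm := noncomm_ring) h.1 * c + hh * k - z
  obtain rfl := eq_conj (c := sG F A) hA
  refine U.two hQ hQ' sQ h2 s2 (ρ := g * sG F {m} * g⁻¹) (by rw [conj_mul, sG_sq]; simp) dh ds
    ((det_conj _ _).trans ((det_sg _).trans (by simp))) ?_ (by rw [conj_mul, conj_mul, sG_comm])
  have := pj_cm y ((sG_mem U.h2).2 le_rfl) (show Disjoint B {m} by simpa using hm)
  calc _ = g * (g⁻¹ * h * g⁻¹⁻¹ * sG F {m}) * g⁻¹ := by group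
    _ = _ := by rw [this]; group

theorem base {i j : ι} (hij : i ≠ j) (hx : x ∈ Su (pj F {i, j})) (d : x.1.det = 1) {k : ℕ} (e : x ^ 2 ^ k = 1) :
    x ∈ 𝒰 := by
  have e1 := eq_em (t2 hij) (range_t2 hij ▸ mem_pj.1 hx)
  generalize x.1.submatrix (t2 hij) (t2 hij) = A at e1
  have d0 := d
  rw [e1, det_em, det_fin_two] at d
  obtain ⟨S, S2, dS, SA⟩ : ∃ S : Matrix (Fin 2) (Fin 2) F, S * S = 1 ∧ S.det = -1 ∧ S * A * (S * A) = 1 := by
    have key : ∀ p q r : F, p * p + q * r = 1 → p * (A 0 0 - A 1 1) + q * A 1 0 + r * A 0 1 = 0 →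
        ∃ S : Matrix (Fin 2) (Fin 2) F, S * S = 1 ∧ S.det = -1 ∧ S * A * (S * A) = 1 := fun p q r a b => by
      refine ⟨!![p, q; r, -p], ?_, by rw [det_fin_two_of]; linear_combination -a, ?_⟩
      · ext u v
        fin_cases u <;> fin_cases v <;> simp [mul_apply, Fin.sum_univ_two] <;> grind
      · ext u v
        fin_cases u <;> fin_cases v <;> simp [mul_apply, Fin.sum_univ_two, vecMul, dotProduct] <;> grind
    by_cases b : A 0 1 = 0
    · by_cases c : A 1 0 = 0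
      · exact key 0 1 1 (by simp) (by simp [b, c])
      · exact key 1 ((A 1 1 - A 0 0) / A 1 0) 0 (by simp) (by field_simp; ring)
    · exact key 1 0 ((A 1 1 - A 0 0) / A 0 1) (by simp) (by field_simp; ring)
  have s2 : em (t2 hij) S * em (t2 hij) S = 1 := by rw [← em_mul, S2, em_one]
  let s : GL ι F := ⟨_, _, s2, s2⟩
  have s2 : s * s = 1 := Units.ext s2
  have hs : s ∈ Su (pj F {i, j}) := mem_pj.2 (range_t2 hij ▸ fun r hr => em_out _ _ hr)
  have h2 : s * x * (s * x) = 1 := Units.ext (by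
    change em _ S * x.1 * (em _ S * x.1) = 1
    rw [e1, ← em_mul, ← em_mul, SA, em_one])
  obtain ⟨m, hm⟩ := exists_notMem (I := {i, j}) (by have := U.h3; rw [Finset.card_pair hij]; omega)
  have c : ∀ y ∈ Su (pj F {i, j}), y * sG F {m} = sG F {m} * y := fun y hy =>
    pj_cm hy ((sG_mem U.h2).2 le_rfl) (by simpa using hm)
  have p := sup_zp (pg_zp e) (pg_inv s2) (by
    rintro _ ⟨n, rfl⟩
    rw [← conj_zpow, inv_eq_of_mul_eq_one_right s2, eq_inv_of_mul_eq_one_left ((mul_assoc _ s x).trans h2)]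
    exact zpow_mem (inv_mem (mem_zpowers _)) n)
  have a : s ∈ zpowers x ⊔ zpowers s := mem_sup_right (mem_zpowers _)
  have := U.two p a (mul_mem a (mem_sup_left (mem_zpowers _))) s2 h2 (sG_sq {m}) ((det_em _ _).trans dS)
    (by rw [det_mul', d0, mul_one]; exact (det_em _ _).trans dS)
    ((det_sg _).trans (by simp)) (c _ hs) (c _ (mul_mem hs hx))
  rwa [← mul_assoc, s2, one_mul] at this

variable (ih : ∀ J : Finset ι, J.card < I.card → ∀ x ∈ Su (pj F J), x.1.det = 1 → ∀ k : ℕ, x ^ 2 ^ k = 1 → x ∈ 𝒰)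
  (hJ : J ⊆ I) (n1 : J.Nonempty) (n2 : (I \ J).Nonempty) (hx : x ∈ Su (pj F I)) (d : x.1.det = 1)
  {k : ℕ} (e : x ^ 2 ^ k = 1)
include ih hJ n1 n2 hx d e

theorem stepA (c : x.1 * pj F J = pj F J * x.1) : x ∈ 𝒰 := by
  have c' : x.1 * pj F (I \ J) = pj F (I \ J) * x.1 := by
    have := Su.comm hx
    rwa [← pj_add hJ, mul_add, add_mul, c, add_right_inj] at this
  have dj : Disjoint J (I \ J) := Finset.disjoint_sdiff
  have l := Finset.card_sdiff_add_card_eq_card hJ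
  have l1 := n1.card_pos
  have l2 := n2.card_pos
  obtain ⟨i, hi⟩ := n1
  obtain ⟨j, hj⟩ := n2
  have hij : i ≠ j := fun h => Finset.disjoint_left.1 dj hi (h ▸ hj)
  have e0 := pt_pt (pj_sq J) c (pj_sq _) c' (pj_disj dj) (by rwa [pj_add hJ])
  obtain ⟨P, p1, p2, p3, g, p4, δ, p5, p6, p7⟩ := homol hi (pt_mem (pj_sq J) c) (pt_pow _ c e)
  obtain ⟨Q, q1, q2, q3, g', q4, δ', q5, q6, q7⟩ := homol hj (pt_mem (pj_sq _) c') (pt_pow _ c' e)
  generalize pt x _ c = x₁ at *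
  generalize pt x _ c' = x₂ at *
  subst e0
  rw [det_mul', p5, q5] at d
  have m1 : dg (Pi.mulSingle i δ) ∈ Su (pj F J) := dg_mem fun r hr => Pi.mulSingle_eq_of_ne (by rintro rfl; exact hr hi) _
  have R := sup_cm p2 q2 fun a ha b hb => pj_cm (p1 ha) (q1 hb) dj
  have u1 : x₁ * (g * dg (Pi.mulSingle i δ) * g⁻¹)⁻¹ ∈ 𝒰 :=
    have m := mul_mem p3 (inv_mem p7)
    (pw p2 m).elim (ih J (by omega) _ (p1 m) (by
      rw [det_mul', _root_.conj_inv, det_conj, ← map_inv, ← Pi.mulSingle_inv, det_dg, p5, Units.mul_inv]))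
  have u2 : (g' * dg (Pi.mulSingle j δ') * g'⁻¹)⁻¹ * x₂ ∈ 𝒰 :=
    have m := mul_mem (inv_mem q7) q3
    (pw q2 m).elim (ih _ (by omega) _ (q1 m) (by
      rw [det_mul', _root_.conj_inv, det_conj, ← map_inv, ← Pi.mulSingle_inv, det_dg, q5, Units.inv_mul]))
  have u3 : g * dg (Pi.mulSingle i δ) * g⁻¹ * (g' * dg (Pi.mulSingle j δ') * g'⁻¹) ∈ 𝒰 := by
    have := U.cj _ (U.base hij (x := dg (Pi.mulSingle i δ) * dg (Pi.mulSingle j δ'))
      (mul_mem (dg_mem fun r hr => Pi.mulSingle_eq_of_ne (by rintro rfl; simp at hr) _)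
        (dg_mem fun r hr => Pi.mulSingle_eq_of_ne (by rintro rfl; simp at hr) _)) (by rw [det_mul', det_dg, det_dg, d]) (k := k) (by
        rw [← map_mul, ← map_pow, mul_pow, ← Pi.mulSingle_pow, ← Pi.mulSingle_pow, p6, q6]
        simp)) (g * g')
    rwa [conj_mul.symm, show g * g' * dg (Pi.mulSingle i δ) * (g * g')⁻¹ = g * dg (Pi.mulSingle i δ) * g⁻¹ by
      rw [mul_assoc g g', ← pj_cm m1 q4 dj]; group, show g * g' * dg (Pi.mulSingle j δ') * (g * g')⁻¹ =
        g * (g' * dg (Pi.mulSingle j δ') * g'⁻¹) * g⁻¹ by group, pj_cm p4 (q1 q7) dj, mul_inv_cancel_right] at this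
  have := U.ml R (mul_mem (mem_sup_left (mul_mem p3 (inv_mem p7))) (mul_mem (mem_sup_left p7) (mem_sup_right q7)))
    (mem_sup_right (mul_mem (inv_mem q7) q3))
    (U.ml R (mem_sup_left (mul_mem p3 (inv_mem p7))) (mul_mem (mem_sup_left p7) (mem_sup_right q7)) u1 u3) u2
  convert this using 1
  group

theorem stepB (c : x.1 * pj F J = pj F (I \ J) * x.1) : x ∈ 𝒰 := by
  have c' : x.1 * pj F (I \ J) = pj F J * x.1 := by
    have := Su.comm hx
    rwa [← pj_add hJ, mul_add, add_mul, c, add_comm, add_left_inj] at this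
  have dj : Disjoint J (I \ J) := Finset.disjoint_sdiff
  have l := Finset.card_sdiff_add_card_eq_card hJ
  have l2 := n2.card_pos
  obtain ⟨i, hi⟩ := n1
  have c1 : (x * x).1 * pj F J = pj F J * (x * x).1 := by
    rw [Units.val_mul, mul_assoc, c, ← mul_assoc, c', mul_assoc]
  have c2 : (x * x).1 * pj F (I \ J) = pj F (I \ J) * (x * x).1 := by
    rw [Units.val_mul, mul_assoc, c', ← mul_assoc, c, mul_assoc]
  have e0 := pt_pt (pj_sq _) c2 (pj_sq _) c1 (pj_disj dj.symm) (by rw [add_comm, pj_add hJ]; exact mul_mem hx hx)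
  have e1 : x * pt (x * x) (pj_sq _) c1 = pt (x * x) (pj_sq _) c2 * x := Units.ext (by
    change x.1 * (x.1 * x.1 * _ + _) = (x.1 * x.1 * _ + _) * x.1
    rw [mul_add, add_mul, mul_sub, sub_mul, mul_assoc _ (pj F _), ← c, mul_one, one_mul]
    simp only [mul_assoc])
  obtain ⟨P, p1, p2, p3, g, p4, δ, p5, -, p7⟩ := homol hi (pt_mem (pj_sq J) c1)
    (pt_pow (n := 2 ^ k) _ c1 (by rw [(Commute.refl x).mul_pow, e, one_mul]))
  generalize pt (x * x) _ c1 = u at *
  generalize pt (x * x) _ c2 = u' at *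
  obtain ⟨s, rfl⟩ : ∃ s, x = u * s := ⟨u⁻¹ * x, by group⟩
  have s2 : s * s = 1 := mul_left_cancel (a := u * s * u) (by
    calc _ = u * s * (u * s) * s := by group
      _ = _ := by rw [← e0, mul_assoc, ← e1, mul_one])
  have si : s⁻¹ = s := inv_eq_of_mul_eq_one_right s2
  have cs : s.1 * pj F J = pj F (I \ J) * s.1 := by
    rwa [Units.val_mul, ← mul_assoc, ← Su.comm' (p1 p3) (pj_disj dj) (pj_disj dj.symm), mul_assoc, mul_assoc,
      Units.mul_right_inj] at c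
  have R := sup_zp (s := s) (sup_cm p2 (p2.map (MulAut.conj s).toMonoidHom) (by
    rintro a ha _ ⟨b, hb, rfl⟩; exact pj_cm (p1 ha) (Su.conj (p1 hb) cs) dj)) (pg_inv s2) (by
    refine fun a ha => (sup_le (fun a ha => mem_sup_right ⟨a, ha, rfl⟩) ?_ :
      _ ≤ comap (MulAut.conj s).toMonoidHom (P ⊔ P.map (MulAut.conj s).toMonoidHom)) ha
    rintro _ ⟨a, ha, rfl⟩
    refine mem_sup_left (?_ : s * (s * a * s⁻¹) * s⁻¹ ∈ P)
    rwa [si, ← mul_assoc, ← mul_assoc, s2, one_mul, mul_assoc, s2, mul_one])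
  have m : ∀ a ∈ P, a ∈ P ⊔ P.map (MulAut.conj s).toMonoidHom ⊔ zpowers s := fun a ha => mem_sup_left (mem_sup_left ha)
  have ms : s ∈ P ⊔ P.map (MulAut.conj s).toMonoidHom ⊔ zpowers s := mem_sup_right (mem_zpowers _)
  have iP : ∀ a ∈ P, a.1.det = 1 → a ∈ 𝒰 := fun a ha da => (pw p2 ha).elim (ih J (by omega) _ (p1 ha) da)
  rw [det_mul'] at d
  rcases mul_self_eq_one_iff.1 (show s.1.det * s.1.det = 1 by rw [← det_mul', s2]; exact det_one) with ds | ds
  · exact U.ml R (m _ p3) ms (iP _ p3 (by rwa [ds, mul_one] at d)) (U.inv1 s2 ds)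
  rw [ds, mul_neg_one, neg_eq_iff_eq_neg] at d
  obtain rfl : δ = -1 := Units.ext (p5.symm.trans d)
  have b : dg (Pi.mulSingle i (-1 : Fˣ)) = sG F {i} := Units.ext (congrArg diagonal (funext fun r => by
    by_cases a : r = i
    · subst a; simp
    · simp [a]))
  rw [b] at p7
  have h2 : g * sG F {i} * g⁻¹ * (g * sG F {i} * g⁻¹) = 1 := by rw [conj_mul, sG_sq]; simp
  have dh : (g * sG F {i} * g⁻¹).1.det = -1 := (det_conj _ _).trans ((det_sg _).trans (by simp))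
  have := U.ml R (mul_mem (m _ p3) (m _ p7)) (mul_mem (m _ p7) ms) (iP _ (mul_mem p3 p7) (by rw [det_mul', d, dh]; simp))
    (U.refl R (m _ p7) ms h2 s2 dh ds (by rw [rk_cj', sG, rk_sg U.h2, Finset.card_singleton])
      (Su.mul_zero (p1 p7) (by simpa only [si] using Su.conj (p1 p7) cs) (pj_disj dj)))
  rwa [mul_assoc, ← mul_assoc _ _ s, h2, one_mul] at this

omit ih hJ n1 n2 hx d e in
theorem main (I : Finset ι) : ∀ x ∈ Su (pj F I), x.1.det = 1 → ∀ k : ℕ, x ^ 2 ^ k = 1 → x ∈ 𝒰 := by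
  induction hn : I.card using Nat.strong_induction_on generalizing I with | _ n ih =>
  subst hn
  intro x hx d k e
  by_cases h3 : I.card < 3
  · obtain ⟨T, h1, -, h2⟩ := Finset.exists_subsuperset_card_eq (n := 2) I.subset_univ (by omega)
      (by have := U.h3; rw [Finset.card_univ]; omega)
    obtain ⟨i, j, hij, rfl⟩ := Finset.card_eq_two.1 h2
    exact U.base hij (pj_mono h1 hx) d e
  have : Nonempty ι := Fintype.card_pos_iff.1 (by have := U.h3; omega)
  obtain ⟨P, p1, p2, p3, p4⟩ := syl _ hx e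
  have E2 : ∀ y ∈ sgs F I, y * y = 1 := by rintro _ ⟨J, -, rfl⟩; exact sG_sq J
  obtain ⟨g, hg, h⟩ := p4 (sgs F I) (by rintro _ ⟨J, hJ, rfl⟩; exact (sG_mem U.h2).2 hJ)
    fun y => ⟨1, Subtype.ext (by simpa [pow_two] using E2 _ y.2)⟩
  have cc : ∀ y ∈ Su (pj F I), y * sG F I = sG F I * y := fun y hy => Units.ext (sg_of_pj (Su.comm hy))
  have cP : sG F I ∈ P := by simpa only [cc g hg, mul_inv_cancel_right] using h _ ⟨I, le_rfl, rfl⟩
  obtain ⟨⟨y, yP⟩, y2, y1, yc, yx⟩ := exists_y p2 (c := ⟨_, cP⟩) (mem_center_iff.2 fun y => Subtype.ext (cc _ (p1 y.2)))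
    (Subtype.ext (sG_sq I)) ((sgs F I).comap ((MulAut.conj g⁻¹).toMonoidHom.comp P.subtype))
    (fun y hy => Subtype.ext ((MulAut.conj g⁻¹).injective ((map_mul _ y.1 y.1).trans ((E2 _ hy).trans (map_one _).symm)))) (by
      refine le_trans ?_ (Nat.card_le_card_of_injective (fun J : I.powerset =>
        ⟨⟨g * sG F J * g⁻¹, h _ ⟨J, Finset.mem_powerset.1 J.2, rfl⟩⟩, J, Finset.mem_powerset.1 J.2, by simp [mul_assoc]⟩)
        fun a b e => Subtype.ext (sG_inj U.h2 (by simpa using congrArg (·.1.1) e)))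
      rw [Nat.card_eq_fintype_card, Fintype.card_coe, Finset.card_powerset]
      exact Nat.pow_le_pow_right two_pos (not_lt.1 h3))
  obtain ⟨γ, J, a, b⟩ := conj_sg2 U.h2 (M := y.1) (congrArg (·.1.1) y2) (congrArg Units.val (cc _ (p1 yP)))
  change _ * (SpecialLinearGroup.toGL γ).1 = (SpecialLinearGroup.toGL γ).1 * _ at a b
  generalize SpecialLinearGroup.toGL γ = γ at a b
  obtain rfl := eq_conj (c := sG F J) b
  have a' := eq_conj (x := sG F I) (c := sG F I) a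
  have m : ∀ z ∈ Su (pj F I), γ⁻¹ * z * γ⁻¹⁻¹ ∈ Su (pj F I) := fun z hz => Su.conj hz (inv_comm (pj_of_sg U.h2 a.symm))
  have hJ : J ⊆ I := (sG_mem U.h2).1 (by simpa [mul_assoc] using m _ (p1 yP))
  have n1 : J.Nonempty := Finset.nonempty_iff_ne_empty.2 fun h => y1 (Subtype.ext (by simp [h, sG_empty]))
  have n2 : (I \ J).Nonempty := Finset.sdiff_nonempty.2 fun h => yc (Subtype.ext (by obtain rfl := hJ.antisymm h; exact a'.symm))
  have e' : (γ⁻¹ * x * γ⁻¹⁻¹) ^ 2 ^ k = 1 := by rw [conj_pow, e]; simp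
  have d' := (det_conj γ⁻¹ x).trans d
  suffices γ⁻¹ * x * γ⁻¹⁻¹ ∈ 𝒰 by simpa [mul_assoc] using U.cj _ this γ
  rcases yx ⟨x, p3⟩ with h | h <;> replace h := congrArg Subtype.val h
  · change x * _ * x⁻¹ = γ * _ * _ at h
    refine U.stepA (fun J h => ih _ h J rfl) hJ n1 n2 (m _ hx) d' e' (pj_of_sg U.h2 (congrArg Units.val
      (?_ : _ * sG F J = sG F J * _)))
    calc _ = γ⁻¹ * (x * (γ * sG F J * γ⁻¹) * x⁻¹) * x * γ := by group
      _ = _ := by rw [h]; group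
  · change x * _ * x⁻¹ = γ * _ * _ * sG F I at h
    refine U.stepB (fun J h => ih _ h J rfl) hJ n1 n2 (m _ hx) d' e' (pj_of_sg U.h2 (congrArg Units.val
      (?_ : _ * sG F J = sG F _ * _)))
    rw [a', conj_mul, sG_mul, symmDiff_of_le hJ] at h
    calc _ = γ⁻¹ * (x * (γ * sG F J * γ⁻¹) * x⁻¹) * x * γ := by group
      _ = _ := by rw [h]; group

end UU

theorem anti (h2 : (2 : F) ≠ 0) {A : Matrix (Fin 2) (Fin 2) F} (t : A 0 0 + A 1 1 = 0)
    (d : A 0 0 * A 0 0 + A 0 1 * A 1 0 ≠ 0) : ∃ H : Matrix (Fin 2) (Fin 2) F, H.det = 1 ∧ H * A = -(A * H) := by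
  have := Fintype.ofFinite F
  have key : ∀ p q r : F, p * p + q * r = -1 → 2 * A 0 0 * p + q * A 1 0 + r * A 0 1 = 0 →
      ∃ H : Matrix (Fin 2) (Fin 2) F, H.det = 1 ∧ H * A = -(A * H) := fun p q r a b => by
    refine ⟨!![p, q; r, -p], by rw [det_fin_two_of]; linear_combination -a, ?_⟩
    ext u v
    fin_cases u <;> fin_cases v <;> simp [mul_apply, Fin.sum_univ_two] <;> grind
  have q : ∀ b : F, ∃ t q : F, t ^ 2 + b ^ 2 = (A 0 0 * A 0 0 + A 0 1 * A 1 0) * q ^ 2 := fun b => by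
    obtain ⟨t, q, h⟩ := FiniteField.exists_root_sum_quadratic (R := F) (f := Polynomial.X ^ 2 + Polynomial.C (b ^ 2))
      (g := Polynomial.C (-(A 0 0 * A 0 0 + A 0 1 * A 1 0)) * Polynomial.X ^ 2) (Polynomial.degree_X_pow_add_C two_pos _)
      (Polynomial.degree_C_mul_X_pow 2 (neg_ne_zero.2 d))
      (FiniteField.odd_card_of_char_ne_two fun e => h2 (by exact_mod_cast e ▸ ringChar.Nat.cast_ringChar (R := F)))
    simp only [Polynomial.eval_add, Polynomial.eval_mul, Polynomial.eval_pow, Polynomial.eval_X, Polynomial.eval_C] at h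
    exact ⟨t, q, by linear_combination h⟩
  by_cases b : A 0 1 = 0
  · by_cases c : A 1 0 = 0
    · exact key 0 1 (-1) (by simp) (by simp [b, c])
    · obtain ⟨s, r, h⟩ := q (A 1 0)
      exact key ((s + A 0 0 * r) / A 1 0) (-(2 * A 0 0 * ((s + A 0 0 * r) / A 1 0) + A 0 1 * r) / A 1 0) r
        (by field_simp; linear_combination h) (by field_simp; ring)
  · obtain ⟨s, r, h⟩ := q (A 0 1)
    exact key ((s + A 0 0 * r) / A 0 1) r (-(2 * A 0 0 * ((s + A 0 0 * r) / A 0 1) + A 1 0 * r) / A 0 1)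
      (by field_simp; linear_combination h) (by field_simp; ring)

omit [Finite F] [Fintype ι] in
theorem inc_t2 {i j : ι} (h : i ≠ j) : inc F (t2 h) * (inc F (t2 h))ᵀ = pj F {i, j} := by
  ext r c
  simp only [inc, pj, mul_apply, Fin.sum_univ_two, transpose_apply, of_apply, diagonal_apply, Finset.mem_insert,
    Finset.mem_singleton, show t2 h 0 = i from rfl, show t2 h 1 = j from rfl]
  grind

theorem twist (h2 : (2 : F) ≠ 0) {i j : ι} (h : i ≠ j) {M : Matrix ι ι F} {c : F} (c0 : c ≠ 0) (e : M * M = c • 1)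
    (k : M * sg F {i, j} = sg F {i, j} * M) (t : IsSquare c → M i i + M j j = 0) :
    ∃ g : SpecialLinearGroup ι F, g.1 * M = M * sg F {i, j} * g.1 := by
  have k' := pj_of_sg h2 k
  rw [← inc_t2 h] at k'
  have i1 := inc_inc (F := F) (t2 h)
  have i2 : sg F {i, j} = em (t2 h) (-1) := by
    rw [sg_eq, ← inc_t2 h, em, show (-1 : Matrix (Fin 2) (Fin 2) F) - 1 = (-2 : F) • 1 by module]
    simp [sub_eq_add_neg]
  have i3 : (inc F (t2 h))ᵀ * M * inc F (t2 h) = M.submatrix (t2 h) (t2 h) := by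
    ext u v; simp [inc, mul_apply]
  have a : M * inc F (t2 h) = inc F (t2 h) * M.submatrix (t2 h) (t2 h) := by
    rw [← i3, ← Matrix.mul_assoc, ← Matrix.mul_assoc, ← k', Matrix.mul_assoc, Matrix.mul_assoc, i1, Matrix.mul_one]
  have b : (inc F (t2 h))ᵀ * M = M.submatrix (t2 h) (t2 h) * (inc F (t2 h))ᵀ := by
    rw [← i3, Matrix.mul_assoc, Matrix.mul_assoc, k', ← Matrix.mul_assoc, ← Matrix.mul_assoc, i1, Matrix.one_mul]
  change _ → M.submatrix (t2 h) (t2 h) 0 0 + M.submatrix (t2 h) (t2 h) 1 1 = 0 at t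
  generalize M.submatrix (t2 h) (t2 h) = A at *
  have A2 : A * A = c • 1 := by
    rw [← Matrix.one_mul A, ← i1, Matrix.mul_assoc, Matrix.mul_assoc, ← Matrix.mul_assoc _ A, ← a, i1, Matrix.one_mul,
      Matrix.mul_assoc, ← a, ← Matrix.mul_assoc M, e, Matrix.smul_mul, Matrix.mul_smul, Matrix.one_mul, i1]
  have e0 := congrFun₂ A2 0 0
  have e1 := congrFun₂ A2 0 1
  simp [mul_apply, Fin.sum_univ_two] at e0 e1
  obtain ⟨H, d, hH⟩ := anti h2 (A := A) (by
    by_contra a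
    refine a (t ⟨A 0 0, ?_⟩)
    rw [← e0, (mul_eq_zero.1 (show A 0 1 * (A 0 0 + A 1 1) = 0 by linear_combination e1)).resolve_right a]
    simp) (e0 ▸ c0)
  refine ⟨⟨em (t2 h) H, (det_em _ _).trans d⟩, ?_⟩
  change em _ H * M = M * _ * em _ H
  rw [i2, mul_assoc, ← em_mul, em, em, add_mul, mul_add, Matrix.mul_assoc, b, ← Matrix.mul_assoc M, ← Matrix.mul_assoc M, a,
    ← Matrix.mul_assoc, one_mul, mul_one, Matrix.mul_assoc _ _ A, Matrix.mul_assoc _ A]
  congr 3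
  linear_combination (norm := noncomm_ring) hH

theorem frame (h2 : (2 : F) ≠ 0) [Nontrivial ι] {x : SpecialLinearGroup ι F} (nc : x ∉ center _) {k : ℕ} (e : x ^ 2 ^ k = 1)
    {c : F} (c0 : c ≠ 0) (hc : x.1 * x.1 = c • 1) : ∃ (g : SpecialLinearGroup ι F) (i j : ι), i ≠ j ∧
      (g⁻¹ * x * g).1 * sg F {i, j} = sg F {i, j} * (g⁻¹ * x * g).1 ∧
      (IsSquare c → (g⁻¹ * x * g).1 i i + (g⁻¹ * x * g).1 j j = 0) := by
  have v : ∀ (g : SpecialLinearGroup ι F) (y : SpecialLinearGroup ι F) N, y.1 * g.1 = g.1 * N → (g⁻¹ * y * g).1 = N :=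
    fun g y N h => by
      rw [mul_assoc, Matrix.SpecialLinearGroup.coe_mul, Matrix.SpecialLinearGroup.coe_mul, h, ← mul_assoc, ← Matrix.SpecialLinearGroup.coe_mul]
      simp
  by_cases s : IsSquare c
  · obtain ⟨a, rfl⟩ := s
    have a0 := left_ne_zero_of_mul c0
    obtain ⟨g, J, h⟩ := diag1 h2 (M := a⁻¹ • x.1) (by simp [hc, smul_smul, a0])
    obtain ⟨g, h⟩ := (to_sl g).imp fun _ h' => h' _ _ h
    replace h : (g⁻¹ * x * g).1 = diagonal fun r => a * if r ∈ J then -1 else 1 := v _ _ _ (by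
      have := congrArg (a • ·) h
      simp only [← smul_mul_assoc, smul_smul, mul_inv_cancel₀ a0, one_smul] at this
      rw [this, smul_mul_assoc, ← mul_smul_comm, ← diagonal_smul]; rfl)
    have n : ∀ b : F, ¬ ∀ r, (a * if r ∈ J then -1 else 1) = b := fun b hb => nc (by
      have : g⁻¹ * x * g ∈ center _ := mem_center_iff.2 fun y => Subtype.ext (by
        rw [Matrix.SpecialLinearGroup.coe_mul, Matrix.SpecialLinearGroup.coe_mul _ y, h, funext hb]
        exact ((scalar_commute b (fun _ => .all _ _) y.1).eq).symm)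
      simpa [mul_assoc] using (inferInstance : (center _).Normal).conj_mem _ this g)
    obtain ⟨i, hi⟩ : ∃ i, i ∈ J := by by_contra! b; exact n a fun r => by simp [b r]
    obtain ⟨j, hj⟩ : ∃ j, j ∉ J := by by_contra! b; exact n (-a) fun r => by simp [b r]
    exact ⟨g, i, j, by rintro rfl; exact hj hi, by rw [h, sg, diagonal_mul_diagonal, diagonal_mul_diagonal]; simp only [mul_comm],
      fun _ => by simp [h, hi, hj]⟩
  obtain ⟨i, j, hij⟩ := exists_pair_ne ι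
  have v0 : (Pi.single i 1 : ι → F) ≠ 0 := by simp
  generalize (Pi.single i 1 : ι → F) = w at v0
  have xx : x.1 *ᵥ (x.1 *ᵥ w) = c • w := by rw [mulVec_mulVec, hc, smul_mulVec, one_mulVec]
  have li : LinearIndependent F ![w, x.1 *ᵥ w] := (LinearIndependent.pair_iff' v0).2 fun a h => s ⟨a, by
    rw [← h, mulVec_smul, ← h, smul_smul] at xx
    exact (smul_left_injective F v0 xx).symm⟩
  obtain ⟨y, y2, yr, hy⟩ := exists_w2 h2 (zpowers x) (pg_zp e) _ ((finrank_span_eq_card li).trans (Fintype.card_fin 2)) (by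
    intro d hd u hu
    obtain ⟨n, rfl⟩ := mem_powers_iff_mem_zpowers.2 hd
    induction n with
    | zero => simpa using hu
    | succ n ih =>
      have := ih (pow_mem (mem_zpowers _) n)
      simp only [pow_succ', Matrix.SpecialLinearGroup.coe_mul, ← mulVec_mulVec, range_cons_cons_empty, Submodule.mem_span_pair] at this ⊢
      obtain ⟨a, b, h⟩ := this
      exact ⟨b * c, a, by rw [← h, mulVec_add, mulVec_smul, mulVec_smul, xx, smul_smul, add_comm]⟩)
  obtain ⟨g, hg⟩ := conj_sg h2 (M := y.1) (congrArg Subtype.val y2) (J := {i, j}) (by rw [yr, Finset.card_pair hij])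
  refine ⟨g, i, j, hij, ?_, fun h => (s h).elim⟩
  rw [← v _ _ _ hg, ← Matrix.SpecialLinearGroup.coe_mul, ← Matrix.SpecialLinearGroup.coe_mul]
  congr 1
  calc _ = g⁻¹ * (x * y) * g := by group
    _ = _ := by rw [← (hy x (mem_zpowers x)).eq]; group

end SC

/-- Work in `GL`; `blk (Units.coeHom _) I` is the group of elements supported on `I`.
(1) Involutions of determinant 1 lie in `𝒰`: `diag`, `sg I` with `|I|` even is a product of commuting `rf i * rf j` (induction on `|I|`; `1 = d d`).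
(2) If `s² = h² = 1`, `⟨s, h⟩` is a 2-group, `det s = det h = -1` and `ρ² = 1`, `det ρ = -1`, `ρ` commutes with `s, h`, then `s h = (s ρ)(ρ h) ∈ 𝒰`.
(3) `x` supported on `I`, `|I| ≤ 2`, `det x = 1`: if `|I| ≤ 1` then `x = 1`; a scalar block is `± 1` (1); otherwise conjugate the block to `[[0, -1], [1, t]]`
    (basis `v, x v`), it is inverted by `s = [[0, 1], [1, 0]]`, `x = (x s) s`, (2) with `ρ = rf k`, `k ∉ I`.
(4) Induction on `|I| ≥ 3` (for all `I`): `P` a Sylow 2-subgroup of `blk I` containing `x`; it contains `c = sg I` (central) and a conjugate of the sign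
    matrices supported on `I` (order `≥ 8`); `exists_y` gives `y ∈ P`, `y ≠ 1, c`, `x y x⁻¹ = y` or `y c`.  Diagonalise `y, c` simultaneously (`diag`), so
    WLOG `c = sg I` (`|I|` unchanged, `rk`), `y = sg J`, `∅ ≠ J ⊊ I`, `J' = I \ J`; `x` is still supported on `I` (this means `x (1 + c) = 1 + c = (1 + c) x`).
    For a 2-element `u ∈ blk J` with `det u = δ` there is `h = g diag(δ at i) g⁻¹`, `i ∈ J`, `g ∈ blk J`, in a Sylow 2-subgroup `P_J ∋ u` of `blk J`.
    (a) `x y = y x`: `x = x₁ x₂` (supports `J, J'`), `x = (x₁ h₁⁻¹)(h₁ h₂)(h₂⁻¹ x₂)` inside `P_J × P_J'`, `h₁ h₂` is conjugate to an element supported on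
    two indices.  (b) `x y x⁻¹ = y c`: `x` swaps `J, J'`; `e = (1 - y)/2`, `e' = (y - c)/2`, `s = x e + x⁻¹ e' + (1 + c)/2` is an involution and
    `u = x s = x² e + (1 - e)` is a 2-element supported on `J`.  All of `x, u, s, h₁` lie in the 2-group `(P_J × x P_J x⁻¹)⟨x⟩`.  If `det s = 1`, `x = u s`.
    If `det s = -1`, `h₁` is a reflection, `x = (u h₁)(h₁ s)`, and `h₁ s ∈ 𝒰` by (2): `h₂ = s h₁ s` is supported on `J'`, diagonalise `s` and `h₁ h₂`
    (`rk ≤ 2`) simultaneously and let `ρ` be the reflection in a coordinate where `h₁ h₂` is `+1` (`h₁ = 1` on the fixed space of `h₁ h₂`, and `h₁`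
    commutes with `h₁ h₂`). -/
theorem sc_core (h3 : 3 ≤ Fintype.card ι) (h2 : (2 : F) ≠ 0) (𝒰 : Set (GL ι F)) (cj : ∀ x ∈ 𝒰, ∀ g, g * x * g⁻¹ ∈ 𝒰)
    (ml : ∀ x ∈ 𝒰, ∀ y ∈ 𝒰, IsPGroup 2 (closure {x, y} : Subgroup (GL ι F)) → x * y ∈ 𝒰)
    (w2 : ∀ i j, i ≠ j → ∀ x : GL ι F, x.1 = rf F i * rf F j → x ∈ 𝒰) (x : GL ι F) (hx : x.1.det = 1) (k : ℕ)
    (e : x ^ 2 ^ k = 1) : x ∈ 𝒰 :=
  SC.UU.main ⟨h3, h2, cj, fun hQ _ _ a b c d => ml _ c _ d (hQ.to_le ((closure_le _).2 (by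
    rintro _ (rfl | rfl) <;> assumption))), fun i j h => w2 i j h _ (sg_pair h)⟩ .univ x
    (SC.mem_pj.2 fun r hr => (hr (by simp)).elim) hx k e

/-- `𝒱 = {x ∈ SL | x is conjugate to an element of U}` is closed under products in 2-subgroups (conjugate into `R`, strong closure).
A noncentral `x ∈ U` has a noncentral power with central square, so WLOG `x² = c` scalar.  `v` not an eigenvector, `W = ⟨v, x v⟩`, `d` the involution
`exists_w2` gives for `D = ⟨x⟩` (or repeat its proof): `d = -1` on `W`... concretely choose a basis `v, x v, …` adapted to `W ⊕ W'` (`W'` invariant), so that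
`x = [[0, c], [1, 0]] ⊕ x'`; `g = (diag(1, -1) · (a + b x|W)) ⊕ 1` with `a² - c b² = -1` (finite field, `FiniteField.exists_root_sum_quadratic`) has
determinant 1 and conjugates `x` to `x d`, `d = (-1) ⊕ 1`.  So `d = x⁻¹ (x d) ∈ 𝒱`.  Every `GL`-conjugate of `rf i * rf j` is `SL`-conjugate to `d` (`conj_sg`).
Apply `sc_core` to `𝒰 = {x ∈ GL | all GL-conjugates of x lie in 𝒱}`. -/
theorem sc_sl (h3 : 3 ≤ Fintype.card ι) (h2 : (2 : F) ≠ 0) (R : Sylow 2 (SpecialLinearGroup ι F))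
    (U : Subgroup (SpecialLinearGroup ι F)) (le : U ≤ R) (sc : ∀ x ∈ U, ∀ g, g * x * g⁻¹ ∈ R → g * x * g⁻¹ ∈ U)
    (nc : ¬ U ≤ center _) : U = R := by
  have : Nontrivial ι := Fintype.one_lt_card_iff_nontrivial.1 (by omega)
  let 𝒱 : Set (SpecialLinearGroup ι F) := {x | ∃ g, g * x * g⁻¹ ∈ U}
  have cj : ∀ x ∈ 𝒱, ∀ g, g * x * g⁻¹ ∈ 𝒱 := fun x ⟨a, h⟩ g => ⟨a * g⁻¹, by simpa [mul_assoc] using h⟩
  have s : ∀ x ∈ 𝒱, x ∈ R → x ∈ U := fun x ⟨a, h⟩ hx => by simpa [mul_assoc] using sc _ h a⁻¹ (by simpa [mul_assoc] using hx)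
  have ml : ∀ {Q : Subgroup (SpecialLinearGroup ι F)}, IsPGroup 2 Q → ∀ x ∈ Q, ∀ y ∈ Q, x ∈ 𝒱 → y ∈ 𝒱 → x * y ∈ 𝒱 :=
    fun hQ x hx y hy a b => by
      obtain ⟨P, hP⟩ := hQ.exists_le_sylow
      obtain ⟨g, rfl⟩ := MulAction.exists_smul_eq (SpecialLinearGroup ι F) P R
      refine ⟨g, ?_⟩
      rw [← conj_mul]
      exact mul_mem (s _ (cj _ a g) (smul_mem_pointwise_smul _ (MulAut.conj g) _ (hP hx)))
        (s _ (cj _ b g) (smul_mem_pointwise_smul _ (MulAut.conj g) _ (hP hy)))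
  obtain ⟨x, xU, xc, x2⟩ : ∃ x ∈ U, x ∉ center _ ∧ x * x ∈ center _ := by
    obtain ⟨x, xU, xc⟩ := SetLike.not_le_iff_exists.1 nc
    obtain ⟨k, e⟩ := SC.pw R.2 (le xU)
    induction k generalizing x with
    | zero => exact (xc (by rw [pow_zero, pow_one] at e; exact e ▸ one_mem _)).elim
    | succ k ih =>
      by_contra! h
      exact (ih _ (mul_mem xU xU) (h x xU xc) (by rw [← sq, ← pow_mul, ← pow_succ', e])).elim fun y a => h y a.1 a.2.1 a.2.2
  obtain ⟨k, e⟩ := SC.pw R.2 (le xU)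
  obtain ⟨c, c1, hc⟩ := Matrix.SpecialLinearGroup.mem_center_iff.1 x2
  have c0 : c ≠ 0 := by rintro rfl; simp at c1
  replace hc : x.1 * x.1 = c • 1 := by rw [smul_one_eq_diagonal]; exact hc.symm
  obtain ⟨g, i, j, hij, a, b⟩ := SC.frame h2 xc e c0 hc
  have x1 : g⁻¹ * x * g ∈ 𝒱 := ⟨g, by simpa [mul_assoc] using xU⟩
  have x2 : (g⁻¹ * x * g)⁻¹ ∈ 𝒱 := ⟨g, by simpa [mul_assoc] using xU⟩
  have e' : (g⁻¹ * x * g) ^ 2 ^ k = 1 := by simpa [e] using conj_pow (a := g⁻¹) (b := x) (i := 2 ^ k)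
  obtain ⟨h, hh⟩ := SC.twist h2 hij c0 (M := (g⁻¹ * x * g).1) (by
    rw [← Matrix.SpecialLinearGroup.coe_mul, show g⁻¹ * x * g * (g⁻¹ * x * g) = g⁻¹ * (x * x) * g by group]
    simp only [Matrix.SpecialLinearGroup.coe_mul, hc, mul_smul_comm, smul_mul_assoc, mul_one]
    rw [← Matrix.SpecialLinearGroup.coe_mul]; simp) a b
  generalize g⁻¹ * x * g = z at *
  rw [sg_pair hij] at a hh
  have t2 : ts F i j * ts F i j = 1 := Subtype.ext (by change (rf F i * rf F j) * (rf F i * rf F j) = 1; rw [← sg_pair hij, sg_sq])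
  have w : ts F i j ∈ 𝒱 := by
    have p := SC.sup_cm (SC.pg_zp e') (SC.pg_inv t2) (by
      rintro _ ⟨n, rfl⟩ _ ⟨m, rfl⟩; exact Commute.zpow_zpow (show Commute z (ts F i j) from Subtype.ext a) n m)
    have m := mem_sup_left (T := zpowers (ts F i j)) (mem_zpowers z)
    simpa using ml p _ (inv_mem m) _ (mul_mem m (mem_sup_right (mem_zpowers _))) x2
      ((show h * z * h⁻¹ = z * ts F i j from mul_inv_eq_of_eq_mul (Subtype.ext hh)) ▸ cj _ x1 h)
  refine le.antisymm fun y hy => s y ?_ hy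
  obtain ⟨n, hn⟩ := SC.pw R.2 hy
  obtain ⟨y', a, b⟩ := sc_core h3 h2 {x | ∀ g, ∃ y ∈ 𝒱, SpecialLinearGroup.toGL y = g * x * g⁻¹}
    (fun x h g g' => (h (g' * g)).imp fun _ a => ⟨a.1, a.2.trans (by group)⟩) (fun x hx y hy p g => by
      obtain ⟨x', a, b⟩ := hx g
      obtain ⟨y', c, d⟩ := hy g
      exact ⟨_, ml ((p.map (MulAut.conj g).toMonoidHom).comap_of_injective _ SpecialLinearGroup.toGL_injective) x'
        ⟨x, subset_closure (by simp), b.symm⟩ y' ⟨y, subset_closure (by simp), d.symm⟩ a c, by rw [map_mul, b, d, conj_mul]⟩)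
    (fun u v huv y hy g => by
      obtain rfl : y = SC.sG F {u, v} := Units.ext (hy.trans (sg_pair huv).symm)
      obtain ⟨a, ha⟩ := conj_sg h2 (M := (g * SC.sG F {u, v} * g⁻¹).1)
        (by rw [← Units.val_mul, conj_mul, SC.sG_sq]; simp) (J := {i, j})
        (by rw [SC.rk_cj', SC.sG, rk_sg h2, Finset.card_pair huv, Finset.card_pair hij])
      refine ⟨_, cj _ w a, ?_⟩
      rw [map_mul, map_mul, map_inv]
      exact (SC.eq_conj (ha.trans (by rw [sg_pair hij]; rfl))).symm)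
    (SpecialLinearGroup.toGL y) y.2 n (by rw [← map_pow, hn, map_one]) 1
  rwa [← show y' = y from SpecialLinearGroup.toGL_injective (b.trans (by simp))]

end CL.Lm
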