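import Cfsg.Agent.FUS.Lm.Def

/-! # Passing to a quotient by a central subgroup of odd order

`Z = ker f` is central of odd order, and prime to `p`.  `f` is injective on involutions; `p`-elements and involutions lift. -/

set_option autoImplicit false
set_option linter.unusedSectionVars false
set_option maxHeartbeats 400000

namespace CL.Lm

open Subgroup Cfsg CL.MSS CL.PComp
open CL.L5 (Cz mem_Cz comm_of_conj_eq conj_eq_of_comm eq_one_of_odd_of_two fix_coset)

variable {Γ X : Type*} [Group Γ] [Finite Γ] [Group X] {κ : Type*} [DecidableEq κ] {p e : ℕ} {τ : κ → κ → Γ}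

namespace Mp

variable {f : Γ →* X}

theorem lift {r k : ℕ} (h : (Nat.card f.ker).Coprime r) {y : Γ} (hy : f y ^ r ^ k = 1) :
    ∃ n : ℕ, f (y ^ n) = f y ∧ (y ^ n) ^ r ^ k = 1 := by
  obtain ⟨u, hu⟩ := exists_pow_eq_self_of_coprime (x := f y) (n := Nat.card f.ker)
    ((h.pow_right k).coprime_dvd_right (orderOf_dvd_of_pow_eq_one hy))
  have h4 : (y ^ r ^ k) ^ Nat.card f.ker = 1 := orderOf_dvd_iff_pow_eq_one.1
    (orderOf_dvd_natCard _ (by rw [MonoidHom.mem_ker, map_pow, hy]))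
  exact ⟨Nat.card f.ker * u, by rw [map_pow, pow_mul, hu], by rw [pow_mul, pow_right_comm, pow_right_comm y, h4, one_pow]⟩

variable (c : f.ker ≤ center Γ) (o : Odd (Nat.card f.ker))
include o

theorem lift2 {N : Subgroup Γ} {s : X} (hs : s ∈ N.map f) (s2 : s * s = 1) : ∃ y ∈ N, f y = s ∧ y * y = 1 := by
  obtain ⟨y, hy, rfl⟩ := hs
  obtain ⟨n, h1, h2⟩ := lift (k := 1) (Nat.coprime_two_right.2 o) (y := y) (by rw [pow_one, pow_two, s2])
  exact ⟨_, pow_mem hy n, h1, by rwa [pow_one, pow_two] at h2⟩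

theorem odd_comap {N : Subgroup X} (h : Odd (Nat.card N)) : Odd (Nat.card (N.comap f)) :=
  Nat.coprime_two_right.1 (coprime_card_comap_of_surjective (Nat.coprime_two_right.2 o) (Nat.coprime_two_right.2 h))

include c

theorem inj2 {s a : Γ} (s2 : s * s = 1) (a2 : a * a = 1) (h : f s = f a) : s = a := by
  have m : s * a⁻¹ ∈ f.ker := by rw [MonoidHom.mem_ker, map_mul, map_inv, h, mul_inv_cancel]
  have := (show Commute a _ from mem_center_iff.1 (c m) a).symm.mul_pow 2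
  rw [inv_mul_cancel_right, pow_two, pow_two a, s2, a2, mul_one] at this
  exact mul_inv_eq_one.1 (eq_one_of_odd_of_two (o.of_dvd_nat (orderOf_dvd_natCard _ m)) (k := 1) this.symm)

theorem cm {u a : Γ} (a2 : a * a = 1) (h : Commute (f u) (f a)) : Commute u a :=
  comm_of_conj_eq (inj2 c o (by rw [L5.conj_mul_conj, a2]; group) a2 (by
    rw [map_mul, map_mul, map_inv, conj_eq_of_comm h]))

theorem map_ncl' {a : Γ} (a2 : a * a = 1) (u : Γ) : (ncl ⊤ a u).map f = ncl f.range (f a) (f u) := by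
  rw [ncl, MonoidHom.map_closure, ncl]
  congr 1
  ext x
  constructor
  · rintro ⟨_, ⟨c, -, k, rfl⟩, rfl⟩
    exact ⟨f c, ⟨c, rfl⟩, k.map f, by simp⟩
  · rintro ⟨_, ⟨d, rfl⟩, k, rfl⟩
    exact ⟨_, ⟨d, mem_top d, cm c o a2 k, rfl⟩, by simp⟩

omit c o in
theorem nrm {N : Subgroup X} {g : Γ} (h : f g ∈ normalizer (N : Set X)) : g ∈ normalizer (N.comap f : Set Γ) :=
  mem_normalizer_iff.2 fun x => by
    rw [mem_comap, mem_comap, map_mul, map_mul, map_inv]; exact mem_normalizer_iff.1 h _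

end Mp

open Mp

/-- the generating sets correspond. -/
theorem S0.map_KK (s : S0 p e ⊤ τ) (f : Γ →* X) (c : f.ker ≤ center Γ) (o : Odd (Nat.card f.ker)) {a : Γ} (a2 : a * a = 1) :
    (KK p ⊤ a).map f = KK p f.range (f a) := by
  have kp : (Nat.card f.ker).Coprime p := (s.prime.coprime_iff_not_dvd.2 fun d => by
    have := Fact.mk s.prime
    obtain ⟨x, hx⟩ := exists_prime_orderOf_dvd_card' p d
    rw [← orderOf_coe] at hx
    exact s.prime.coprime_iff_not_dvd.1 s.cop (hx ▸ orderOf_dvd_of_pow_eq_one (s.tor x (mem_top _) fun i j =>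
      (mem_center_iff.1 (c x.2) _).symm))).symm
  rw [KK, MonoidHom.map_closure, KK]
  congr 1
  ext x
  constructor
  · rintro ⟨y, ⟨-, h1, ⟨k, hk⟩, h2⟩, rfl⟩
    refine ⟨⟨y, rfl⟩, h1.map f, ⟨k, by rw [← map_pow, hk, map_one]⟩, fun s hs s2 => ?_⟩
    obtain ⟨s', hs', rfl, s2'⟩ := lift2 o ((map_ncl' c o a2 y).ge hs) s2
    exact (h2 s' hs' s2').imp (fun e => by rw [e, map_one]) (congrArg f)
  · rintro ⟨⟨y, rfl⟩, h1, ⟨k, hk⟩, h2⟩
    obtain ⟨n, h3, h4⟩ := lift kp hk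
    refine ⟨y ^ n, ⟨mem_top _, (cm c o a2 h1).pow_left n, ⟨k, h4⟩, fun s hs s2 => ?_⟩, h3⟩
    exact (h2 (f s) (by rw [← h3, ← map_ncl' c o a2]; exact mem_map_of_mem f hs) (by rw [← map_mul, s2, map_one])).imp
      (fun e => inj2 c o s2 (one_mul 1) (e.trans (map_one f).symm)) (inj2 c o s2 a2)

/-- pull subgroups `N` back: `KK ⊓ N.comap f` (`oK`, `nK`), `N.comap f` (`al`; its order is odd). -/
theorem S0.map (s : S0 p e ⊤ τ) (f : Γ →* X) (c : f.ker ≤ center Γ) (o : Odd (Nat.card f.ker)) :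
    S0 p e f.range fun i j => f (τ i j) := by
  have K := fun i j => (s.map_KK f c o (s.fm.sq i j)).symm
  have I : ∀ {g σ}, Ind τ g σ → Ind (fun i j => f (τ i j)) (f g) σ := fun h i j => by
    simp only [← h i j, map_mul, map_inv]
  have n : ∀ {Y : Subgroup Γ} {N : Subgroup X}, Y.map f ≤ normalizer (N : Set X) →
      Y ≤ normalizer ((Y ⊓ N.comap f : Subgroup Γ) : Set Γ) := fun h =>
    le_normalizer_inf le_normalizer fun g hg => nrm (h (mem_map_of_mem f hg))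
  refine ⟨⟨fun i j k => by rw [← map_mul, s.fm.mul], fun i j => by rw [s.fm.symm], fun σ => ?_, fun i j ij e =>
    s.fm.ne i j ij (inj2 c o (s.fm.sq i j) (one_mul 1) (e.trans (map_one f).symm)), fun i j k l D e =>
    s.fm.ne4 i j k l D (inj2 c o (s.fm.sq i j) (s.fm.sq k l) e)⟩, s.four, s.prime, s.odd, s.cop,
    fun i j ij => K i j ▸ mem_map_of_mem f (s.mem i j ij), fun M h => ?_, fun i j ij x hx x2 => ?_,
    fun i j ij N h1 h2 h3 => ?_, fun i j ij N h1 h2 => ?_, fun i j ij => ?_, fun i j k l D => ?_, ?_,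
    fun i j ij N h1 h2 h3 x hx k l => ?_⟩
  · obtain ⟨g, hg⟩ := s.fm.perm σ
    exact ⟨f g, I hg⟩
  · rintro _ ⟨x, rfl⟩
    exact s.gen (M.comap f) (fun i j ij => map_le_iff_le_comap.1 ((K i j).ge.trans (h i j ij))) (mem_top x)
  · obtain ⟨x', hx', rfl, x2'⟩ := lift2 o ((K i j).le hx) x2
    exact (s.inv i j ij x' hx' x2').imp (fun e => by rw [e, map_one]) (congrArg f)
  · rw [K] at h1 h2
    have := s.oK i j ij _ inf_le_left (n h2) ((odd_comap o h3).of_dvd_nat (card_dvd_of_le inf_le_right))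
    refine eq_bot_iff.2 fun y hy => ?_
    obtain ⟨x, hx, rfl⟩ := h1 hy
    rw [mem_bot.1 (this.le ⟨hx, hy⟩), map_one]
    exact one_mem _
  · rw [K] at h1 h2
    rcases s.nK i j ij _ inf_le_left (n h2) with h | ⟨u, hu, v, hv, h, e⟩
    · refine .inl fun y hy => ?_
      obtain ⟨x, hx, rfl⟩ := h1 hy
      exact MonoidHom.map_zpowers f _ ▸ mem_map_of_mem f (h ⟨hx, hy⟩)
    · refine .inr ⟨f u, hu.2, f v, hv.2, ?_, by rw [← map_commutatorElement, e]⟩
      rw [← Set.image_pair, ← MonoidHom.map_closure]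
      exact h.map f
  · obtain ⟨w, hw, h⟩ := s.sw i j ij
    exact ⟨f w, K i j ▸ mem_map_of_mem f hw, I h⟩
  · rw [K, K]
    rintro _ ⟨x, hx, rfl⟩ _ ⟨y, hy, rfl⟩
    exact (s.dis i j k l D x hx y hy).map f
  · rintro _ ⟨x, rfl⟩ h
    rw [← map_pow, s.tor x (mem_top x) fun i j => cm c o (s.fm.sq i j) (h i j), map_one]
  · obtain ⟨x, rfl⟩ := (h1 hx).1
    exact (s.al i j ij (N.comap f) (fun y hy => ⟨mem_top y, mem_Cz.2 (cm c o (s.fm.sq i j) (mem_Cz.1 (h1 hy).2))⟩)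
      (fun g hg => nrm (h2 ⟨⟨g, rfl⟩, mem_Cz.2 ((mem_Cz.1 hg.2).map f)⟩)) (odd_comap o h3) x hx k l).map f

/-- `b k` acts on the image as `β k`. -/
theorem St.of (s : S0 p e ⊤ τ) {β : κ → MulAut Γ} (r : Rf p τ β) [Finite κ] (f : Γ →* X) (c : f.ker ≤ center Γ)
    (o : Odd (Nat.card f.ker)) {b : κ → X} (e1 : ∀ i j, f (τ i j) = b i * b j) (sq : ∀ k, b k * b k = 1)
    (cen : ∀ i j k, i ≠ j → k ≠ i → k ≠ j → ∀ x ∈ KK p f.range (b i * b j), Commute x (b k)) : St p e f.range b := by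
  have key : ∀ k x, b k * f x * (b k)⁻¹ = f (β k x) := fun k x =>
    s.gen (((MulAut.conj (b k)).toMonoidHom.comp f).eqLocus (f.comp (β k).toMonoidHom)) (fun i j ij x hx => by
      obtain ⟨l, hl⟩ := exists_new [i, j] (by have := s.four; simp; omega)
      simp only [List.mem_cons, List.not_mem_nil, or_false, not_or] at hl
      have h1 := conj_eq_of_comm (cen i j l ij hl.1 hl.2 (f x) (by
        rw [← e1, ← s.map_KK f c o (s.fm.sq i j)]; exact mem_map_of_mem f hx)).symm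
      have h2 := r.two k l x
      rw [r.cen i j l ij hl.1 hl.2 x hx] at h2
      change b k * f x * (b k)⁻¹ = f (β k x)
      rw [h2, map_mul, map_mul, map_inv, e1, ← h1,
        show b k * b l * (b l * f x * (b l)⁻¹) * (b k * b l)⁻¹ = b k * (b l * b l) * f x * (b l * b l)⁻¹ * (b k)⁻¹ by group,
        sq, h1]
      group) (mem_top x)
  have k1 : ∀ k, ∀ x ∈ f.range, b k * x * (b k)⁻¹ ∈ f.range := by
    rintro k _ ⟨x, rfl⟩
    exact ⟨_, (key k x).symm⟩
  refine ⟨by simpa only [e1] using s.map f c o, fun k => mem_normalizer_iff.2 fun x => ⟨k1 k x, fun h => ?_⟩, sq, cen,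
    fun k N h1 h2 h3 x hx i j => ?_⟩
  · have := k1 k _ h
    rwa [show b k * (b k * x * (b k)⁻¹) * (b k)⁻¹ = b k * b k * x * (b k * b k)⁻¹ by group, sq, inv_one, one_mul,
      mul_one] at this
  obtain ⟨y, rfl⟩ := (h1 hx).1
  have m : y⁻¹ * β k y ∈ f.ker := by
    rw [MonoidHom.mem_ker, map_mul, map_inv, ← key, conj_eq_of_comm (mem_Cz.1 (h1 hx).2).symm, inv_mul_cancel]
  obtain ⟨n, hn⟩ := o.of_dvd_nat (orderOf_dvd_natCard _ m)
  have b2 : β k (y⁻¹ * β k y) = (y⁻¹ * β k y)⁻¹ := by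
    rw [map_mul, map_inv, r.two, s.fm.self]; group
  have e2 : β k y = y * (y⁻¹ * β k y) := by group
  have e3 := pow_orderOf_eq_one (y⁻¹ * β k y)
  rw [hn] at e3
  generalize y⁻¹ * β k y = d at *
  have e4 : f (y * d ^ (n + 1)) = f y := by rw [map_mul, map_pow, m, one_pow, mul_one]
  rw [← e1, ← e4]
  refine (r.alr k (N.comap f ⊓ (β k).toMonoidHom.eqLocus (MonoidHom.id Γ)) (fun x hx => hx.2)
    (fun g hg => inf_normalizer_le_normalizer_inf ⟨Mp.nrm (h2 ⟨⟨g, rfl⟩, mem_Cz.2 (comm_of_conj_eq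
      ((key k g).trans (congrArg f hg))).symm⟩), le_normalizer hg⟩)
    ((odd_comap o h3).of_dvd_nat (card_dvd_of_le inf_le_left)) _ ⟨mem_comap.2 (e4.symm ▸ hx), ?_⟩ i j).map f
  change β k _ = y * d ^ (n + 1)
  rw [map_mul, map_pow, b2, e2, ← mul_one (y * d * _), ← e3]
  group

/-- For a permutation `σ`, the elements of `L` inducing `σ` form a coset of `D = C_L(frame)`, `r ∤ |D|`. -/
theorem S0.trick {G : Type*} [Group G] [Finite G] [Finite κ] {L : Subgroup G} {τ : κ → κ → G} (s : S0 p e L τ) {r k : ℕ} (hr : r.Prime)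
    (re : r.Coprime e) {y : G} (n : y ∈ normalizer (L : Set G)) (yk : y ^ r ^ k = 1) (yt : ∀ i j, Commute y (τ i j)) {c d : κ}
    (cd : c ≠ d) (yK : ∀ x ∈ KK p L (τ c d), Commute y x) : ∀ x ∈ L, Commute y x := by
  have := Fact.mk hr
  have h1 : indS τ L = ⊤ := eq_top_of_star c fun k hk => by
    obtain ⟨w, hw, h⟩ := s.sw c k hk.symm
    exact ⟨w, (KK_le p L _ hw).1, h⟩
  have mC : ∀ {x}, x ∈ centralizer {x | ∃ i j, x = τ i j} ↔ ∀ i j, Commute x (τ i j) :=
    ⟨fun h i j => (h _ ⟨i, j, rfl⟩).symm, fun h _ ⟨i, j, e⟩ => e ▸ (h i j).symm⟩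
  have yC := zpowers_le.2 (mC.2 yt)
  have nL := zpowers_le.2 n
  refine fun x hx => (mem_Cz.1 (s.gen (Cz y) (fun i j ij => ?_) hx)).symm
  obtain ⟨σ, rfl, rfl⟩ := exists_perm2 cd ij
  obtain ⟨w, hw, h⟩ := h1.ge (mem_top σ)
  obtain ⟨u, hu, k⟩ := fix_coset (isPGroup_zpowers yk) (D := L ⊓ centralizer {x | ∃ i j, x = τ i j})
    (le_normalizer_inf nL (yC.trans le_normalizer)) (fun h => by
      obtain ⟨x, hx⟩ := exists_prime_orderOf_dvd_card' r h
      rw [← orderOf_coe] at hx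
      exact hr.coprime_iff_not_dvd.1 re (hx ▸ orderOf_dvd_of_pow_eq_one (s.tor x x.2.1 (mC.1 x.2.2)))) (x := w)
    fun a ha => by
      have I : Ind τ a 1 := fun i j => conj_eq_of_comm (mC.1 (yC ha) i j)
      exact mem_inf.2 ⟨mul_mem (inv_mem hw) (conj_mem_of_normalizes nL ha hw), mC.2 fun i j =>
        (h.inv.mul ((I.mul h).mul I.inv)).comm (by simp) (by simp)⟩
  have I : Ind τ (w * u) (σ * 1) := h.mul fun i j => conj_eq_of_comm (mC.1 hu.2 i j)
  have := cj_KK p (w * u) L (τ c d)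
  rw [cj_eq_of_mem_normalizer (le_normalizer (mul_mem hw hu.1)), I, mul_one] at this
  rw [← this]
  rintro _ ⟨x, hx, rfl⟩
  have c := k y (mem_zpowers y)
  exact mem_Cz.2 ((c.mul_right (yK x hx)).mul_right c.inv_right).symm

end CL.Lm
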