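import Cfsg.Agent.FUS.Lm.Def
import Cfsg.Agent.CHEV.Phan3

/-! # Reflections and blocks -/

set_option autoImplicit false

namespace CL.Lm

open Subgroup Cfsg Matrix CL.Chev.Phan

variable {K : Type*} [Field K] {ι : Type*} [Fintype ι] [DecidableEq ι] {Γ : Type*} [Group Γ]

variable (K) in
/-- the reflection in the coordinate `i`. -/
def rf (i : ι) : Matrix ι ι K := diagonal fun x => if x = i then -1 else 1

theorem rf_sq (i : ι) : rf K i * rf K i = 1 := by
  rw [rf, diagonal_mul_diagonal, ← diagonal_one]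
  congr 1; ext x; split_ifs <;> simp

theorem rf_comm (i j : ι) : rf K i * rf K j = rf K j * rf K i := by
  simp only [rf, diagonal_mul_diagonal, mul_comm]

theorem det_rf (i : ι) : (rf K i).det = -1 := by simp [rf, Finset.prod_ite_eq']

theorem rf_mul (i j : ι) :
    rf K i * rf K j = diagonal fun x => (if x = i then -1 else 1) * if x = j then -1 else 1 :=
  diagonal_mul_diagonal _ _

/-- a matrix commutes with a diagonal matrix iff it respects the eigenspaces. -/
theorem comm_diagonal {M : Matrix ι ι K} {d : ι → K} :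
    M * diagonal d = diagonal d * M ↔ ∀ r c, d r ≠ d c → M r c = 0 := by
  simp only [← Matrix.ext_iff, mul_diagonal, diagonal_mul]
  refine forall₂_congr fun r c => ⟨fun h e => ?_, fun h => ?_⟩
  · exact (mul_eq_zero.1 (show (d r - d c) * M r c = 0 by linear_combination -h)).resolve_left (sub_ne_zero.2 e)
  · by_cases e : d r = d c
    · rw [e, mul_comm]
    · rw [h e, zero_mul, mul_zero]

variable (K) in
/-- the sign matrix with `-1` on `I`. -/
def sg (I : Finset ι) : Matrix ι ι K := diagonal fun x => if x ∈ I then -1 else 1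

/-- the codimension of the fixed space. -/
noncomputable def rk (M : Matrix ι ι K) : ℕ := (M - 1).rank

theorem sg_sq (I : Finset ι) : sg K I * sg K I = 1 := by
  rw [sg, diagonal_mul_diagonal, ← diagonal_one]
  congr 1; ext x; split_ifs <;> simp

theorem det_sg (I : Finset ι) : (sg K I).det = (-1) ^ I.card := by
  simp [sg, Finset.prod_ite_mem]

theorem sg_single (i : ι) : sg K {i} = rf K i := by simp [sg, rf]

theorem sg_pair {i j : ι} (h : i ≠ j) : sg K {i, j} = rf K i * rf K j := by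
  rw [rf_mul, sg]
  congr 1; ext x
  by_cases a : x = i <;> by_cases b : x = j <;> simp_all

variable (K) in
/-- the standard frame of `SL`. -/
def ts (i j : ι) : SpecialLinearGroup ι K := ⟨rf K i * rf K j, by rw [det_mul, det_rf, det_rf]; simp⟩

theorem coe_ts (i j : ι) : (ts K i j).1 = rf K i * rf K j := rfl

variable (K) in
/-- the standard frame of `PSL`. -/
def tp (i j : ι) : ProjectiveSpecialLinearGroup ι K := QuotientGroup.mk (ts K i j)

/-- the standard frame of `SU`. -/
def tu {n q : ℕ} [Fintype K] (hK : Fintype.card K = q ^ 2) (o : Odd q) (i j : Fin n) : SU n K q :=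
  ⟨ts K i j, (CL.SpU.mem_SU_iff hK).2 (by
    have : ∀ i : Fin n, CL.SpU.ct hK (rf K i) = rf K i := fun i => by
      ext r c
      rw [CL.SpU.ct_apply, rf, diagonal_apply, diagonal_apply]
      by_cases e : r = c
      · subst e; split_ifs <;> simp_all [o.neg_pow]
      · rw [if_neg e, if_neg (Ne.symm e), zero_pow o.pos.ne']
    rw [coe_ts, CL.SpU.ct_mul, this, this, mul_assoc, ← mul_assoc (rf K i), rf_sq, one_mul, rf_sq])⟩

/-- `M` is the identity outside the block `I`. -/
def Bk (I : Set ι) (M : Matrix ι ι K) : Prop :=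
  ∀ r ∉ I, ∀ c, M r c = (1 : Matrix ι ι K) r c ∧ M c r = (1 : Matrix ι ι K) c r

theorem Bk.mul_row {I : Set ι} {M : Matrix ι ι K} (h : Bk I M) (N : Matrix ι ι K) {r : ι} (hr : r ∉ I) (c : ι) :
    (M * N) r c = N r c := by
  rw [← one_mul N, ← mul_assoc, mul_one, mul_apply, mul_apply]
  exact Finset.sum_congr rfl fun x _ => by rw [(h r hr x).1]

theorem Bk.mul_col {I : Set ι} {M : Matrix ι ι K} (h : Bk I M) (N : Matrix ι ι K) {r : ι} (hr : r ∉ I) (c : ι) :
    (N * M) c r = N c r := by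
  rw [← mul_one N, mul_assoc, one_mul, mul_apply, mul_apply]
  exact Finset.sum_congr rfl fun x _ => by rw [(h r hr x).2]

/-- the block subgroup. -/
def blk (μ : Γ →* Matrix ι ι K) (I : Set ι) : Subgroup Γ where
  carrier := {x | Bk I (μ x)}
  one_mem' := fun _ _ _ => by simp
  mul_mem' {x y} hx hy r hr c := by
    rw [map_mul, Bk.mul_row hx _ hr, Bk.mul_col hy _ hr]
    exact ⟨(hy r hr c).1, (hx r hr c).2⟩
  inv_mem' {x} hx r hr c := by
    rw [← Bk.mul_row hx (μ x⁻¹) hr, ← Bk.mul_col hx (μ x⁻¹) hr c, ← map_mul, ← map_mul, mul_inv_cancel, inv_mul_cancel,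
      map_one]
    exact ⟨rfl, rfl⟩

theorem mem_blk {μ : Γ →* Matrix ι ι K} {I : Set ι} {x : Γ} : x ∈ blk μ I ↔ Bk I (μ x) := Iff.rfl

/-- the block embedding of special linear groups. -/
def eL {k N : ℕ} (g : Fin k ↪ Fin N) : SpecialLinearGroup (Fin k) K →* SpecialLinearGroup (Fin N) K where
  toFun A := ⟨embM g A.1, by rw [det_embM, A.2]⟩
  map_one' := Subtype.ext (embM_one g)
  map_mul' A B := Subtype.ext (embM_mul g A.1 B.1)

theorem eL_inj {k N : ℕ} (g : Fin k ↪ Fin N) : Function.Injective (eL (K := K) g) := fun _ _ h =>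
  Subtype.ext (embM_inj g (congrArg Subtype.val h))

theorem bk_embM {k N : ℕ} (g : Fin k ↪ Fin N) (A : Matrix (Fin k) (Fin k) K) : Bk (Set.range g) (embM g A) :=
  fun _ hr c => ⟨embM_row g A hr c, embM_col g A c hr⟩

theorem Bk.eq_embM {k N : ℕ} {g : Fin k ↪ Fin N} {M : Matrix (Fin N) (Fin N) K} (h : Bk (Set.range g) M) :
    M = embM g (M.submatrix g g) := CL.Chev.Phan.eq_embM g (fun _ _ => rfl) h

theorem range_eL {k N : ℕ} (g : Fin k ↪ Fin N) : (eL (K := K) g).range = blk (slToMat N K) (Set.range g) :=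
  Subgroup.ext fun x => ⟨by rintro ⟨A, rfl⟩; exact bk_embM g A.1, fun h =>
    have e : x.1 = embM g (x.1.submatrix g g) := Bk.eq_embM h
    ⟨⟨x.1.submatrix g g, by rw [← det_embM g, ← e, x.2]⟩, Subtype.ext e.symm⟩⟩

theorem embM_rf {k N : ℕ} (g : Fin k ↪ Fin N) (i : Fin k) : embM g (rf K i) = rf K (g i) :=
  (CL.Chev.Phan.eq_embM g (fun a b => by simp [rf, diagonal_apply]) fun r hr c => by
    have : r ≠ g i := fun e => hr ⟨i, e.symm⟩
    simp only [rf, diagonal_apply, one_apply]
    exact ⟨by rw [if_neg this], by split_ifs <;> simp_all⟩).symm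

theorem eL_ts {k N : ℕ} (g : Fin k ↪ Fin N) (i j : Fin k) : eL g (ts K i j) = ts K (g i) (g j) :=
  Subtype.ext (by
    change embM g (rf K i * rf K j) = rf K (g i) * rf K (g j)
    rw [embM_mul, embM_rf, embM_rf])

/-- The common properties of `SL_m(q)` and `SU_m(q)`; `F` has `q` elements, `e = q ∓ 1`. -/
structure Cl (μ : Γ →* Matrix ι ι K) (τ : ι → ι → Γ) (F : Type*) [Field F] (e : ℕ) : Prop where
  inj : Function.Injective μ
  det : ∀ x, (μ x).det = 1
  tau : ∀ i j, μ (τ i j) = rf K i * rf K j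
  sw : ∀ i j, i ≠ j → ∃ w ∈ blk μ {i, j}, μ w i i = 0 ∧ μ w j j = 0
  cj : ∀ k x, ∃ y, μ y = rf K k * μ x * rf K k
  gen : ∀ M : Subgroup Γ, (∀ i j, i ≠ j → blk μ {i, j} ≤ M) → M = ⊤
  iso : ∀ i j, i ≠ j → Nonempty (SpecialLinearGroup (Fin 2) F ≃* blk μ {i, j})
  tor : ∀ x d, μ x = diagonal d → x ^ e = 1
  adj : ∀ g : GL ι K, (∀ i j, ∃ x, μ x * g.1 = g.1 * (rf K i * rf K j)) →
    ∃ y d, μ y = g.1 * diagonal d

end CL.Lm
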