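import Cfsg.Agent.FUS.Lm.Diag
import Cfsg.Agent.FUS.Lm.Avg

/-! # Supports, blocks and 2-subgroups of `GL_m(q)` -/

set_option autoImplicit false

namespace CL.Lm.SC

open Subgroup Cfsg Matrix

section Grp

variable {G : Type*} [Group G]

theorem pg_zp {x : G} {k : ℕ} (e : x ^ 2 ^ k = 1) : IsPGroup 2 (zpowers x) := by
  rintro ⟨_, n, rfl⟩
  refine ⟨k, Subtype.ext ?_⟩
  change (x ^ n) ^ 2 ^ k = 1
  rw [← _root_.zpow_natCast, ← _root_.zpow_mul, mul_comm, _root_.zpow_mul, _root_.zpow_natCast, e, _root_.one_zpow]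

theorem pg_inv {x : G} (e : x * x = 1) : IsPGroup 2 (zpowers x) := pg_zp (k := 1) (by rw [pow_one, sq, e])

theorem pw {P : Subgroup G} (h : IsPGroup 2 P) {x : G} (hx : x ∈ P) : ∃ k, x ^ 2 ^ k = 1 :=
  (h ⟨x, hx⟩).imp fun _ e => congrArg Subtype.val e

theorem sup_cm {P Q : Subgroup G} (hP : IsPGroup 2 P) (hQ : IsPGroup 2 Q) (h : ∀ a ∈ P, ∀ b ∈ Q, a * b = b * a) :
    IsPGroup 2 (P ⊔ Q : Subgroup G) :=
  hP.to_sup_of_normal_right' hQ fun a ha => centralizer_le_normalizer _ fun b hb => (h a ha b hb).symm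

theorem sup_zp [Finite G] {Q : Subgroup G} (hQ : IsPGroup 2 Q) {s : G} (hs : IsPGroup 2 (zpowers s))
    (h : ∀ a ∈ Q, s * a * s⁻¹ ∈ Q) : IsPGroup 2 (Q ⊔ zpowers s : Subgroup G) :=
  hQ.to_sup_of_normal_left' hs (zpowers_le.2 (mem_normalizer_fintype h))

theorem syl [Finite G] (B : Subgroup G) {x : G} (hx : x ∈ B) {k : ℕ} (e : x ^ 2 ^ k = 1) :
    ∃ P ≤ B, IsPGroup 2 P ∧ x ∈ P ∧ ∀ E ≤ B, IsPGroup 2 E → ∃ g ∈ B, ∀ y ∈ E, g * y * g⁻¹ ∈ P := by
  obtain ⟨P, hP⟩ := (pg_zp (x := (⟨x, hx⟩ : B)) (k := k) (Subtype.ext e)).exists_le_sylow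
  refine ⟨P.1.map B.subtype, map_subtype_le _, P.2.map _, ⟨_, hP (mem_zpowers _), rfl⟩, fun E hE h => ?_⟩
  obtain ⟨P', hP'⟩ := (h.comap_subtype (K := B)).exists_le_sylow
  obtain ⟨g, rfl⟩ := MulAction.exists_smul_eq B P' P
  exact ⟨g, g.2, fun y hy => ⟨g * ⟨y, hE hy⟩ * g⁻¹, smul_mem_pointwise_smul _ (MulAut.conj g) _ (hP' hy), rfl⟩⟩

end Grp

variable {F : Type*} [Field F] {ι : Type*} [Fintype ι] [DecidableEq ι]

/-- the elements supported on the projection `e`. -/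
def Su (e : Matrix ι ι F) : Subgroup (GL ι F) where
  carrier := {x | (x.1 - 1) * e = x.1 - 1 ∧ e * (x.1 - 1) = x.1 - 1}
  one_mem' := by simp
  mul_mem' {x y} hx hy := by
    have a : (x * y).1 - 1 = x.1 * (y.1 - 1) + (x.1 - 1) := by rw [Units.val_mul]; noncomm_ring
    have b : (x * y).1 - 1 = (x.1 - 1) * y.1 + (y.1 - 1) := by rw [Units.val_mul]; noncomm_ring
    exact ⟨by rw [a, add_mul, mul_assoc, hx.1, hy.1], by rw [b, mul_add, ← mul_assoc, hx.2, hy.2]⟩
  inv_mem' {x} hx := by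
    have a : (x⁻¹).1 - 1 = -((x⁻¹).1 * (x.1 - 1)) := by rw [mul_sub, Units.inv_mul, mul_one, neg_sub]
    have b : (x⁻¹).1 - 1 = -((x.1 - 1) * (x⁻¹).1) := by rw [sub_mul, Units.mul_inv, one_mul, neg_sub]
    exact ⟨by rw [a, neg_mul, mul_assoc, hx.1], by rw [b, mul_neg, ← mul_assoc, hx.2]⟩

variable {e e' : Matrix ι ι F} {x y g : GL ι F} {I J : Finset ι}

theorem mem_Su : x ∈ Su e ↔ (x.1 - 1) * e = x.1 - 1 ∧ e * (x.1 - 1) = x.1 - 1 := Iff.rfl

theorem Su.comm (h : x ∈ Su e) : x.1 * e = e * x.1 := by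
  have := h.1.trans h.2.symm
  rwa [sub_mul, mul_sub, one_mul, mul_one, sub_left_inj] at this

theorem Su.mul_zero (hx : x ∈ Su e) (hy : y ∈ Su e') (h : e * e' = 0) : (x.1 - 1) * (y.1 - 1) = 0 := by
  rw [← hx.1, ← hy.2, mul_assoc, ← mul_assoc e, h, zero_mul, _root_.MulZeroClass.mul_zero]

theorem Su.cm (hx : x ∈ Su e) (hy : y ∈ Su e') (h : e * e' = 0) (h' : e' * e = 0) : x * y = y * x := by
  apply Units.ext
  rw [Units.val_mul, Units.val_mul, ← sub_eq_zero,
    show x.1 * y.1 - y.1 * x.1 = (x.1 - 1) * (y.1 - 1) - (y.1 - 1) * (x.1 - 1) by noncomm_ring,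
    Su.mul_zero hx hy h, Su.mul_zero hy hx h', sub_zero]

theorem Su.conj (hx : x ∈ Su e) (h : g.1 * e = e' * g.1) : g * x * g⁻¹ ∈ Su e' := by
  have a : (g * x * g⁻¹).1 - 1 = g.1 * (x.1 - 1) * (g⁻¹).1 := by
    rw [mul_sub, sub_mul, mul_one, Units.mul_inv, Units.val_mul, Units.val_mul]
  have b : (g⁻¹).1 * e' = e * (g⁻¹).1 := by
    rw [Units.inv_mul_eq_iff_eq_mul, ← mul_assoc, h, Units.mul_inv_cancel_right]
  exact ⟨by rw [a, mul_assoc, b, ← mul_assoc, mul_assoc g.1, hx.1],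
    by rw [a, ← mul_assoc, ← mul_assoc, ← h, mul_assoc g.1, hx.2]⟩

theorem inv_comm (h : x.1 * e = e' * x.1) : (x⁻¹).1 * e' = e * (x⁻¹).1 := by
  rw [Units.inv_mul_eq_iff_eq_mul, ← mul_assoc, h, Units.mul_inv_cancel_right]

theorem pt_mul {A B : Matrix ι ι F} (he : e * e = e) (h : B * e = e * B) :
    (A * e + (1 - e)) * (B * e + (1 - e)) = A * B * e + (1 - e) := by
  have a : e * (B * e) = B * e := by rw [← mul_assoc, ← h, mul_assoc, he]
  simp only [add_mul, mul_add, sub_mul, mul_sub, one_mul, mul_one, mul_assoc, a, he]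
  abel

/-- the part of `x` on the projection `e`. -/
def pt (x : GL ι F) (he : e * e = e) (h : x.1 * e = e * x.1) : GL ι F :=
  ⟨x.1 * e + (1 - e), (x⁻¹).1 * e + (1 - e), by rw [pt_mul he (inv_comm h)]; simp, by rw [pt_mul he h]; simp⟩

theorem pt_mem (he : e * e = e) (h : x.1 * e = e * x.1) : pt x he h ∈ Su e := by
  have a : (pt x he h).1 - 1 = (x.1 - 1) * e := by simp only [pt]; noncomm_ring
  exact ⟨by rw [a, mul_assoc, he], by rw [a, ← mul_assoc, mul_sub, ← h, sub_mul, sub_mul, mul_assoc, mul_one, he, one_mul]⟩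

theorem pt_pow (he : e * e = e) (h : x.1 * e = e * x.1) {n : ℕ} (hn : x ^ n = 1) : pt x he h ^ n = 1 := by
  have : ∀ n, (pt x he h ^ n).1 = (x ^ n).1 * e + (1 - e) := fun n => by
    induction n with
    | zero => simp
    | succ n ih => rw [pow_succ, pow_succ, Units.val_mul, Units.val_mul, ih, ← pt_mul he h]; rfl
  exact Units.ext (by simp [this, hn])

theorem pt_pt (he : e * e = e) (h : x.1 * e = e * x.1) (he' : e' * e' = e') (h' : x.1 * e' = e' * x.1)
    (o : e * e' = 0) (hx : x ∈ Su (e + e')) : pt x he h * pt x he' h' = x := by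
  apply Units.ext
  have a : e * (x.1 * e') = 0 := by rw [h', ← mul_assoc, o, zero_mul]
  have b := hx.1
  change (x.1 * e + (1 - e)) * (x.1 * e' + (1 - e')) = x.1
  simp only [add_mul, mul_add, sub_mul, mul_sub, one_mul, mul_one, mul_assoc, a, o, mul_zero] at b ⊢
  linear_combination (norm := abel) b

variable (F) in
/-- the coordinate projection. -/
def pj (I : Finset ι) : Matrix ι ι F := diagonal fun x => if x ∈ I then 1 else 0

theorem pj_mul (I J : Finset ι) : pj F I * pj F J = pj F (I ∩ J) := by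
  rw [pj, pj, pj, diagonal_mul_diagonal]
  congr 1; ext x
  by_cases a : x ∈ I <;> by_cases b : x ∈ J <;> simp [a, b]

theorem pj_sq (I : Finset ι) : pj F I * pj F I = pj F I := by rw [pj_mul, Finset.inter_self]

theorem pj_disj (h : Disjoint I J) : pj F I * pj F J = 0 := by
  rw [pj_mul, Finset.disjoint_iff_inter_eq_empty.1 h]; simp [pj]

omit [Fintype ι] in
theorem pj_add (h : J ⊆ I) : pj F J + pj F (I \ J) = pj F I := by
  rw [pj, pj, pj, diagonal_add]
  congr 1; ext x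
  by_cases a : x ∈ I <;> by_cases b : x ∈ J <;> simp [a, b]
  exact a (h b)

omit [Fintype ι] in
theorem sg_eq (I : Finset ι) : sg F I = 1 - (2 : F) • pj F I := by
  ext r c
  simp only [sg, pj, Matrix.sub_apply, Matrix.smul_apply, diagonal_apply, one_apply, smul_eq_mul]
  split_ifs <;> norm_num

theorem pj_of_sg (h2 : (2 : F) ≠ 0) {A : Matrix ι ι F} (h : A * sg F I = sg F J * A) : A * pj F I = pj F J * A := by
  rw [sg_eq, sg_eq, mul_sub, sub_mul, mul_one, one_mul, sub_right_inj, mul_smul_comm, smul_mul_assoc] at h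
  exact smul_right_injective _ h2 h

theorem sg_of_pj {A : Matrix ι ι F} (h : A * pj F I = pj F J * A) : A * sg F I = sg F J * A := by
  rw [sg_eq, sg_eq, mul_sub, sub_mul, mul_one, one_mul, mul_smul_comm, smul_mul_assoc, h]

theorem mem_pj : x ∈ Su (pj F I) ↔ Bk (I : Set ι) x.1 := by
  simp only [mem_Su, pj, ← Matrix.ext_iff, mul_diagonal, diagonal_mul, Bk, Matrix.sub_apply]
  refine ⟨fun h r hr c => ⟨?_, ?_⟩, fun h => ⟨fun r c => ?_, fun r c => ?_⟩⟩
  · exact sub_eq_zero.1 (by simpa [show r ∉ I from hr] using (h.2 r c).symm)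
  · exact sub_eq_zero.1 (by simpa [show r ∉ I from hr] using (h.1 c r).symm)
  · by_cases a : c ∈ I
    · simp [a]
    · simp [(h c a r).2]
  · by_cases a : r ∈ I
    · simp [a]
    · simp [(h r a c).1]

theorem pj_mono (h : J ⊆ I) : Su (pj F J) ≤ Su (pj F I) := fun _ hx =>
  mem_pj.2 fun r hr => mem_pj.1 hx r fun a => hr (h a)

theorem pj_cm (hx : x ∈ Su (pj F I)) (hy : y ∈ Su (pj F J)) (h : Disjoint I J) : x * y = y * x :=
  Su.cm hx hy (pj_disj h) (pj_disj h.symm)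

/-- diagonal matrices. -/
def dg : (ι → Fˣ) →* GL ι F where
  toFun d := ⟨diagonal fun i => d i, diagonal fun i => ((d i)⁻¹ : Fˣ), by simp [diagonal_mul_diagonal],
    by simp [diagonal_mul_diagonal]⟩
  map_one' := Units.ext (by simp)
  map_mul' a b := Units.ext (by simp [diagonal_mul_diagonal])

theorem dg_mem {d : ι → Fˣ} (h : ∀ r ∉ I, d r = 1) : dg d ∈ Su (pj F I) := mem_pj.2 fun r hr c => by
  change diagonal _ r c = _ ∧ diagonal _ c r = _
  by_cases a : r = c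
  · subst a; simp [h r hr]
  · simp [a, Ne.symm a]

theorem det_dg (i : ι) (δ : Fˣ) : (dg (Pi.mulSingle i δ : ι → Fˣ)).1.det = δ := by
  change det (diagonal _) = _
  rw [det_diagonal, ← Units.coe_prod, Finset.prod_pi_mulSingle']
  simp

variable (F) in
/-- sign matrices. -/
def sG (I : Finset ι) : GL ι F := ⟨sg F I, sg F I, sg_sq I, sg_sq I⟩

theorem sG_sq (I : Finset ι) : sG F I * sG F I = 1 := Units.ext (sg_sq I)

theorem sG_mul (I J : Finset ι) : sG F I * sG F J = sG F (symmDiff I J) := Units.ext (by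
  change sg F I * sg F J = sg F _
  rw [sg, sg, sg, diagonal_mul_diagonal]
  congr 1; ext x
  by_cases a : x ∈ I <;> by_cases b : x ∈ J <;> simp [a, b, Finset.mem_symmDiff])

theorem sG_comm (I J : Finset ι) : sG F I * sG F J = sG F J * sG F I := by rw [sG_mul, sG_mul, symmDiff_comm]

theorem sG_mem (h2 : (2 : F) ≠ 0) : sG F J ∈ Su (pj F I) ↔ J ⊆ I := by
  rw [mem_pj]
  refine ⟨fun h r hr => not_not.1 fun a => h2 ?_, fun h r hr c => ?_⟩
  · have : sg F J r r = _ := (h r a r).1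
    simp only [sg, diagonal_apply_eq, if_pos hr, one_apply_eq] at this
    linear_combination -this
  · change diagonal _ r c = _ ∧ diagonal _ c r = _
    by_cases a : r = c
    · subst a; simp [show r ∉ J from fun b => hr (h b)]
    · simp [a, Ne.symm a]

theorem sG_inj (h2 : (2 : F) ≠ 0) (h : sG F I = sG F J) : I = J :=
  ((sG_mem h2).1 (h ▸ (sG_mem h2).2 le_rfl)).antisymm ((sG_mem h2).1 (h ▸ (sG_mem h2).2 le_rfl))

theorem det_conj (g x : GL ι F) : (g * x * g⁻¹).1.det = x.1.det := det_units_conj g x.1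

/-- a 2-element supported on `J` lies in a 2-group together with a homology of the same determinant. -/
theorem homol [Finite F] {i : ι} (hi : i ∈ J) (hx : x ∈ Su (pj F J)) {k : ℕ} (e : x ^ 2 ^ k = 1) :
    ∃ P ≤ Su (pj F J), IsPGroup 2 P ∧ x ∈ P ∧ ∃ g ∈ Su (pj F J), ∃ δ : Fˣ, x.1.det = δ ∧ δ ^ 2 ^ k = 1 ∧
      g * dg (Pi.mulSingle i δ) * g⁻¹ ∈ P := by
  obtain ⟨P, h1, h2, h3, h4⟩ := syl _ hx e
  have hδ : GeneralLinearGroup.det x ^ 2 ^ k = 1 := by rw [← map_pow, e, map_one]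
  obtain ⟨g, hg, h5⟩ := h4 (zpowers (dg (Pi.mulSingle i (GeneralLinearGroup.det x))))
    (zpowers_le.2 (dg_mem fun r hr => Pi.mulSingle_eq_of_ne (by rintro rfl; exact hr hi) _))
    (pg_zp (k := k) (by rw [← map_pow, ← Pi.mulSingle_pow, hδ, Pi.mulSingle_one, map_one]))
  exact ⟨P, h1, h2, h3, g, hg, _, rfl, hδ, h5 _ (mem_zpowers _)⟩

section Em

variable {κ : Type*} [Fintype κ] [DecidableEq κ] (t : κ ↪ ι)

variable (F) in
def inc : Matrix ι κ F := of fun r c => if r = t c then 1 else 0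

omit [Fintype κ] in
theorem inc_inc : (inc F t)ᵀ * inc F t = (1 : Matrix κ κ F) := by
  ext i j; simp [inc, Matrix.mul_apply, one_apply, t.injective.eq_iff, eq_comm]

/-- the block matrix. -/
def em (A : Matrix κ κ F) : Matrix ι ι F := 1 + inc F t * (A - 1) * (inc F t)ᵀ

omit [Fintype ι] in
theorem em_one : em t (1 : Matrix _ _ F) = 1 := by simp [em]

theorem em_mul (A B : Matrix κ κ F) : em t (A * B) = em t A * em t B := by
  have : inc F t * (A - 1) * (inc F t)ᵀ * (inc F t * (B - 1) * (inc F t)ᵀ) = inc F t * ((A - 1) * (B - 1)) * (inc F t)ᵀ := by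
    simp only [Matrix.mul_assoc]; rw [← Matrix.mul_assoc (inc F t)ᵀ, inc_inc, Matrix.one_mul]
  rw [em, em, em, Matrix.add_mul, Matrix.mul_add, Matrix.mul_add, this, Matrix.one_mul, Matrix.one_mul,
    Matrix.mul_one, show A * B - 1 = (B - 1) + (A - 1) + (A - 1) * (B - 1) by noncomm_ring]
  simp only [Matrix.mul_add, Matrix.add_mul, add_assoc]

omit [Fintype ι] in
theorem em_gg (A : Matrix κ κ F) (i j : κ) : em t A (t i) (t j) = A i j := by
  simp [em, inc, Matrix.mul_apply, one_apply, t.injective.eq_iff]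

omit [Fintype ι] in
theorem em_out (A : Matrix κ κ F) {r : ι} (hr : r ∉ Set.range t) (c : ι) :
    em t A r c = (1 : Matrix _ _ F) r c ∧ em t A c r = (1 : Matrix _ _ F) c r := by
  have : ∀ i, r ≠ t i := fun i e => hr ⟨i, e.symm⟩
  simp [em, inc, Matrix.mul_apply, one_apply, this]

omit [Fintype ι] in
theorem eq_em {M : Matrix ι ι F} (h : Bk (Set.range t) M) : M = em t (M.submatrix t t) := by
  ext r c
  by_cases hr : r ∈ Set.range t
  · by_cases hc : c ∈ Set.range t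
    · obtain ⟨i, rfl⟩ := hr; obtain ⟨j, rfl⟩ := hc; rw [em_gg]; rfl
    · rw [(em_out t _ hc r).2, (h c hc r).2]
  · rw [(em_out t _ hr c).1, (h r hr c).1]

theorem det_em (A : Matrix κ κ F) : (em t A).det = A.det := by
  rw [em, det_one_add_mul_comm, ← Matrix.mul_assoc, inc_inc, Matrix.one_mul, add_sub_cancel]

end Em

/-- the embedding of two indices. -/
def t2 {i j : ι} (h : i ≠ j) : Fin 2 ↪ ι := ⟨![i, j], fun a b => by fin_cases a <;> fin_cases b <;> simp [h, h.symm]⟩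

omit [Fintype ι] in
theorem range_t2 {i j : ι} (h : i ≠ j) : Set.range (t2 h) = (({i, j} : Finset ι) : Set ι) := by
  ext x
  change (∃ a, ![i, j] a = x) ↔ _
  simp [Fin.exists_fin_two, eq_comm]

end CL.Lm.SC
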